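import Mathlib.GroupTheory.GroupAction.CardCommute
import Mathlib.GroupTheory.SpecificGroups.Cyclic
import Mathlib.GroupTheory.Perm.Cycle.Type
import Mathlib.Tactic.Linarith
import Mathlib.Tactic.Ring

/-!
Class number of a group with a cyclic subgroup of index two inverted by the outer elements.
-/

set_option autoImplicit false
set_option linter.unusedSectionVars false
set_option linter.style.haveILetI false

namespace CfsgLib.SL2C

open Finset
open scoped Classical

theorem mem_of_not_mem_mul {N : Type*} [Group N] {A : Subgroup N} (hidx : A.index = 2) {x y : N}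
    (hx : x ∉ A) (hy : y ∉ A) : x⁻¹ * y ∈ A := by
  rw [Subgroup.mul_mem_iff_of_index_two hidx]
  simp [hx, hy]

theorem card_sq_one_cyclic {A : Type*} [Group A] [Fintype A] [IsCyclic A]
    (heven : Even (Fintype.card A)) : (univ.filter fun a : A => a * a = 1).card = 2 := by
  obtain ⟨z, hz⟩ := exists_prime_orderOf_dvd_card 2 (even_iff_two_dvd.1 heven)
  refine le_antisymm ?_ ?_
  · have := IsCyclic.card_pow_eq_one_le (α := A) (n := 2) two_pos
    simpa [pow_two] using this
  · have h2 : ({1, z} : Finset A) ⊆ univ.filter fun a : A => a * a = 1 := by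
      intro a ha
      simp only [Finset.mem_insert, Finset.mem_singleton] at ha
      rcases ha with rfl | rfl
      · simp
      · simp only [Finset.mem_filter, Finset.mem_univ, true_and]
        rw [← pow_two, ← hz, pow_orderOf_eq_one]
    refine le_trans ?_ (Finset.card_le_card h2)
    rw [Finset.card_pair]
    intro e
    rw [← e, orderOf_one] at hz
    omega

theorem two_mul_card_conjClasses {N : Type*} [Group N] [Finite N] (A : Subgroup N)
    (hidx : A.index = 2) (hcyc : IsCyclic A) (heven : Even (Nat.card A))
    (hinv : ∀ x : N, x ∉ A → ∀ a ∈ A, x * a * x⁻¹ = a⁻¹) :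
    2 * Nat.card (ConjClasses N) = Nat.card A + 6 := by
  classical
  haveI := Fintype.ofFinite N
  haveI := hcyc
  set m := Fintype.card A with hm
  have hN : Fintype.card N = 2 * m := by
    rw [← Nat.card_eq_fintype_card, ← A.card_mul_index, hidx, hm, Nat.card_eq_fintype_card,
      mul_comm]
  have hAcard : (univ.filter fun x : N => x ∈ A).card = m := by
    rw [hm, Fintype.card_subtype]
  have hcomm : ∀ a ∈ A, ∀ b ∈ A, a * b = b * a := fun a ha b hb =>
    congrArg Subtype.val (IsCyclic.commGroup.mul_comm (⟨a, ha⟩ : A) ⟨b, hb⟩)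
  have hconj : ∀ a ∈ A, ∀ y : N, y ∉ A → (Commute a y ↔ a * a = 1) := by
    intro a ha y hy
    have h := hinv y hy a ha
    rw [mul_inv_eq_iff_eq_mul] at h
    constructor
    · intro hc
      rw [← hc.eq] at h
      have h2 : a = a⁻¹ := mul_right_cancel h
      exact eq_inv_iff_mul_eq_one.1 h2
    · intro h2
      rw [inv_eq_of_mul_eq_one_left h2] at h
      exact h.symm
  set F : N → ℕ := fun x => (univ.filter fun y : N => Commute x y).card with hF
  have hsum : Nat.card (ConjClasses N) * (2 * m) = ∑ x : N, F x := by
    rw [← hN, ← Nat.card_eq_fintype_card, ← card_comm_eq_card_conjClasses_mul_card,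
      Nat.card_eq_fintype_card, Fintype.card_subtype, Finset.card_filter, Fintype.sum_prod_type]
    simp only [hF, Finset.card_filter]
  set Z : Finset N := univ.filter fun x => x ∈ A ∧ x * x = 1 with hZdef
  have hZ : Z.card = 2 := by
    rw [← card_sq_one_cyclic (A := A) (by rwa [← Nat.card_eq_fintype_card]),
      ← Finset.card_map ⟨Subtype.val, Subtype.val_injective⟩]
    congr 1
    ext x
    simp only [hZdef, Finset.mem_filter, Finset.mem_univ, true_and, Finset.mem_map,
      Function.Embedding.coeFn_mk]
    constructor
    · rintro ⟨hx, h2⟩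
      exact ⟨⟨x, hx⟩, Subtype.ext h2, rfl⟩
    · rintro ⟨a, h2, rfl⟩
      exact ⟨a.2, congrArg Subtype.val h2⟩
  have hval : ∀ x : N, F x = if x ∈ A then (if x * x = 1 then 2 * m else m) else 4 := by
    intro x
    by_cases hx : x ∈ A
    · rw [if_pos hx]
      by_cases h2 : x * x = 1
      · rw [if_pos h2, ← hN, ← Finset.card_univ, hF]
        refine congrArg Finset.card (Finset.eq_univ_of_forall fun y => ?_)
        simp only [Finset.mem_filter, Finset.mem_univ, true_and]
        by_cases hy : y ∈ A
        · exact hcomm x hx y hy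
        · exact (hconj x hx y hy).2 h2
      · rw [if_neg h2, ← hAcard, hF]
        refine congrArg Finset.card (Finset.filter_congr fun y _ => ?_)
        refine ⟨fun hc => by_contra fun hy => h2 ((hconj x hx y hy).1 hc), fun hy => hcomm x hx y hy⟩
    · rw [if_neg hx]
      simp only [hF]
      have hset : (univ.filter fun y : N => Commute x y) = Z ∪ Z.image (x * ·) := by
        ext y
        simp only [hZdef, Finset.mem_filter, Finset.mem_univ, true_and, Finset.mem_union,
          Finset.mem_image]
        constructor
        · intro hc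
          by_cases hy : y ∈ A
          · exact Or.inl ⟨hy, (hconj y hy x hx).1 hc.symm⟩
          · refine Or.inr ⟨x⁻¹ * y, ⟨mem_of_not_mem_mul hidx hx hy, ?_⟩, by group⟩
            exact (hconj _ (mem_of_not_mem_mul hidx hx hy) x hx).1
              (((Commute.refl x).inv_left.mul_left hc.symm))
        · rintro (⟨hy, h2⟩ | ⟨a, ⟨ha, h2⟩, rfl⟩)
          · exact ((hconj y hy x hx).2 h2).symm
          · exact (Commute.refl x).mul_right ((hconj a ha x hx).2 h2).symm
      rw [hset, Finset.card_union_of_disjoint, Finset.card_image_of_injective _ (mul_right_injective x),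
        hZ]
      rw [Finset.disjoint_left]
      intro y hy hy'
      obtain ⟨a, ha, rfl⟩ := Finset.mem_image.1 hy'
      exact hx ((Subgroup.mul_mem_cancel_right A (Finset.mem_filter.1 ha).2.1).1
        (Finset.mem_filter.1 hy).2.1)
  rw [Finset.sum_congr rfl fun x _ => hval x, Finset.sum_ite, Finset.sum_ite,
    Finset.sum_const, Finset.sum_const, Finset.sum_const, Finset.filter_filter,
    Finset.filter_filter, smul_eq_mul, smul_eq_mul, smul_eq_mul] at hsum
  have h1 := Finset.card_filter_add_card_filter_not
    (s := (univ.filter fun x : N => x ∈ A)) (fun x => x * x = 1)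
  rw [Finset.filter_filter, Finset.filter_filter, hAcard] at h1
  have h2 := Finset.card_filter_add_card_filter_not (s := (univ : Finset N)) (fun x => x ∈ A)
  rw [Finset.card_univ, hN, hAcard] at h2
  rw [show (univ.filter fun x : N => x ∈ A ∧ x * x = 1).card = 2 from hZ] at hsum h1
  rw [Nat.card_eq_fintype_card (α := A), ← hm]
  have h3 : (univ.filter fun x : N => x ∉ A).card = m := by omega
  have h4 : (univ.filter fun x : N => x ∈ A ∧ ¬x * x = 1).card = m - 2 := by omega
  rw [h3, h4] at hsum
  obtain ⟨k, hk⟩ := Nat.exists_eq_add_of_le (show 2 ≤ m by omega)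
  rw [hk, Nat.add_sub_cancel_left] at hsum
  rw [hk]
  nlinarith

end CfsgLib.SL2C
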