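import Cfsg.Agent.SL2C.Unipotent
import Cfsg.Agent.SL2C.DihedralCount

/-!
Tori of SL₂ in odd characteristic and their normalisers.
-/

set_option autoImplicit false
set_option linter.unusedSectionVars false
set_option linter.style.haveILetI false

namespace CfsgLib.SL2C

open Matrix Finset
open scoped Classical

variable {F : Type*} [Field F] [Fintype F]

/-- The element `-1`. -/
noncomputable def negOne (F : Type*) [Field F] [Fintype F] : SL F := dg (-1 : Fˣ)

theorem mt_negOne : mt (negOne F) = -1 := by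
  rw [negOne, mt_dg]
  ext i j
  fin_cases i <;> fin_cases j <;> simp

theorem negOne_mem_center : negOne F ∈ Subgroup.center (SL F) :=
  bor_mem_center_iff.2 ⟨mem_sgn.1 neg_one_mem_sgn, rfl⟩

theorem negOne_ne_one (hodd : Odd (Fintype.card F)) : negOne F ≠ 1 := by
  intro h
  have h1 := congrFun (congrFun (congrArg mt h) 0) 0
  rw [mt_negOne, mt_one] at h1
  simp at h1
  exact two_ne_zero_of_odd hodd (by linear_combination -h1)

theorem center_cases {g : SL F} (hg : g ∈ Subgroup.center (SL F)) : g = 1 ∨ g = negOne F := by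
  obtain ⟨e, he, rfl⟩ := exists_eq_bor_of_mem_center hg
  rcases sgn_cases (mem_sgn.2 he) with rfl | rfl
  · exact Or.inl bor_one_zero
  · exact Or.inr rfl

theorem mul_self_eq_one_of_center {g : SL F} (hg : g ∈ Subgroup.center (SL F)) : g * g = 1 := by
  obtain ⟨e, he, rfl⟩ := exists_eq_bor_of_mem_center hg
  rw [show bor e (0 : F) = dg e from rfl, ← map_mul, he, map_one]

theorem mem_center_of_mul_self (hodd : Odd (Fintype.card F)) {g : SL F} (h : g * g = 1) :
    g ∈ Subgroup.center (SL F) := by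
  have h1 : mt g + mt g = (mt g).trace • 1 := by
    conv_lhs => arg 1; rw [← inv_eq_of_mul_eq_one_left h, mt_inv]
    simp
  refine mem_center_iff_isScal.2 ⟨(mt g).trace / 2, ?_⟩
  have h2 := two_ne_zero_of_odd hodd
  ext i j
  have h3 := congrFun (congrFun h1 i) j
  simp at h3 ⊢
  field_simp
  linear_combination h3

/-- A maximal torus with a non-central element. -/
structure IsTorus (T : Subgroup (SL F)) : Prop where
  cyc : IsCyclic T
  center_le : Subgroup.center (SL F) ≤ T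
  cent : ∀ x ∈ T, x ∉ Subgroup.center (SL F) → Subgroup.centralizer ({x} : Set (SL F)) = T
  tr : ∀ x ∈ T, ∀ y ∈ T, x ∉ Subgroup.center (SL F) → (mt y).trace = (mt x).trace →
    y = x ∨ y = x⁻¹
  inv : ∃ w x : SL F, x ∈ T ∧ x ∉ Subgroup.center (SL F) ∧ w * x * w⁻¹ = x⁻¹

namespace IsTorus

variable {T : Subgroup (SL F)}

theorem exists_noncentral (hT : IsTorus T) : ∃ x ∈ T, x ∉ Subgroup.center (SL F) :=
  let ⟨_, x, hx, hxc, _⟩ := hT.inv; ⟨x, hx, hxc⟩

theorem comm (hT : IsTorus T) {a b : SL F} (ha : a ∈ T) (hb : b ∈ T) : a * b = b * a := by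
  haveI := hT.cyc
  exact congrArg Subtype.val (IsCyclic.commGroup.mul_comm (⟨a, ha⟩ : T) ⟨b, hb⟩)

theorem centralizer_eq (hT : IsTorus T) : Subgroup.centralizer (T : Set (SL F)) = T := by
  obtain ⟨x, hx, hxc⟩ := hT.exists_noncentral
  refine le_antisymm (fun g hg => ?_) (fun g hg => Subgroup.mem_centralizer_iff.2 fun y hy => ?_)
  · rw [← hT.cent x hx hxc, Subgroup.mem_centralizer_singleton_iff]
    exact (Subgroup.mem_centralizer_iff.1 hg x hx).symm
  · exact hT.comm hy hg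

theorem conj_mem (hT : IsTorus T) {g x : SL F} (hx : x ∈ T) (hxc : x ∉ Subgroup.center (SL F))
    (hgx : g * x * g⁻¹ ∈ T) {y : SL F} (hy : y ∈ T) : g * y * g⁻¹ ∈ T := by
  have hc : g * x * g⁻¹ ∉ Subgroup.center (SL F) := fun h =>
    hxc (mem_center_of_isConj h (isConj_iff.2 ⟨g⁻¹, by group⟩))
  rw [← hT.cent _ hgx hc, Subgroup.mem_centralizer_singleton_iff]
  calc g * y * g⁻¹ * (g * x * g⁻¹) = g * (y * x) * g⁻¹ := by group
    _ = g * (x * y) * g⁻¹ := by rw [hT.comm hy hx]
    _ = _ := by group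

theorem mem_normalizer_of_mem (hT : IsTorus T) {g x : SL F} (hx : x ∈ T)
    (hxc : x ∉ Subgroup.center (SL F)) (hgx : g * x * g⁻¹ ∈ T) :
    g ∈ Subgroup.normalizer (T : Set (SL F)) := by
  rw [Subgroup.mem_normalizer_iff]
  refine fun y => ⟨fun hy => hT.conj_mem hx hxc hgx hy, fun hy => ?_⟩
  have h2 := hT.conj_mem (g := g⁻¹) (x := g * x * g⁻¹) hgx
    (fun h => hxc (mem_center_of_isConj h (isConj_iff.2 ⟨g⁻¹, by group⟩)))
    (by simpa [mul_assoc] using hx) hy
  simpa [mul_assoc] using h2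

theorem normalizer_dichotomy (hT : IsTorus T) {g : SL F}
    (hg : g ∈ Subgroup.normalizer (T : Set (SL F))) :
    g ∈ T ∨ ∀ y ∈ T, g * y * g⁻¹ = y⁻¹ := by
  haveI := hT.cyc
  obtain ⟨x, hx, hxc⟩ := hT.exists_noncentral
  obtain ⟨⟨γ, hγ⟩, hgen⟩ := hT.cyc.exists_generator
  have hpow : ∀ y ∈ T, ∃ k : ℤ, γ ^ k = y := fun y hy => by
    obtain ⟨k, hk⟩ := Subgroup.mem_zpowers_iff.1 (hgen ⟨y, hy⟩)
    exact ⟨k, by simpa using congrArg Subtype.val hk⟩
  have hγc : γ ∉ Subgroup.center (SL F) := fun h => by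
    obtain ⟨k, hk⟩ := hpow x hx
    exact hxc (hk ▸ Subgroup.zpow_mem _ h k)
  rcases hT.tr γ hγ (g * γ * g⁻¹) ((Subgroup.mem_normalizer_iff.1 hg γ).1 hγ) hγc
    (trace_eq_of_isConj (isConj_iff.2 ⟨g⁻¹, by group⟩)) with h | h
  · left
    rw [← hT.cent γ hγ hγc, Subgroup.mem_centralizer_singleton_iff]
    exact mul_inv_eq_iff_eq_mul.1 h
  · right
    intro y hy
    obtain ⟨k, rfl⟩ := hpow y hy
    rw [← conj_zpow, h, _root_.inv_zpow]

theorem ne_inv (hT : IsTorus T) (hodd : Odd (Fintype.card F)) {x : SL F} (_ : x ∈ T)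
    (hxc : x ∉ Subgroup.center (SL F)) : x ≠ x⁻¹ :=
  fun h => hxc (mem_center_of_mul_self hodd (eq_inv_iff_mul_eq_one.1 h))

theorem exists_inverting (hT : IsTorus T) (hodd : Odd (Fintype.card F)) :
    ∃ w ∈ Subgroup.normalizer (T : Set (SL F)), w ∉ T ∧ ∀ y ∈ T, w * y * w⁻¹ = y⁻¹ := by
  obtain ⟨w, x, hx, hxc, h⟩ := hT.inv
  have hw := hT.mem_normalizer_of_mem (g := w) hx hxc (h ▸ inv_mem hx)
  have hwT : w ∉ T := fun hwT => by
    rw [hT.comm hwT hx, mul_inv_cancel_right] at h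
    exact hT.ne_inv hodd hx hxc h
  exact ⟨w, hw, hwT, (hT.normalizer_dichotomy hw).resolve_left hwT⟩

theorem sq_eq_negOne (hT : IsTorus T) (hodd : Odd (Fintype.card F)) {g : SL F}
    (hg : g ∈ Subgroup.normalizer (T : Set (SL F))) (hgT : g ∉ T) : g * g = negOne F := by
  have hinv := (hT.normalizer_dichotomy hg).resolve_left hgT
  have hgg : g * g ∈ T := by
    rw [← hT.centralizer_eq, Subgroup.mem_centralizer_iff]
    intro y hy
    have h1 := hinv y hy
    have h2 := hinv y⁻¹ (inv_mem hy)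
    rw [inv_inv] at h2
    rw [mul_inv_eq_iff_eq_mul] at h1 h2
    calc y * (g * g) = g * y⁻¹ * g := by rw [← mul_assoc, ← h2]
      _ = g * g * y := by rw [mul_assoc g y⁻¹, ← h1, mul_assoc]
  have h3 := hinv _ hgg
  have h4 : (g * g) * (g * g) = 1 := by
    rw [show g * (g * g) * g⁻¹ = g * g by group] at h3
    exact eq_inv_iff_mul_eq_one.1 h3
  rcases center_cases (mem_center_of_mul_self hodd h4) with h | h
  · exact absurd (hT.center_le (mem_center_of_mul_self hodd h)) hgT
  · exact h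

theorem index_eq_two (hT : IsTorus T) (hodd : Odd (Fintype.card F)) :
    (T.subgroupOf (Subgroup.normalizer (T : Set (SL F)))).index = 2 := by
  obtain ⟨w, hw, hwT, hwinv⟩ := hT.exists_inverting hodd
  refine Subgroup.index_eq_two_iff.2 ⟨⟨w, hw⟩, fun b => ?_⟩
  simp only [Subgroup.mem_subgroupOf, Subgroup.coe_mul]
  rcases hT.normalizer_dichotomy b.2 with hb | hb
  · exact Or.inr ⟨hb, fun h => hwT ((Subgroup.mul_mem_cancel_left T hb).1 h)⟩
  · refine Or.inl ⟨?_, fun hbT => ?_⟩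
    · refine hT.centralizer_eq.le (Subgroup.mem_centralizer_iff.2 ?_)
      intro y hy
      have h1 : (b : SL F) * (w * y * w⁻¹) * (b : SL F)⁻¹ = y := by
        rw [hwinv y hy, hb _ (inv_mem hy), inv_inv]
      calc y * (↑b * w) = (b : SL F) * (w * y * w⁻¹) * (b : SL F)⁻¹ * (↑b * w) := by rw [h1]
        _ = _ := by group
    · obtain ⟨x, hx, hxc⟩ := hT.exists_noncentral
      have h1 := hb x hx
      rw [hT.comm hbT hx, mul_inv_cancel_right] at h1
      exact hT.ne_inv hodd hx hxc h1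

theorem card_normalizer (hT : IsTorus T) (hodd : Odd (Fintype.card F)) :
    Nat.card (Subgroup.normalizer (T : Set (SL F))) = 2 * Nat.card T := by
  have h := (T.subgroupOf (Subgroup.normalizer (T : Set (SL F)))).card_mul_index
  rw [hT.index_eq_two hodd, Nat.card_congr (Subgroup.subgroupOfEquivOfLe Subgroup.le_normalizer).toEquiv]
    at h
  rw [← h, mul_comm]

theorem even_card (hT : IsTorus T) (hodd : Odd (Fintype.card F)) : Even (Nat.card T) := by
  rw [even_iff_two_dvd]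
  have h : orderOf (⟨negOne F, hT.center_le negOne_mem_center⟩ : T) = 2 := by
    rw [Subgroup.orderOf_mk]
    exact orderOf_eq_prime (by rw [pow_two]; exact mul_self_eq_one_of_center negOne_mem_center)
      (negOne_ne_one hodd)
  exact (dvd_of_eq h.symm).trans (orderOf_dvd_natCard _)

theorem two_mul_classes (hT : IsTorus T) (hodd : Odd (Fintype.card F)) :
    2 * Nat.card (ConjClasses (Subgroup.normalizer (T : Set (SL F)))) = Nat.card T + 6 := by
  have he := (Subgroup.subgroupOfEquivOfLe (Subgroup.le_normalizer (H := T)))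
  rw [← Nat.card_congr he.toEquiv]
  refine two_mul_card_conjClasses _ (hT.index_eq_two hodd)
    (isCyclic_of_surjective (hH := hT.cyc) he.symm he.symm.surjective)
    (by rw [Nat.card_congr he.toEquiv]; exact hT.even_card hodd) fun x hx a ha => ?_
  exact Subtype.ext ((hT.normalizer_dichotomy x.2).resolve_left
    (fun h => hx (Subgroup.mem_subgroupOf.2 h)) (a : SL F) (Subgroup.mem_subgroupOf.1 ha))

theorem map_conj (hT : IsTorus T) (g : SL F) :
    IsTorus (T.map (MulAut.conj g).toMonoidHom) := by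
  have hmem : ∀ {x : SL F}, x ∈ T.map (MulAut.conj g).toMonoidHom ↔ g⁻¹ * x * g ∈ T := by
    intro x
    rw [Subgroup.mem_map_equiv, MulAut.conj_symm_apply]
  have hcen : ∀ {x : SL F}, x ∈ Subgroup.center (SL F) ↔
      g⁻¹ * x * g ∈ Subgroup.center (SL F) := fun {x} =>
    ⟨fun h => mem_center_of_isConj h (isConj_iff.2 ⟨g⁻¹, by group⟩),
      fun h => mem_center_of_isConj h (isConj_iff.2 ⟨g, by group⟩)⟩
  refine ⟨isCyclic_of_surjective (hH := hT.cyc)
      (T.equivMapOfInjective _ (MulAut.conj g).injective)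
      (T.equivMapOfInjective _ (MulAut.conj g).injective).surjective,
    fun x hx => hmem.2 (hT.center_le (hcen.1 hx)), fun x hx hxc => ?_,
    fun x hx y hy hxc htr => ?_, ?_⟩
  · ext y
    rw [hmem, ← hT.cent _ (hmem.1 hx) (fun h => hxc (hcen.2 h)),
      Subgroup.mem_centralizer_singleton_iff, Subgroup.mem_centralizer_singleton_iff]
    constructor
    · intro h
      calc g⁻¹ * y * g * (g⁻¹ * x * g) = g⁻¹ * (y * x) * g := by group
        _ = g⁻¹ * (x * y) * g := by rw [h]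
        _ = _ := by group
    · intro h
      calc y * x = g * (g⁻¹ * y * g * (g⁻¹ * x * g)) * g⁻¹ := by group
        _ = g * (g⁻¹ * x * g * (g⁻¹ * y * g)) * g⁻¹ := by rw [h]
        _ = _ := by group
  · have ht : ∀ z : SL F, (mt (g⁻¹ * z * g)).trace = (mt z).trace := fun z =>
      trace_eq_of_isConj (isConj_iff.2 ⟨g, by group⟩)
    rcases hT.tr _ (hmem.1 hx) _ (hmem.1 hy) (fun h => hxc (hcen.2 h)) (by rw [ht, ht, htr])
      with h | h
    · left
      calc y = g * (g⁻¹ * y * g) * g⁻¹ := by group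
        _ = g * (g⁻¹ * x * g) * g⁻¹ := by rw [h]
        _ = x := by group
    · right
      calc y = g * (g⁻¹ * y * g) * g⁻¹ := by group
        _ = g * (g⁻¹ * x * g)⁻¹ * g⁻¹ := by rw [h]
        _ = x⁻¹ := by group
  · obtain ⟨w, x, hx, hxc, h⟩ := hT.inv
    refine ⟨g * w * g⁻¹, g * x * g⁻¹, hmem.2 (by simpa [mul_assoc] using hx),
      fun hc => hxc (mem_center_of_isConj hc (isConj_iff.2 ⟨g⁻¹, by group⟩)), ?_⟩
    calc g * w * g⁻¹ * (g * x * g⁻¹) * (g * w * g⁻¹)⁻¹ = g * (w * x * w⁻¹) * g⁻¹ := by group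
      _ = g * x⁻¹ * g⁻¹ := by rw [h]
      _ = _ := by group

theorem centralizer_of_le (hT : IsTorus T) {P : Subgroup (SL F)} (hP : P ≤ T)
    (hnc : ∃ x ∈ P, x ∉ Subgroup.center (SL F)) :
    Subgroup.centralizer (P : Set (SL F)) = T := by
  obtain ⟨x, hx, hxc⟩ := hnc
  refine le_antisymm (fun g hg => ?_) ?_
  · rw [← hT.cent x (hP hx) hxc, Subgroup.mem_centralizer_singleton_iff]
    exact (Subgroup.mem_centralizer_iff.1 hg x hx).symm
  · conv_lhs => rw [← hT.centralizer_eq]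
    exact Subgroup.centralizer_le hP

theorem normalizer_of_le (hT : IsTorus T) {P : Subgroup (SL F)} (hP : P ≤ T)
    (hnc : ∃ x ∈ P, x ∉ Subgroup.center (SL F)) :
    Subgroup.normalizer (P : Set (SL F)) = Subgroup.normalizer (T : Set (SL F)) := by
  obtain ⟨x, hx, hxc⟩ := hnc
  refine le_antisymm (fun g hg => hT.mem_normalizer_of_mem (hP hx) hxc
    (hP ((Subgroup.mem_normalizer_iff.1 hg x).1 hx))) (fun g hg => ?_)
  have hPstable : ∀ h ∈ Subgroup.normalizer (T : Set (SL F)), ∀ y ∈ P, h * y * h⁻¹ ∈ P := by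
    intro h hh y hy
    rcases hT.normalizer_dichotomy hh with h' | h'
    · rwa [hT.comm h' (hP hy), mul_inv_cancel_right]
    · rw [h' y (hP hy)]; exact inv_mem hy
  rw [Subgroup.mem_normalizer_iff]
  refine fun y => ⟨hPstable g hg y, fun hy => ?_⟩
  have h2 := hPstable g⁻¹ (inv_mem hg) _ hy
  simpa [mul_assoc] using h2

end IsTorus

/-- The diagonal subgroup. -/
noncomputable def splitTorus (F : Type*) [Field F] [Fintype F] : Subgroup (SL F) :=
  (dg : Fˣ →* SL F).range

theorem mem_splitTorus {g : SL F} : g ∈ splitTorus F ↔ mt g 0 1 = 0 ∧ mt g 1 0 = 0 := by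
  constructor
  · rintro ⟨a, rfl⟩
    simp [mt_dg]
  · rintro ⟨h01, h10⟩
    obtain ⟨a, b, rfl⟩ := exists_bor_of_apply h10
    obtain rfl : b = 0 := by simpa [mt_bor] using h01
    exact ⟨a, rfl⟩

theorem card_splitTorus : Nat.card (splitTorus F) = Fintype.card F - 1 := by
  rw [← Fintype.card_units, ← Nat.card_eq_fintype_card]
  exact (Nat.card_congr (MonoidHom.ofInjective fun a b h => (bor_inj h).1).toEquiv).symm

theorem dg_mem_center_iff {a : Fˣ} : dg a ∈ Subgroup.center (SL F) ↔ a * a = 1 :=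
  ⟨fun h => (bor_mem_center_iff.1 (show bor a 0 ∈ _ from h)).1,
    fun h => bor_mem_center_iff.2 ⟨h, rfl⟩⟩

theorem isTorus_split (hodd : Odd (Fintype.card F)) (hq : 5 ≤ Fintype.card F) :
    IsTorus (splitTorus F) := by
  obtain ⟨a, ha⟩ : ∃ a : Fˣ, a * a ≠ 1 := by
    by_contra h
    push Not at h
    have h1 : (univ : Finset Fˣ) ⊆ sgn F := fun e _ => mem_sgn.2 (h e)
    have h2 := Finset.card_le_card h1
    rw [Finset.card_univ, Fintype.card_units, card_sgn_odd hodd] at h2
    omega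
  refine ⟨isCyclic_of_surjective dg.rangeRestrict dg.rangeRestrict_surjective, fun g hg => ?_,
    fun x hx hxc => ?_, fun x hx y hy hxc htr => ?_, ?_⟩
  · obtain ⟨e, -, rfl⟩ := exists_eq_bor_of_mem_center hg
    exact ⟨e, rfl⟩
  · obtain ⟨b, rfl⟩ := hx
    ext g
    rw [mem_centralizer_dg (fun e => hxc (dg_mem_center_iff.2 e))]
    exact ⟨fun ⟨u, hu⟩ => ⟨u, hu.symm⟩, fun ⟨u, hu⟩ => ⟨u, hu.symm⟩⟩
  · obtain ⟨b, rfl⟩ := hx
    obtain ⟨b', rfl⟩ := hy
    simp [mt_dg, Matrix.trace_fin_two] at htr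
    have h2 : ((b' : F) - b) * ((b' : F) * b - 1) = 0 := by
      field_simp at htr
      linear_combination htr
    rcases mul_eq_zero.1 h2 with h3 | h3
    · exact Or.inl (by rw [show b' = b from Units.ext (sub_eq_zero.1 h3)])
    · right
      rw [← map_inv]
      exact congrArg dg (eq_inv_of_mul_eq_one_left (Units.ext (by simpa using sub_eq_zero.1 h3)))
  · let w : SL F := ⟨!![0, 1; -1, 0], by simp [Matrix.det_fin_two_of]⟩
    have hw : mt w = !![0, 1; -1, 0] := rfl
    refine ⟨w, dg a, ⟨a, rfl⟩, fun h => ha (dg_mem_center_iff.1 h), ?_⟩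
    rw [mul_inv_eq_iff_eq_mul, ← map_inv]
    apply mt_injective
    rw [mt_mul, mt_mul, mt_dg, mt_dg, hw, inv_inv]
    ext i j
    fin_cases i <;> fin_cases j <;> simp [Matrix.mul_apply, Fin.sum_univ_two]

theorem isTorus_tor {c : SL F} (hc : Ell c) : IsTorus (tor c) := by
  have hell : ∀ {x : SL F}, x ∈ tor c → x ∉ Subgroup.center (SL F) → x ∈ torReg c :=
    fun hx hxc => mem_torReg.2 ⟨hx, hxc⟩
  refine ⟨isCyclic_tor hc, Subgroup.center_le_centralizer _, fun x hx hxc => ?_,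
    fun x hx y hy hxc htr => ?_, ?_⟩
  · exact tor_eq_of_mem hc (hell hx hxc)
  · refine eq_or_eq_inv_of_commute (ell_of_mem_torReg hc (hell hx hxc)) ?_ htr
    have := comm_tor hc ⟨x, hx⟩ ⟨y, hy⟩
    exact congrArg Subtype.val this
  · obtain ⟨w, hw⟩ := exists_inverting hc
    exact ⟨w⁻¹, c, Subgroup.mem_centralizer_singleton_iff.2 rfl, hc.not_mem_center,
      by rw [inv_inv]; exact hw⟩

end CfsgLib.SL2C
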