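import Cfsg.Agent.SL2C.Induced

/-!
The principal series, Steinberg and discrete series characters of SL₂ and their inner products.
-/

set_option autoImplicit false
set_option linter.unusedSectionVars false

namespace CfsgLib.SL2C

open Matrix Finset
open scoped ComplexConjugate Classical

variable {F : Type*} [Field F] [Fintype F] {c : SL F}

theorem dual_inv_inv {A : Type*} [Group A] (ψ : A →* ℂˣ) : ψ⁻¹⁻¹ = ψ := inv_inv ψ

theorem dual_inv_inj {A : Type*} [Group A] (ψ φ : A →* ℂˣ) : ψ⁻¹ = φ⁻¹ ↔ ψ = φ :=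
  ⟨fun h => by rw [← dual_inv_inv ψ, h, dual_inv_inv], fun h => by rw [h]⟩

theorem dual_inv_eq_iff {A : Type*} [Group A] (ψ φ : A →* ℂˣ) : ψ⁻¹ = φ ↔ ψ = φ⁻¹ :=
  ⟨fun h => by rw [← h, dual_inv_inv], fun h => by rw [h, dual_inv_inv]⟩

theorem dual_inv_one {A : Type*} [Group A] : (1 : A →* ℂˣ)⁻¹ = 1 := by ext a; simp

theorem dual_inv_eq_one {A : Type*} [Group A] (ψ : A →* ℂˣ) : ψ⁻¹ = 1 ↔ ψ = 1 := by
  rw [dual_inv_eq_iff, dual_inv_one]

theorem dual_mul_eq_one {A : Type*} [Group A] (ψ φ : A →* ℂˣ) : ψ * φ = 1 ↔ ψ = φ⁻¹ := by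
  simp only [DFunLike.ext_iff, MonoidHom.mul_apply, MonoidHom.inv_apply, MonoidHom.one_apply,
    mul_eq_one_iff_eq_inv]

theorem eq_inv_iff_mul_self {A : Type*} [Group A] {ψ : A →* ℂˣ} : ψ = ψ⁻¹ ↔ ψ * ψ = 1 :=
  (dual_mul_eq_one ψ ψ).symm

theorem ch_one (a : Fˣ) : ch (1 : Fˣ →* ℂˣ) a = 1 := rfl

theorem ch_one' (a : Fˣ) : ch (1 : Fˣ →* ℂˣ)⁻¹ a = 1 := by rw [ch_inv, ch_one, inv_one]

theorem sgn_cases {e : Fˣ} (he : e ∈ sgn F) : e = 1 ∨ e = -1 := by
  have h : (e : F) * e = 1 := by rw [← Units.val_mul, mem_sgn.1 he, Units.val_one]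
  rcases mul_self_eq_one_iff.1 h with h | h
  · exact Or.inl (Units.ext h)
  · exact Or.inr (Units.ext (by rw [h]; simp))

theorem neg_one_mem_sgn : (-1 : Fˣ) ∈ sgn F := mem_sgn.2 (by simp)

theorem tc_one (θ : tor c →* ℂˣ) : tc θ 1 = 1 := by
  rw [tc, bor_one_zero, th, dif_pos (one_mem _), show (⟨1, one_mem _⟩ : tor c) = 1 from rfl,
    map_one, Units.val_one]

theorem tc_mul (θ η : tor c →* ℂˣ) (e : Fˣ) : tc (θ * η) e = tc θ e * tc η e := th_mul θ η _

theorem exists_pick (θ : tor c →* ℂˣ) : ∃ α : Fˣ →* ℂˣ, ∀ e ∈ sgn F, ch α e = tc θ e := by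
  have h1 : tc θ (-1 : Fˣ) = 1 ∨ tc θ (-1 : Fˣ) = -1 :=
    mul_self_eq_one_iff.1 (tc_mul_self θ neg_one_mem_sgn)
  rcases h1 with h1 | h1
  · refine ⟨1, fun e he => ?_⟩
    rcases sgn_cases he with rfl | rfl
    · simp [tc_one]
    · simp [h1]
  · have hne : (-1 : Fˣ) ≠ 1 := fun e => by
      rw [e, tc_one] at h1; norm_num at h1
    obtain ⟨α, hα⟩ := exists_char_ne_one (A := Fˣ) mul_comm hne
    refine ⟨α, fun e he => ?_⟩
    rcases sgn_cases he with rfl | rfl
    · simp [tc_one]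
    · rw [h1]
      exact (mul_self_eq_one_iff.1 (ch_mul_self α neg_one_mem_sgn)).resolve_left
        fun h => hα (Units.ext h)

/-- A character of `Fˣ` agreeing with `θ` on the centre. -/
noncomputable def pick (θ : tor c →* ℂˣ) : Fˣ →* ℂˣ := (exists_pick θ).choose

theorem ch_pick (θ : tor c →* ℂˣ) {e : Fˣ} (he : e ∈ sgn F) : ch (pick θ) e = tc θ e :=
  (exists_pick θ).choose_spec e he

/-- The Steinberg character. -/
noncomputable def St : SL F → ℂ := R (1 : Fˣ →* ℂˣ) - fun _ => 1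

/-- The discrete series attached to a character of the nonsplit torus. -/
noncomputable def Pi' (θ : tor c →* ℂˣ) : SL F → ℂ := St * R (pick θ) - R (pick θ) - T θ

theorem St_vals (hc : Ell c) :
    Vals c (St : SL F → ℂ) (fun _ => (Fintype.card F : ℂ)) (fun _ => 1) (fun _ _ => 0)
      (fun _ => -1) :=
  ((R_vals hc 1).sub vals_one).congr (fun e _ => by simp [ch_one]) (fun a _ => by
      simp only [Pi.sub_apply, ch_one, ch_one']; ring)
    (fun e _ b _ => by simp [ch_one]) (fun y _ => by simp)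

theorem Pi'_vals (hc : Ell c) (θ : tor c →* ℂˣ) :
    Vals c (Pi' θ) (fun e => ((Fintype.card F : ℂ) - 1) * tc θ e) (fun _ => 0)
      (fun e _ => -tc θ e) (fun y => -(th θ y + th θ⁻¹ y)) := by
  refine ((((St_vals hc).mul (R_vals hc (pick θ))).sub (R_vals hc (pick θ))).sub
    (T_vals hc θ)).congr (fun e he => ?_) (fun a _ => ?_) (fun e he b _ => ?_) (fun y _ => ?_)
  · simp only [Pi.sub_apply, Pi.mul_apply, ch_pick θ he]; ring
  · simp
  · simp [ch_pick θ he]
  · simp [sub_eq_add_neg, add_comm]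

theorem St_isGeneralized : Cfsg.IsGeneralizedCharacter (SL F) (St : SL F → ℂ) :=
  CfsgLib.Char.IsGeneralized.sub (CfsgLib.Char.IsCharacter.isGeneralized (R_isCharacter 1))
    CfsgLib.Char.isGeneralized_one

theorem Pi'_isGeneralized (θ : tor c →* ℂˣ) : Cfsg.IsGeneralizedCharacter (SL F) (Pi' θ) :=
  CfsgLib.Char.IsGeneralized.sub
    (CfsgLib.Char.IsGeneralized.sub
      (CfsgLib.Char.IsGeneralized.mul St_isGeneralized
        (CfsgLib.Char.IsCharacter.isGeneralized (R_isCharacter _)))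
      (CfsgLib.Char.IsCharacter.isGeneralized (R_isCharacter _)))
    (CfsgLib.Char.IsCharacter.isGeneralized (T_isCharacter θ))

theorem St_apply_one (hc : Ell c) : St (1 : SL F) = (Fintype.card F : ℂ) := (St_vals hc).apply_one

theorem R_apply_one (hc : Ell c) (α : Fˣ →* ℂˣ) : R α 1 = (Fintype.card F : ℂ) + 1 := by
  rw [(R_vals hc α).apply_one, ch, map_one, Units.val_one, mul_one]

theorem Pi'_apply_one (hc : Ell c) (θ : tor c →* ℂˣ) :
    Pi' θ 1 = (Fintype.card F : ℂ) - 1 := by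
  rw [(Pi'_vals hc θ).apply_one, tc_one, mul_one]

/-! ### Sums of products -/

/-- `1` or `0`. -/
noncomputable def dl (p : Prop) : ℂ := if p then 1 else 0

theorem dl_pos {p : Prop} (h : p) : dl p = 1 := if_pos h

theorem dl_neg {p : Prop} (h : ¬p) : dl p = 0 := if_neg h

theorem dl_congr {p r : Prop} (h : p ↔ r) : dl p = dl r := by simp [dl, h]

theorem sum_reg_mul (α β : Fˣ →* ℂˣ) :
    ∑ a ∈ reg F, ch α a * ch β a =
      ((Fintype.card F : ℂ) - 1) * dl (α = β⁻¹) - ∑ e ∈ sgn F, ch α e * ch β e := by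
  simp only [← ch_mul, sum_reg_ch, dual_mul_eq_one, dl, mul_ite, mul_one, mul_zero]

theorem sum_tor_mul (hc : Ell c) (θ η : tor c →* ℂˣ) :
    ∑ y ∈ torReg c, th θ y * th η y =
      ((Fintype.card F : ℂ) + 1) * dl (θ = η⁻¹) - ∑ e ∈ sgn F, tc θ e * tc η e := by
  simp only [← tc_mul, ← th_mul, sum_torReg_th hc, dual_mul_eq_one, dl, mul_ite, mul_one,
    mul_zero]

theorem sum_reg_pair (α β : Fˣ →* ℂˣ) :
    ∑ a ∈ reg F, (ch α a + ch α⁻¹ a) * conj (ch β a + ch β⁻¹ a) =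
      2 * ((Fintype.card F : ℂ) - 1) * (dl (α = β) + dl (α = β⁻¹)) -
        4 * ∑ e ∈ sgn F, ch α e * ch β e := by
  have hs : ∀ e ∈ sgn F, ch α⁻¹ e = ch α e ∧ ch β⁻¹ e = ch β e := fun e he =>
    ⟨ch_inv_sgn α he, ch_inv_sgn β he⟩
  simp only [map_add, conj_ch, dual_inv_inv, add_mul, mul_add, Finset.sum_add_distrib, sum_reg_mul]
  rw [dl_congr (dual_inv_inj α β), dl_congr (dual_inv_eq_iff α β)]
  rw [Finset.sum_congr rfl fun e he => show ch α e * ch β⁻¹ e = ch α e * ch β e by rw [(hs e he).2],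
    Finset.sum_congr rfl fun e he => show ch α⁻¹ e * ch β⁻¹ e = ch α e * ch β e by
      rw [(hs e he).1, (hs e he).2],
    Finset.sum_congr rfl fun e he => show ch α⁻¹ e * ch β e = ch α e * ch β e by rw [(hs e he).1]]
  ring

theorem sum_tor_pair (hc : Ell c) (θ η : tor c →* ℂˣ) :
    ∑ y ∈ torReg c, (th θ y + th θ⁻¹ y) * conj (th η y + th η⁻¹ y) =
      2 * ((Fintype.card F : ℂ) + 1) * (dl (θ = η) + dl (θ = η⁻¹)) -
        4 * ∑ e ∈ sgn F, tc θ e * tc η e := by
  have hs : ∀ e ∈ sgn F, tc θ⁻¹ e = tc θ e ∧ tc η⁻¹ e = tc η e := fun e he =>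
    ⟨tc_inv θ he, tc_inv η he⟩
  simp only [map_add, conj_th, dual_inv_inv, add_mul, mul_add, Finset.sum_add_distrib, sum_tor_mul hc]
  rw [dl_congr (dual_inv_inj θ η), dl_congr (dual_inv_eq_iff θ η)]
  rw [Finset.sum_congr rfl fun e he => show tc θ e * tc η⁻¹ e = tc θ e * tc η e by rw [(hs e he).2],
    Finset.sum_congr rfl fun e he => show tc θ⁻¹ e * tc η⁻¹ e = tc θ e * tc η e by
      rw [(hs e he).1, (hs e he).2],
    Finset.sum_congr rfl fun e he => show tc θ⁻¹ e * tc η e = tc θ e * tc η e by rw [(hs e he).1]]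
  ring

theorem sum_reg_single (α : Fˣ →* ℂˣ) :
    ∑ a ∈ reg F, (ch α a + ch α⁻¹ a) =
      2 * ((Fintype.card F : ℂ) - 1) * dl (α = 1) - 2 * ∑ e ∈ sgn F, ch α e := by
  simp only [Finset.sum_add_distrib, sum_reg_ch, dual_inv_eq_one]
  rw [Finset.sum_congr rfl fun e he => ch_inv_sgn α he]
  simp only [dl, mul_ite, mul_one, mul_zero]
  split_ifs <;> ring

theorem sum_tor_single (hc : Ell c) (θ : tor c →* ℂˣ) :
    ∑ y ∈ torReg c, (th θ y + th θ⁻¹ y) =
      2 * ((Fintype.card F : ℂ) + 1) * dl (θ = 1) - 2 * ∑ e ∈ sgn F, tc θ e := by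
  simp only [Finset.sum_add_distrib, sum_torReg_th hc, dual_inv_eq_one]
  rw [Finset.sum_congr rfl fun e he => tc_inv θ he]
  simp only [dl, mul_ite, mul_one, mul_zero]
  split_ifs <;> ring

/-! ### Inner products -/

theorem inner_R_R (hc : Ell c) (α β : Fˣ →* ℂˣ) :
    Cfsg.classInner (R α) (R β) = dl (α = β) + dl (α = β⁻¹) := by
  apply mul_left_cancel₀ (card_SL_ne_zero (F := F))
  rw [Vals.card_mul_inner hc (R_vals hc α) (R_vals hc β), sum_reg_pair, cast_card_SL2]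
  simp only [map_mul, map_add, map_natCast, map_one, conj_ch, Pi.zero_apply, zero_mul,
    Finset.sum_const_zero, mul_zero, add_zero, Finset.sum_const, nsmul_eq_mul, card_filter_ne_zero]
  rw [Finset.sum_congr rfl fun e he =>
      show ((Fintype.card F : ℂ) + 1) * ch α e * (((Fintype.card F : ℂ) + 1) * ch β⁻¹ e) =
        ((Fintype.card F : ℂ) + 1) ^ 2 * (ch α e * ch β e) by rw [ch_inv_sgn β he]; ring,
    Finset.sum_congr rfl fun e he =>
      show ((Fintype.card F : ℂ) - 1) * (ch α e * ch β⁻¹ e) =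
        ((Fintype.card F : ℂ) - 1) * (ch α e * ch β e) by rw [ch_inv_sgn β he],
    ← Finset.mul_sum, ← Finset.mul_sum]
  ring

theorem inner_Pi'_Pi' (hc : Ell c) (θ η : tor c →* ℂˣ) :
    Cfsg.classInner (Pi' θ) (Pi' η) = dl (θ = η) + dl (θ = η⁻¹) := by
  apply mul_left_cancel₀ (card_SL_ne_zero (F := F))
  rw [Vals.card_mul_inner hc (Pi'_vals hc θ) (Pi'_vals hc η), cast_card_SL2]
  simp only [map_neg, neg_mul_neg]
  rw [sum_tor_pair hc]
  simp only [map_mul, map_sub, map_natCast, map_one, map_zero, mul_zero, Finset.sum_const_zero,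
    add_zero, Finset.sum_const, nsmul_eq_mul, card_filter_ne_zero]
  rw [Finset.sum_congr rfl fun e he =>
      show ((Fintype.card F : ℂ) - 1) * tc θ e * (((Fintype.card F : ℂ) - 1) * conj (tc η e)) =
        ((Fintype.card F : ℂ) - 1) ^ 2 * (tc θ e * tc η e) by rw [conj_th, show th η⁻¹ (bor e 0) = tc η e from tc_inv η he]; ring,
    Finset.sum_congr rfl fun e he =>
      show ((Fintype.card F : ℂ) - 1) * (tc θ e * conj (tc η e)) =
        ((Fintype.card F : ℂ) - 1) * (tc θ e * tc η e) by rw [conj_th, show th η⁻¹ (bor e 0) = tc η e from tc_inv η he],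
    ← Finset.mul_sum, ← Finset.mul_sum]
  ring

theorem inner_R_Pi' (hc : Ell c) (α : Fˣ →* ℂˣ) (θ : tor c →* ℂˣ) :
    Cfsg.classInner (R α) (Pi' θ) = 0 := by
  apply mul_left_cancel₀ (card_SL_ne_zero (F := F))
  rw [Vals.card_mul_inner hc (R_vals hc α) (Pi'_vals hc θ)]
  simp only [map_mul, map_sub, map_neg, map_natCast, map_one, map_zero, mul_zero, zero_mul,
    Pi.zero_apply, Finset.sum_const_zero, add_zero, Finset.sum_const, nsmul_eq_mul,
    card_filter_ne_zero]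
  rw [Finset.sum_congr rfl fun e _ =>
      show ((Fintype.card F : ℂ) + 1) * ch α e * (((Fintype.card F : ℂ) - 1) * conj (tc θ e)) =
        ((Fintype.card F : ℂ) + 1) * ((Fintype.card F : ℂ) - 1) * (ch α e * conj (tc θ e)) by ring,
    Finset.sum_congr rfl fun e _ =>
      show ((Fintype.card F : ℂ) - 1) * (ch α e * -conj (tc θ e)) =
        -(((Fintype.card F : ℂ) - 1) * (ch α e * conj (tc θ e))) by ring,
    Finset.sum_neg_distrib, ← Finset.mul_sum, ← Finset.mul_sum]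
  ring

theorem inner_R_one (hc : Ell c) (α : Fˣ →* ℂˣ) :
    Cfsg.classInner (R α) (fun _ => 1) = dl (α = 1) := by
  apply mul_left_cancel₀ (card_SL_ne_zero (F := F))
  rw [Vals.card_mul_inner hc (R_vals hc α) vals_one, cast_card_SL2]
  simp only [map_one, mul_one, Pi.zero_apply, Finset.sum_const_zero, mul_zero, add_zero,
    Finset.sum_const, nsmul_eq_mul, card_filter_ne_zero, sum_reg_single, ← Finset.mul_sum]
  ring

theorem inner_Pi'_one (hc : Ell c) (θ : tor c →* ℂˣ) :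
    Cfsg.classInner (Pi' θ) (fun _ => 1) = -dl (θ = 1) := by
  apply mul_left_cancel₀ (card_SL_ne_zero (F := F))
  rw [Vals.card_mul_inner hc (Pi'_vals hc θ) vals_one, cast_card_SL2]
  simp only [map_one, mul_one, Finset.sum_const_zero, mul_zero, add_zero,
    Finset.sum_const, nsmul_eq_mul, card_filter_ne_zero, Finset.sum_neg_distrib, sum_tor_single hc,
    ← Finset.mul_sum, mul_neg]
  ring

theorem inner_St_R (hc : Ell c) (α : Fˣ →* ℂˣ) :
    Cfsg.classInner (St : SL F → ℂ) (R α) = dl (α = 1) := by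
  rw [St, CfsgLib.Char.classInner_sub_left, inner_R_R hc,
    ← CfsgLib.Char.classInner_conj (R α) (fun _ => 1), inner_R_one hc,
    dl_congr (eq_comm : (1 : Fˣ →* ℂˣ) = α ↔ α = 1),
    dl_congr (⟨fun h => (dual_inv_eq_one α).1 h.symm, fun h => by rw [h, dual_inv_one]⟩ :
      (1 : Fˣ →* ℂˣ) = α⁻¹ ↔ α = 1)]
  unfold dl
  split_ifs <;> simp

theorem inner_St_one (hc : Ell c) : Cfsg.classInner (St : SL F → ℂ) (fun _ => 1) = 0 := by
  rw [St, CfsgLib.Char.classInner_sub_left, inner_R_one hc, dl_pos rfl,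
    CfsgLib.Char.classInner_one_one, sub_self]

theorem inner_St_St (hc : Ell c) : Cfsg.classInner (St : SL F → ℂ) St = 1 := by
  conv_lhs => arg 2; rw [St]
  rw [CfsgLib.Char.classInner_sub_right, inner_St_R hc, inner_St_one hc, dl_pos rfl, sub_zero]

theorem inner_St_Pi' (hc : Ell c) (θ : tor c →* ℂˣ) :
    Cfsg.classInner (St : SL F → ℂ) (Pi' θ) = dl (θ = 1) := by
  rw [St, CfsgLib.Char.classInner_sub_left, inner_R_Pi' hc,
    ← CfsgLib.Char.classInner_conj (Pi' θ) (fun _ => 1), inner_Pi'_one hc]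
  unfold dl
  split_ifs <;> simp

/-! ### Irreducibility -/

theorem two_le_card : 2 ≤ Fintype.card F := Fintype.one_lt_card

theorem isIrr_of_norm_one {φ : SL F → ℂ} (hφ : Cfsg.IsGeneralizedCharacter (SL F) φ)
    (h1 : Cfsg.classInner φ φ = 1) {n : ℕ} (hn : φ 1 = n) :
    Cfsg.IsIrrCharacter (SL F) φ := by
  refine (CfsgLib.Char.IsGeneralized.isIrr_or_neg hφ h1).resolve_right fun h => ?_
  obtain ⟨d, hd⟩ := CfsgLib.Char.IsCharacter.exists_degree (CfsgLib.Char.IsIrrCharacter.isCharacter h)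
  have hd0 : (d : ℂ) ≠ 0 := fun e => CfsgLib.Char.IsIrrCharacter.apply_one_ne_zero h (by rw [hd, e])
  have h2 : ((d + n : ℕ) : ℂ) = 0 := by
    push_cast; rw [← hd, Pi.neg_apply, hn]; ring
  have h3 := Nat.cast_eq_zero.1 h2
  exact hd0 (by rw [show d = 0 by omega]; simp)

theorem isIrr_St : Cfsg.IsIrrCharacter (SL F) (St : SL F → ℂ) := by
  obtain ⟨c, hc⟩ := exists_ell (F := F)
  exact isIrr_of_norm_one St_isGeneralized (inner_St_St hc) (St_apply_one hc)

theorem isIrr_R_iff (α : Fˣ →* ℂˣ) : Cfsg.IsIrrCharacter (SL F) (R α) ↔ α * α ≠ 1 := by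
  obtain ⟨c, hc⟩ := exists_ell (F := F)
  constructor
  · intro h e
    have h1 := CfsgLib.Char.IsIrrCharacter.classInner_self h
    rw [inner_R_R hc, dl_pos rfl, dl_pos (eq_inv_iff_mul_self.2 e)] at h1
    norm_num at h1
  · intro h
    refine isIrr_of_norm_one (CfsgLib.Char.IsCharacter.isGeneralized (R_isCharacter α)) ?_
      (n := Fintype.card F + 1) (by rw [R_apply_one hc]; simp)
    rw [inner_R_R hc, dl_pos rfl, dl_neg (fun e => h (eq_inv_iff_mul_self.1 e)), add_zero]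

theorem isIrr_Pi' (hc : Ell c) {θ : tor c →* ℂˣ} (h : θ * θ ≠ 1) :
    Cfsg.IsIrrCharacter (SL F) (Pi' θ) := by
  refine isIrr_of_norm_one (Pi'_isGeneralized θ) ?_ (n := Fintype.card F - 1)
    (by rw [Pi'_apply_one hc, Nat.cast_sub Fintype.card_pos, Nat.cast_one])
  rw [inner_Pi'_Pi' hc, dl_pos rfl, dl_neg (fun e => h (eq_inv_iff_mul_self.1 e)), add_zero]

end CfsgLib.SL2C
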