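import Cfsg.Agent.SL2C.Commutant
import Cfsg.Agent.Classical.LinearOrder

/-!
SL₂ over a finite field: the four types of elements (central, split, parabolic, elliptic) and
their centralisers.
-/

set_option autoImplicit false

namespace CfsgLib.SL2C

open Matrix

/-- SL₂(F). -/
abbrev SL (F : Type*) [Field F] : Type _ := Matrix.SpecialLinearGroup (Fin 2) F

variable {F : Type*} [Field F]

/-- The matrix of an element of SL₂. -/
abbrev mt (g : SL F) : Matrix (Fin 2) (Fin 2) F := g.1

/-- An element with no eigenvector in `F²`. -/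
abbrev Ell (g : SL F) : Prop := NoEig (mt g)

theorem mt_mul (g h : SL F) : mt (g * h) = mt g * mt h := rfl

theorem mt_one : mt (1 : SL F) = 1 := rfl

theorem mt_inv (g : SL F) : mt g⁻¹ = (mt g).trace • 1 - mt g := by
  change Matrix.adjugate (mt g) = _
  ext i j
  fin_cases i <;> fin_cases j <;> simp [Matrix.adjugate_fin_two, Matrix.trace_fin_two]

theorem mt_injective : Function.Injective (mt : SL F → Matrix (Fin 2) (Fin 2) F) :=
  Subtype.val_injective

@[simp]
theorem mt_mk (A : Matrix (Fin 2) (Fin 2) F) (h : A.det = 1) :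
    mt (⟨A, h⟩ : SL F) = A := rfl

theorem det_mt (g : SL F) : (mt g).det = 1 := g.2

theorem commute_iff_mt {g h : SL F} : g * h = h * g ↔ mt g * mt h = mt h * mt g :=
  ⟨fun e => congrArg Subtype.val e, fun e => Subtype.ext e⟩

theorem mem_center_iff_isScal {g : SL F} : g ∈ Subgroup.center (SL F) ↔ IsScal (mt g) := by
  rw [Matrix.SpecialLinearGroup.mem_center_iff]
  constructor
  · rintro ⟨r, -, hr⟩
    exact ⟨r, by rw [Matrix.smul_one_eq_diagonal]; exact hr.symm⟩
  · rintro ⟨c, hc⟩
    refine ⟨c, ?_, by rw [Matrix.scalar_apply, ← Matrix.smul_one_eq_diagonal]; exact hc.symm⟩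
    have h := det_mt g
    rw [hc] at h
    simpa using h

theorem isConj_iff_mt {g h : SL F} : IsConj g h ↔ ∃ x : SL F, mt h * mt x = mt x * mt g := by
  rw [isConj_iff]
  refine exists_congr fun x => ?_
  rw [mul_inv_eq_iff_eq_mul]
  exact ⟨fun e => (congrArg Subtype.val e).symm, fun e => Subtype.ext e.symm⟩

theorem trace_eq_of_isConj {g h : SL F} (e : IsConj g h) : (mt g).trace = (mt h).trace := by
  obtain ⟨x, rfl⟩ := isConj_iff.1 e
  rw [mt_mul, Matrix.trace_mul_comm, ← mt_mul]
  simp [← mul_assoc]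

theorem Ell.of_isConj {g h : SL F} (hg : Ell g) (e : IsConj g h) : Ell h := by
  obtain ⟨x, hx⟩ := isConj_iff_mt.1 e.symm
  intro c v hv hcv
  refine hg c (mt x *ᵥ v) (fun h0 => hv ?_) ?_
  · have h1 := congrArg (fun w => mt x⁻¹ *ᵥ w) h0
    simpa [Matrix.mulVec_mulVec, ← mt_mul, mt_one, -Matrix.SpecialLinearGroup.coe_inv] using h1
  · rw [Matrix.mulVec_mulVec, hx, ← Matrix.mulVec_mulVec, hcv, Matrix.mulVec_smul]

theorem mem_center_of_isConj {g h : SL F} (hg : g ∈ Subgroup.center (SL F)) (e : IsConj g h) :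
    h ∈ Subgroup.center (SL F) := by
  obtain ⟨x, rfl⟩ := isConj_iff.1 e
  rw [Subgroup.mem_center_iff.1 hg x, mul_inv_cancel_right]
  exact hg

/-! ### Upper triangular elements -/

/-- The element `(a b; 0 a⁻¹)`. -/
def bor (a : Fˣ) (b : F) : SL F :=
  ⟨!![(a : F), b; 0, ((a⁻¹ : Fˣ) : F)], by simp [Matrix.det_fin_two_of]⟩

/-- The element `(a 0; 0 a⁻¹)`. -/
def dg : Fˣ →* SL F where
  toFun a := bor a 0
  map_one' := by
    apply mt_injective
    ext i j
    fin_cases i <;> fin_cases j <;> simp [bor]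
  map_mul' a b := by
    apply mt_injective
    rw [mt_mul]
    ext i j
    fin_cases i <;> fin_cases j <;>
      simp [bor, Matrix.mul_apply, Fin.sum_univ_two] <;> ring

theorem mt_bor (a : Fˣ) (b : F) : mt (bor a b) = !![(a : F), b; 0, ((a⁻¹ : Fˣ) : F)] := rfl

theorem mt_dg (a : Fˣ) : mt (dg a) = !![(a : F), 0; 0, ((a⁻¹ : Fˣ) : F)] := rfl

theorem bor_mul (a a' : Fˣ) (b b' : F) :
    bor a b * bor a' b' = bor (a * a') ((a : F) * b' + b * ((a'⁻¹ : Fˣ) : F)) := by
  apply mt_injective
  rw [mt_mul]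
  ext i j
  fin_cases i <;> fin_cases j <;> simp [bor, Matrix.mul_apply, Fin.sum_univ_two] <;> ring

theorem exists_bor_of_apply {g : SL F} (h : mt g 1 0 = 0) :
    ∃ (a : Fˣ) (b : F), g = bor a b := by
  have hd : mt g 0 0 * mt g 1 1 = 1 := by
    have h1 := det_mt g
    rw [Matrix.det_fin_two, h] at h1
    linear_combination h1
  refine ⟨⟨mt g 0 0, mt g 1 1, hd, by rw [mul_comm]; exact hd⟩, mt g 0 1, mt_injective ?_⟩
  ext i j
  fin_cases i <;> fin_cases j <;> simp [bor] <;> exact h

theorem bor_inj {a a' : Fˣ} {b b' : F} (h : bor a b = bor a' b') : a = a' ∧ b = b' :=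
  ⟨Units.ext (by simpa [bor] using congrFun (congrFun (congrArg mt h) 0) 0),
    by simpa [bor] using congrFun (congrFun (congrArg mt h) 0) 1⟩

theorem not_ell_bor (a : Fˣ) (b : F) : ¬ Ell (bor a b) := by
  intro h
  refine h (a : F) ![1, 0] (by simp) ?_
  ext i
  fin_cases i <;> simp [bor, Matrix.mulVec, dotProduct, Fin.sum_univ_two]

theorem bor_mem_center_iff {a : Fˣ} {b : F} :
    bor a b ∈ Subgroup.center (SL F) ↔ a * a = 1 ∧ b = 0 := by
  rw [mem_center_iff_isScal, isScal_iff]
  simp only [mt_bor, Matrix.of_apply, Matrix.cons_val', Matrix.cons_val_zero, Matrix.cons_val_one,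
    Matrix.cons_val_fin_one, true_and]
  rw [Units.val_inj, eq_inv_iff_mul_eq_one, and_comm]

theorem exists_eq_bor_of_mem_center {g : SL F} (hg : g ∈ Subgroup.center (SL F)) :
    ∃ a : Fˣ, a * a = 1 ∧ g = bor a 0 := by
  obtain ⟨c, hc⟩ := mem_center_iff_isScal.1 hg
  obtain ⟨a, b, rfl⟩ := exists_bor_of_apply (g := g) (by rw [hc]; simp)
  obtain ⟨h1, rfl⟩ := bor_mem_center_iff.1 hg
  exact ⟨a, h1, rfl⟩

/-- An element with an eigenvector is conjugate to an upper triangular one. -/
theorem exists_isConj_bor {g : SL F} (h : ¬ Ell g) : ∃ (a : Fˣ) (b : F), IsConj (bor a b) g := by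
  simp only [Ell, NoEig, not_forall, not_not] at h
  obtain ⟨c, v, hv, hgv⟩ := h
  obtain ⟨x, hx⟩ : ∃ x : SL F, mt x *ᵥ ![1, 0] = v := by
    by_cases h0 : v 0 = 0
    · have h1 : v 1 ≠ 0 := fun h1 => hv (by ext i; fin_cases i <;> simp [h0, h1])
      refine ⟨⟨!![v 0, -(v 1)⁻¹; v 1, 0], by simp [Matrix.det_fin_two_of, h1]⟩, ?_⟩
      ext i
      fin_cases i <;> simp [Matrix.mulVec, dotProduct, Fin.sum_univ_two]
    · refine ⟨⟨!![v 0, 0; v 1, (v 0)⁻¹], by simp [Matrix.det_fin_two_of, h0]⟩, ?_⟩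
      ext i
      fin_cases i <;> simp [Matrix.mulVec, dotProduct, Fin.sum_univ_two]
  have hfix : mt (x⁻¹ * g * x) *ᵥ ![1, 0] = c • ![1, 0] := by
    rw [mt_mul, mt_mul, ← Matrix.mulVec_mulVec, hx, ← Matrix.mulVec_mulVec, hgv,
      Matrix.mulVec_smul, ← hx, Matrix.mulVec_mulVec, ← mt_mul, inv_mul_cancel, mt_one,
      Matrix.one_mulVec]
  have h10 : mt (x⁻¹ * g * x) 1 0 = 0 := by
    have h1 := congrFun hfix 1
    simpa [Matrix.mulVec, dotProduct, Fin.sum_univ_two] using h1
  obtain ⟨a, b, hab⟩ := exists_bor_of_apply h10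
  exact ⟨a, b, isConj_iff.2 ⟨x, by rw [← hab]; group⟩⟩

theorem isConj_bor_dg {a : Fˣ} (ha : a * a ≠ 1) (b : F) : IsConj (dg a) (bor a b) := by
  have hne : ((a⁻¹ : Fˣ) : F) - (a : F) ≠ 0 := fun e => by
    have h1 := Units.ext (sub_eq_zero.1 e)
    exact ha (inv_eq_iff_mul_eq_one.1 h1)
  refine isConj_iff_mt.2 ⟨bor 1 (b / (((a⁻¹ : Fˣ) : F) - (a : F))), ?_⟩
  ext i j
  have hne2 : (1 : F) - (a : F) ^ 2 ≠ 0 := fun e => ha (Units.ext (by
    rw [Units.val_mul, Units.val_one]; linear_combination -e))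
  fin_cases i <;> fin_cases j <;> simp [bor, mt_dg, Matrix.mul_apply, Fin.sum_univ_two] <;>
    simp at hne <;> field_simp <;> ring

/-- Every element is central, split, parabolic or elliptic. -/
theorem cases4 (g : SL F) :
    g ∈ Subgroup.center (SL F) ∨ (∃ a : Fˣ, a * a ≠ 1 ∧ IsConj (dg a) g) ∨
      (∃ (e : Fˣ) (b : F), e * e = 1 ∧ b ≠ 0 ∧ IsConj (bor e b) g) ∨ Ell g := by
  by_cases h : Ell g
  · exact Or.inr (Or.inr (Or.inr h))
  obtain ⟨a, b, hab⟩ := exists_isConj_bor h
  by_cases ha : a * a = 1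
  · by_cases hb : b = 0
    · exact Or.inl (mem_center_of_isConj (bor_mem_center_iff.2 ⟨ha, hb⟩) hab)
    · exact Or.inr (Or.inr (Or.inl ⟨a, b, ha, hb, hab⟩))
  · exact Or.inr (Or.inl ⟨a, ha, (isConj_bor_dg ha b).trans hab⟩)

theorem trace_mt_bor (a : Fˣ) (b : F) : (mt (bor a b)).trace = (a : F) + ((a⁻¹ : Fˣ) : F) := by
  simp [bor, Matrix.trace_fin_two]

theorem not_isConj_dg_bor {a e : Fˣ} (ha : a * a ≠ 1) (he : e * e = 1) (b : F) :
    ¬ IsConj (dg a) (bor e b) := fun h => ha (by
  have h1 := trace_eq_of_isConj h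
  rw [show dg a = bor a 0 from rfl, trace_mt_bor, trace_mt_bor,
    show e⁻¹ = e from inv_eq_of_mul_eq_one_left he] at h1
  have he' : (e : F) * e = 1 := by rw [← Units.val_mul, he, Units.val_one]
  have hai : (a : F) * ((a⁻¹ : Fˣ) : F) = 1 := a.mul_inv
  have h2 : ((a : F) - e) * ((a : F) - e) = 0 := by
    linear_combination (a : F) * h1 + he' - hai
  have h3 : a = e := Units.ext (sub_eq_zero.1 (mul_self_eq_zero.1 h2))
  rw [h3, he])

/-! ### Centralisers -/

theorem exists_of_commute {g x : SL F} (hg : g ∉ Subgroup.center (SL F)) (h : g * x = x * g) :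
    ∃ a b : F, mt x = a • 1 + b • mt g :=
  exists_eq_smul_add_smul (fun e => hg (mem_center_iff_isScal.2 e)) (commute_iff_mt.1 h)

theorem Ell.not_mem_center {g : SL F} (h : Ell g) : g ∉ Subgroup.center (SL F) := fun e =>
  NoEig.not_isScal h (mem_center_iff_isScal.1 e)

theorem Ell.of_commute {g x : SL F} (h : Ell g) (hx : x ∉ Subgroup.center (SL F))
    (hc : g * x = x * g) : Ell x := by
  obtain ⟨a, b, hab⟩ := exists_of_commute h.not_mem_center hc
  have hb : b ≠ 0 := fun e => hx (mem_center_iff_isScal.2 ⟨a, by rw [hab, e, zero_smul, add_zero]⟩)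
  intro c v hv hcv
  refine h ((c - a) / b) v hv ?_
  rw [hab, Matrix.add_mulVec, Matrix.smul_mulVec, Matrix.smul_mulVec, Matrix.one_mulVec] at hcv
  ext i
  have h1 := congrFun hcv i
  simp at h1 ⊢
  field_simp
  linear_combination h1

theorem commute_of_commute {g x y : SL F} (hg : g ∉ Subgroup.center (SL F))
    (hx : g * x = x * g) (hy : g * y = y * g) : x * y = y * x := by
  obtain ⟨a, b, hab⟩ := exists_of_commute hg hx
  rw [commute_iff_mt, hab]
  simp only [Matrix.add_mul, Matrix.mul_add, Matrix.smul_mul, Matrix.mul_smul, Matrix.one_mul,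
    Matrix.mul_one, commute_iff_mt.1 hy]

theorem Ell.centralizer_eq {g x : SL F} (hg : Ell g) (hx : x ∉ Subgroup.center (SL F))
    (h : g * x = x * g) :
    Subgroup.centralizer ({x} : Set (SL F)) = Subgroup.centralizer ({g} : Set (SL F)) := by
  ext y
  simp only [Subgroup.mem_centralizer_singleton_iff]
  exact ⟨fun hy => commute_of_commute hx hy.symm h.symm |>.symm |> Eq.symm,
    fun hy => (commute_of_commute hg.not_mem_center hy.symm h).symm |> Eq.symm⟩

theorem eq_or_eq_inv_of_commute {g x : SL F} (hg : Ell g) (h : g * x = x * g)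
    (ht : (mt x).trace = (mt g).trace) : x = g ∨ x = g⁻¹ := by
  obtain ⟨a, b, hab⟩ := exists_of_commute hg.not_mem_center h
  have h1 := det_mt x
  have h2 := det_mt g
  rw [hab] at ht h1
  rw [det_smul_add_smul, h2] at h1
  simp [Matrix.trace_fin_two] at ht
  have hS : (mt g).trace = mt g 0 0 + mt g 1 1 := Matrix.trace_fin_two _
  -- (b-1)(b+1) times the norm form vanishes
  by_cases hb : b = 1
  · subst hb
    by_cases ha : a = 0
    · exact Or.inl (mt_injective (by rw [hab, ha]; simp))
    have h3 : a + (mt g).trace = 0 :=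
      (mul_eq_zero.1 (show a * (a + (mt g).trace) = 0 by linear_combination h1)).resolve_left ha
    have h2' : (2 : F) = 0 := by
      have h4 : (2 : F) * a = 0 := by linear_combination ht
      exact (mul_eq_zero.1 h4).resolve_right ha
    refine Or.inr (mt_injective ?_)
    rw [mt_inv, hab]
    ext i j
    fin_cases i <;> fin_cases j <;> simp <;>
      first
        | linear_combination h3 - (mt g).trace * h2' + mt g 0 0 * h2'
        | linear_combination mt g 0 1 * h2'
        | linear_combination mt g 1 0 * h2'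
        | linear_combination h3 - (mt g).trace * h2' + mt g 1 1 * h2'
  · refine Or.inr (mt_injective ?_)
    rw [mt_inv, hab]
    have h5 : a = (mt g).trace ∧ b = -1 := by
      have hkey : (2 * a + (mt g).trace * (b - 1)) = 0 := by rw [hS]; linear_combination ht
      have hmain : (b - 1) * ((b + 1) * ((mt g).trace ^ 2 - 4)) = 0 := by
        linear_combination (2 * a + (mt g).trace * (b + 1)) * hkey - 4 * h1
      have hd : (mt g).trace ^ 2 - 4 ≠ 0 ∨ (2 : F) = 0 := by
        by_cases h2' : (2 : F) = 0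
        · exact Or.inr h2'
        · refine Or.inl fun hd => ?_
          refine hg.det_smul_add_smul_ne_zero (a := (mt g).trace) (b := -2)
            (Or.inr (by simpa using h2')) ?_
          rw [det_smul_add_smul, h2]
          linear_combination -hd
      rcases hd with hd | h2'
      · have hb1 : b = -1 := by
          have := ((mul_eq_zero.1 hmain).resolve_left (sub_ne_zero.2 hb))
          have := (mul_eq_zero.1 this).resolve_right hd
          linear_combination this
        have h2n : (2 : F) ≠ 0 := fun h2' => hb (by linear_combination hb1 - h2')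
        exact ⟨mul_left_cancel₀ h2n (by rw [hb1] at hkey; linear_combination hkey), hb1⟩
      · exfalso
        have htr : (mt g).trace = 0 := by
          refine (mul_eq_zero.1 (show (mt g).trace * (b - 1) = 0 by
            linear_combination hkey - a * h2')).resolve_right (sub_ne_zero.2 hb)
        refine hg.det_smul_add_smul_ne_zero (a := 1) (b := 1) (Or.inl one_ne_zero) ?_
        rw [det_smul_add_smul, h2, htr]
        linear_combination h2'
    rw [h5.1, h5.2]
    simp [sub_eq_add_neg]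

theorem Ell.inv_ne_self {g : SL F} (hg : Ell g) : g⁻¹ ≠ g := fun h => by
  have h1 : mt g + mt g = (mt g).trace • 1 := by
    conv_lhs => arg 1; rw [← h, mt_inv]
    simp
  by_cases h2 : (2 : F) = 0
  · have ht : (mt g).trace = 0 := by
      have h3 := congrFun (congrFun h1 0) 0
      simp at h3
      linear_combination -h3 + mt g 0 0 * h2
    refine hg.det_smul_add_smul_ne_zero (a := 1) (b := 1) (Or.inl one_ne_zero) ?_
    rw [det_smul_add_smul, det_mt, ht]
    linear_combination h2
  · refine NoEig.not_isScal hg ⟨(mt g).trace / 2, ?_⟩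
    ext i j
    have h3 := congrFun (congrFun h1 i) j
    simp at h3 ⊢
    field_simp
    linear_combination h3

variable [Fintype F]

theorem Ell.isConj_of_trace {g h : SL F} (hg : Ell g) (hh : h ∉ Subgroup.center (SL F))
    (ht : (mt g).trace = (mt h).trace) : IsConj g h := by
  obtain ⟨P, hP, hPe⟩ := exists_conj (NoEig.not_isScal hg) (fun e => hh (mem_center_iff_isScal.2 e))
    ht (by rw [det_mt, det_mt])
  obtain ⟨a, b, hab⟩ := NoEig.exists_det_eq hg P.det⁻¹
  refine isConj_iff_mt.2 ⟨⟨P * (a • 1 + b • mt g),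
    by rw [Matrix.det_mul, hab, mul_inv_cancel₀ hP]⟩, ?_⟩
  change mt h * (P * (a • 1 + b • mt g)) = P * (a • 1 + b • mt g) * mt g
  rw [← Matrix.mul_assoc, hPe, Matrix.mul_assoc, Matrix.mul_assoc, mul_comm_smul_add]

theorem exists_ell : ∃ g : SL F, Ell g := by
  classical
  obtain ⟨t, ht⟩ : ∃ t : F, ∀ a : Fˣ, (a : F) + ((a⁻¹ : Fˣ) : F) ≠ t := by
    by_contra h
    push Not at h
    have h1 := Fintype.card_le_of_surjective (fun a : Fˣ => (a : F) + ((a⁻¹ : Fˣ) : F)) h
    rw [Fintype.card_units] at h1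
    have := Fintype.one_lt_card (α := F)
    omega
  refine ⟨⟨!![0, -1; 1, t], by simp [Matrix.det_fin_two_of]⟩, fun c v hv h => ?_⟩
  have h0 := congrFun h 0
  have h1 := congrFun h 1
  simp [Matrix.mulVec, dotProduct, Fin.sum_univ_two] at h0 h1
  have hv1 : v 1 ≠ 0 := fun e => by
    have e0 : v 0 = 0 := by linear_combination h1 - (t - c) * e
    exact hv (by ext i; fin_cases i <;> simp [e, e0])
  have hkey : c * c - t * c + 1 = 0 := by
    refine (mul_eq_zero.1 (show (c * c - t * c + 1) * v 1 = 0 by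
      linear_combination -h0 - c * h1)).resolve_right hv1
  have hc : c ≠ 0 := fun e => by subst e; simp at hkey
  refine ht (Units.mk0 c hc) ?_
  simp
  field_simp
  linear_combination hkey

theorem card_SL2_mul : Nat.card (SL F) = Fintype.card F * (Fintype.card F ^ 2 - 1) := by
  have h := CfsgLib.Linear.card_SL_mul (F := F) rfl 2 (by norm_num)
  rw [Fin.prod_univ_two] at h
  simp only [Fin.val_zero, Fin.val_one, pow_zero, pow_one] at h
  have hq : 2 ≤ Fintype.card F := Fintype.one_lt_card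
  apply Nat.eq_of_mul_eq_mul_left (show 0 < Fintype.card F - 1 by omega)
  rw [h]
  have h2 : Fintype.card F ^ 2 - Fintype.card F = (Fintype.card F - 1) * Fintype.card F := by
    rw [Nat.sub_mul, one_mul, pow_two]
  rw [h2]
  ring

end CfsgLib.SL2C
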