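import Cfsg.Agent.SL2C.Normalizer
import Mathlib.LinearAlgebra.Matrix.ProjectiveSpecialLinearGroup

/-!
Products of two conjugacy classes of PSL₂ over a finite field.
-/

set_option autoImplicit false
set_option linter.unusedSectionVars false
set_option linter.style.haveILetI false

namespace CfsgLib.SL2C

open Matrix Finset
open scoped Classical

variable {F : Type*} [Field F] [Fintype F]

/-- PSL₂(F). -/
abbrev PSL (F : Type*) [Field F] : Type _ := Matrix.ProjectiveSpecialLinearGroup (Fin 2) F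

/-- The quotient map. -/
abbrev pm : SL F →* PSL F := QuotientGroup.mk' (Subgroup.center (SL F))

theorem pm_surjective : Function.Surjective (pm : SL F → PSL F) :=
  QuotientGroup.mk'_surjective _

theorem pm_eq_one_iff {g : SL F} : pm g = 1 ↔ g ∈ Subgroup.center (SL F) :=
  QuotientGroup.eq_one_iff g

theorem trace_pm_eq {g h : SL F} (e : IsConj (pm g) (pm h)) :
    (mt h).trace = (mt g).trace ∨ (mt h).trace = -(mt g).trace := by
  obtain ⟨u, hu⟩ := isConj_iff.1 e
  obtain ⟨U, rfl⟩ := pm_surjective u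
  rw [← map_inv, ← map_mul, ← map_mul, QuotientGroup.mk'_eq_mk'] at hu
  obtain ⟨z, hz, hzh⟩ := hu
  obtain ⟨e', he', rfl⟩ := exists_eq_bor_of_mem_center hz
  have ht : (mt g).trace = (mt (U * g * U⁻¹)).trace :=
    trace_eq_of_isConj (isConj_iff.2 ⟨U, rfl⟩)
  have he'' : e' = 1 ∨ e' = -1 := sgn_cases (mem_sgn.2 he')
  rw [← hzh, mt_mul, ht]
  rcases he'' with rfl | rfl
  · left
    rw [show bor (1 : Fˣ) (0 : F) = 1 from bor_one_zero, mt_one, mul_one]
  · right
    rw [show bor (-1 : Fˣ) (0 : F) = negOne F from rfl, mt_negOne, mul_neg, mul_one, Matrix.trace_neg]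

theorem trace_sq_eq_four_of_central {g : SL F} (h : g ∈ Subgroup.center (SL F)) :
    (mt g).trace ^ 2 = 4 := by
  obtain ⟨a, ha, rfl⟩ := exists_eq_bor_of_mem_center h
  have he : (a : F) * a = 1 := by rw [← Units.val_mul, ha, Units.val_one]
  rw [trace_mt_bor, sgn_coe_mul ha]
  linear_combination 4 * he

theorem isConj_dg_inv (a : Fˣ) : IsConj (dg a) (dg a⁻¹ : SL F) := by
  refine isConj_iff_mt.2 ⟨⟨!![0, 1; -1, 0], by simp [Matrix.det_fin_two_of]⟩, ?_⟩
  rw [mt_dg, mt_dg]
  ext i j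
  fin_cases i <;> fin_cases j <;> simp [Matrix.mul_apply, Fin.sum_univ_two]

/-- Elements with the same trace, not `±2`, are conjugate. -/
theorem isConj_of_trace_ne {g h : SL F} (ht : (mt g).trace ^ 2 ≠ 4)
    (e : (mt g).trace = (mt h).trace) : IsConj g h := by
  have hh : h ∉ Subgroup.center (SL F) := fun hc =>
    ht (e ▸ trace_sq_eq_four_of_central hc)
  have hg : g ∉ Subgroup.center (SL F) := fun hc => ht (trace_sq_eq_four_of_central hc)
  rcases cases4 g with hc | ⟨a, ha, hga⟩ | ⟨s, b, hs, -, hgb⟩ | hE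
  · exact absurd hc hg
  · rcases cases4 h with hc' | ⟨b, hb, hhb⟩ | ⟨s, b, hs, -, hhb⟩ | hE'
    · exact absurd hc' hh
    · have h1 := trace_eq_of_isConj hga
      have h2 := trace_eq_of_isConj hhb
      rw [show dg a = bor a 0 from rfl, trace_mt_bor] at h1
      rw [show dg b = bor b 0 from rfl, trace_mt_bor, ← e] at h2
      have hai : (a : F) * ((a⁻¹ : Fˣ) : F) = 1 := a.mul_inv
      have hbi : (b : F) * ((b⁻¹ : Fˣ) : F) = 1 := b.mul_inv
      have key : ((b : F) - a) * ((b : F) * a - 1) = 0 := by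
        linear_combination ((b : F) * a) * (h2 - h1) + (b : F) * hai - (a : F) * hbi
      rcases mul_eq_zero.1 key with h3 | h3
      · rw [Units.ext (sub_eq_zero.1 h3)] at hhb
        exact hga.symm.trans hhb
      · have hb' : b = a⁻¹ := eq_inv_of_mul_eq_one_left
          (Units.ext (by rw [Units.val_mul, Units.val_one]; exact sub_eq_zero.1 h3))
        rw [hb'] at hhb
        exact hga.symm.trans ((isConj_dg_inv a).trans hhb)
    · refine absurd ?_ ht
      rw [e, ← trace_eq_of_isConj hhb, trace_mt_bor, sgn_coe_mul hs]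
      have hs' : (s : F) * s = 1 := by rw [← Units.val_mul, hs, Units.val_one]
      linear_combination 4 * hs'
    · exact ((Ell.isConj_of_trace hE' hg e.symm)).symm
  · refine absurd ?_ ht
    rw [← trace_eq_of_isConj hgb, trace_mt_bor, sgn_coe_mul hs]
    have hs' : (s : F) * s = 1 := by rw [← Units.val_mul, hs, Units.val_one]
    linear_combination 4 * hs'
  · exact Ell.isConj_of_trace hE hh e

theorem bor_one_inv (x : F) : (bor (1 : Fˣ) x)⁻¹ = bor 1 (-x) := by
  refine inv_eq_of_mul_eq_one_right ?_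
  rw [bor_mul, mul_one, ← bor_one_zero]
  congr 1
  simp

/-! ### A conic -/

/-- Solving `a² + s a c + c² - t a + t c (1 - s) + 1 = 0`. -/
theorem exists_conic {t : F} (ht0 : t ≠ 0) (s : F)
    (hs : s ^ 2 ≠ 4 ∨ (s = -2 ∧ ((2 : F) ≠ 0 ∨ ∃ r : F, r ^ 2 - t * r + 1 = 0))) :
    ∃ a c : F, a ^ 2 + s * a * c + c ^ 2 - t * a + t * c * (1 - s) + 1 = 0 := by
  by_cases h2 : (2 : F) = 0
  · have hch : ringChar F = 2 := by
      by_contra hne
      exact Ring.two_ne_zero hne h2
    by_cases hs0 : s = 0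
    · rcases hs with hs | ⟨-, hs⟩
      · exact absurd (by rw [hs0]; linear_combination (-2 : F) * h2) hs
      · obtain ⟨r, hr⟩ := hs.resolve_left fun h => h h2
        exact ⟨r, 0, by linear_combination hr⟩
    · set c : F := -(-t / s) * (-1) with hc
      obtain ⟨a, ha⟩ := FiniteField.isSquare_of_char_two hch
        (-((c ^ 2) + t * c * (1 - s) + 1))
      refine ⟨a, c, ?_⟩
      have hsc : s * c = -t := by rw [hc]; field_simp
      linear_combination -ha + a * hsc - a * t * h2
  · by_cases hs4 : s ^ 2 = 4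
    · obtain ⟨rfl, -⟩ := hs.resolve_left fun h => h hs4
      refine ⟨-(1 / (2 * t)), -(1 / (2 * t)), ?_⟩
      field_simp
      ring
    · have hch : ringChar F ≠ 2 := fun h => h2 (by
        haveI : CharP F 2 := h ▸ ringChar.charP F
        exact CharTwo.two_eq_zero)
      open Polynomial in
      obtain ⟨u, c, huc⟩ := FiniteField.exists_root_sum_quadratic
        (f := (X ^ 2 : F[X]))
        (g := C (-(s ^ 2 - 4)) * X ^ 2 + C (-(2 * s * t - 4 * t)) * X + C (-(t ^ 2 - 4)))
        (Polynomial.degree_X_pow 2)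
        (Polynomial.degree_quadratic (neg_ne_zero.2 (sub_ne_zero.2 hs4)))
        (FiniteField.odd_card_of_char_ne_two hch)
      simp at huc
      refine ⟨(u - (s * c - t)) / 2, c, ?_⟩
      field_simp
      linear_combination huc

/-- A matrix of trace `t` and determinant one whose product with `G` has trace `t` too. -/
theorem exists_trace_pair {t : F} (ht0 : t ≠ 0) (G : SL F) (hG : G ∉ Subgroup.center (SL F))
    (hs : (mt G).trace ^ 2 ≠ 4 ∨
      ((mt G).trace = -2 ∧ ((2 : F) ≠ 0 ∨ ∃ r : F, r ^ 2 - t * r + 1 = 0))) :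
    ∃ A : SL F, (mt A).trace = t ∧ (mt (A * G)).trace = t := by
  obtain ⟨P, hP, hPe⟩ := exists_cyclic_vector (fun h => hG (mem_center_iff_isScal.2 h))
  rw [det_mt] at hPe
  obtain ⟨a, c, hac⟩ := exists_conic ht0 _ hs
  set s : F := (mt G).trace with hsdef
  set M : Matrix (Fin 2) (Fin 2) F := !![a, c + t - s * t + s * a; c, t - a] with hM
  have hu : IsUnit P.det := isUnit_iff_ne_zero.2 hP
  refine ⟨⟨P * M * P⁻¹, ?_⟩, ?_, ?_⟩
  · rw [Matrix.det_mul, Matrix.det_mul, Matrix.det_nonsing_inv, hM, Matrix.det_fin_two_of,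
      mul_right_comm, Ring.mul_inverse_cancel _ hu, one_mul]
    linear_combination -hac
  · rw [mt_mk, Matrix.trace_mul_cycle, Matrix.nonsing_inv_mul P hu, Matrix.one_mul, hM]
    simp [Matrix.trace_fin_two]
  · change (P * M * P⁻¹ * mt G).trace = t
    rw [Matrix.mul_assoc, Matrix.trace_mul_comm, Matrix.mul_assoc, ← Matrix.mul_assoc (mt G), hPe,
      Matrix.mul_assoc P, ← Matrix.mul_assoc P⁻¹, Matrix.nonsing_inv_mul P hu, Matrix.one_mul,
      Matrix.trace_mul_comm, hM]
    simp [Matrix.trace_fin_two, Matrix.mul_apply, Fin.sum_univ_two]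
    ring

/-- A semisimple class squared covers the non-identity elements of PSL₂. -/
theorem exists_prod_of_class {X : SL F} (ht4 : (mt X).trace ^ 2 ≠ 4) (ht0 : (mt X).trace ≠ 0)
    (hsp : (2 : F) ≠ 0 ∨ ∃ r : F, r ^ 2 - (mt X).trace * r + 1 = 0) {g : PSL F} (hg : g ≠ 1) :
    ∃ u v : PSL F, g = (u * pm X * u⁻¹) * (v * pm X * v⁻¹) := by
  obtain ⟨G, rfl⟩ := pm_surjective g
  have hG : G ∉ Subgroup.center (SL F) := fun h => hg (pm_eq_one_iff.2 h)
  obtain ⟨G', hG', hG'c, hs⟩ : ∃ G' : SL F, pm G' = pm G ∧ G' ∉ Subgroup.center (SL F) ∧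
      ((mt G').trace ^ 2 ≠ 4 ∨ ((mt G').trace = -2 ∧
        ((2 : F) ≠ 0 ∨ ∃ r : F, r ^ 2 - (mt X).trace * r + 1 = 0))) := by
    by_cases h4 : (mt G).trace ^ 2 = 4
    · rcases mul_eq_zero.1 (show ((mt G).trace - 2) * ((mt G).trace + 2) = 0 by
        linear_combination h4) with h | h
      · refine ⟨negOne F * G, ?_, fun hc => hG ?_, Or.inr ⟨?_, hsp⟩⟩
        · rw [map_mul, pm_eq_one_iff.2 negOne_mem_center, one_mul]
        · simpa using mul_mem (inv_mem negOne_mem_center) hc
        · rw [mt_mul, mt_negOne, neg_mul, one_mul, Matrix.trace_neg, sub_eq_zero.1 h]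
      · exact ⟨G, rfl, hG, Or.inr ⟨eq_neg_of_add_eq_zero_left h, hsp⟩⟩
    · exact ⟨G, rfl, hG, Or.inl h4⟩
  obtain ⟨A, hA, hAG⟩ := exists_trace_pair ht0 G' hG'c hs
  have hAi : (mt A⁻¹).trace = (mt X).trace := by
    rw [← hA, mt_inv]
    simp [Matrix.trace_fin_two]
    ring
  obtain ⟨U, hU⟩ := isConj_iff.1 (isConj_of_trace_ne ht4 hAi.symm)
  obtain ⟨V, hV⟩ := isConj_iff.1 (isConj_of_trace_ne ht4 hAG.symm)
  refine ⟨pm U, pm V, ?_⟩
  rw [← map_inv, ← map_mul, ← map_mul, hU, ← map_inv, ← map_mul, ← map_mul, hV, ← map_mul,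
    inv_mul_cancel_left, hG']

theorem trace_conditions (p : ℕ) [Fact p.Prime] [CharP F p] {X : SL F}
    (h2 : 2 < orderOf (pm X)) (hp : ¬ p ∣ orderOf (pm X)) :
    (mt X).trace ^ 2 ≠ 4 ∧ (mt X).trace ≠ 0 := by
  constructor
  · intro h4
    rcases cases4 X with hc | ⟨a, ha, hX⟩ | ⟨e, b, he, hb, hX⟩ | hE
    · rw [pm_eq_one_iff.2 hc, orderOf_one] at h2
      omega
    · rw [← trace_eq_of_isConj hX, show dg a = bor a 0 from rfl, trace_mt_bor] at h4
      have hai : (a : F) * ((a⁻¹ : Fˣ) : F) = 1 := a.mul_inv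
      refine ha (Units.ext ?_)
      rw [Units.val_mul, Units.val_one]
      have h5 : ((a : F) * a - 1) * ((a : F) * a - 1) = 0 := by
        linear_combination ((a : F) ^ 2) * h4 -
          (2 * (a : F) ^ 2 + (a : F) * ((a⁻¹ : Fˣ) : F) + 1) * hai
      exact sub_eq_zero.1 (mul_self_eq_zero.1 h5)
    · obtain ⟨y, rfl⟩ := isConj_iff.1 hX
      have hcj : orderOf (pm (y * bor e b * y⁻¹)) = orderOf (pm (bor e b)) := by
        rw [map_mul, map_mul, map_inv]
        exact orderOf_injective (MulAut.conj (pm y)).toMonoidHom (MulEquiv.injective _) (pm (bor e b))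
      rw [hcj] at h2 hp
      have hb' : pm (bor e b) = pm (bor 1 (e * b)) := by
        rw [show bor e b = bor e 0 * bor 1 (e * b) from ?_, map_mul,
          pm_eq_one_iff.2 (bor_mem_center_iff.2 ⟨he, rfl⟩), one_mul]
        rw [bor_mul, mul_one]
        congr 1
        have he' : (e : F) * e = 1 := by rw [← Units.val_mul, he, Units.val_one]
        linear_combination -b * he'
      have hdvd : orderOf (pm (bor e b)) ∣ p := by
        rw [hb', ← orderOf_bor_one p (mul_ne_zero (Units.ne_zero e) hb)]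
        exact orderOf_map_dvd _ _
      rcases (Nat.dvd_prime (Fact.out : p.Prime)).1 hdvd with h | h
      · omega
      · exact hp (dvd_of_eq h.symm)
    · refine hE.det_smul_add_smul_ne_zero (a := -(mt X).trace / 2) (b := 1) (Or.inr one_ne_zero) ?_
      by_cases h20 : (2 : F) = 0
      · have ht : (mt X).trace = 0 := by
          have : (mt X).trace ^ 2 = 0 := by linear_combination h4 + 2 * h20
          exact pow_eq_zero_iff two_ne_zero |>.1 this
        exfalso
        refine hE.det_smul_add_smul_ne_zero (a := 1) (b := 1) (Or.inr one_ne_zero) ?_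
        rw [det_smul_add_smul, det_mt, ht]
        linear_combination h20
      · rw [det_smul_add_smul, det_mt]
        field_simp
        linear_combination -h4
  · intro h0
    have hsq : X * X = negOne F := by
      apply mt_injective
      rw [mt_mul, sq_eq, h0, det_mt, mt_negOne]
      simp
    have h1 : pm X ^ 2 = 1 := by
      rw [← map_pow, pow_two, hsq, pm_eq_one_iff.2 negOne_mem_center]
    have := Nat.le_of_dvd two_pos (orderOf_dvd_of_pow_eq_one h1)
    omega

theorem split_root_of_not_dvd {X : SL F} (h : ¬ orderOf (pm X) ∣ Fintype.card F + 1) :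
    ∃ r : F, r ^ 2 - (mt X).trace * r + 1 = 0 := by
  have hE : ¬ Ell X := by
    intro hE
    refine h ((orderOf_map_dvd _ _).trans ?_)
    have h1 := orderOf_dvd_natCard (⟨X, Subgroup.mem_centralizer_singleton_iff.2 rfl⟩ : tor X)
    rwa [card_tor hE, Subgroup.orderOf_mk] at h1
  obtain ⟨a, b, hab⟩ := exists_isConj_bor hE
  refine ⟨(a : F), ?_⟩
  have hai : (a : F) * ((a⁻¹ : Fˣ) : F) = 1 := a.mul_inv
  rw [← trace_eq_of_isConj hab, trace_mt_bor]
  linear_combination -hai

/-- The companion-like representative of a non-central element. -/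
theorem exists_companion {G : SL F} (hG : G ∉ Subgroup.center (SL F)) :
    ∃ (X : SL F) (μ : F), μ ≠ 0 ∧
      mt (X⁻¹ * G * X) = !![0, -μ; μ⁻¹, (mt G).trace] := by
  obtain ⟨P, hP, hPe⟩ := exists_cyclic_vector (fun h => hG (mem_center_iff_isScal.2 h))
  rw [det_mt] at hPe
  set D : Matrix (Fin 2) (Fin 2) F := !![1, 0; 0, P.det⁻¹] with hD
  refine ⟨⟨P * D, by simp [hD, Matrix.det_fin_two_of, hP]⟩, P.det⁻¹, inv_ne_zero hP, ?_⟩
  set X : SL F := ⟨P * D, by simp [hD, Matrix.det_fin_two_of, hP]⟩ with hX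
  set C : Matrix (Fin 2) (Fin 2) F := !![0, -P.det⁻¹; P.det⁻¹⁻¹, (mt G).trace] with hC
  have hDC : !![0, -1; 1, (mt G).trace] * D = D * C := by
    ext i j
    fin_cases i <;> fin_cases j <;> simp [hD, hC, Matrix.mul_apply, Fin.sum_univ_two] <;>
      field_simp
  have h1 : mt G * mt X = mt X * C := by
    rw [hX, mt_mk, ← Matrix.mul_assoc, hPe, Matrix.mul_assoc, hDC, Matrix.mul_assoc]
    exact det_mt G
  rw [mul_assoc, mt_mul, mt_mul, h1, ← Matrix.mul_assoc, ← mt_mul, inv_mul_cancel, mt_one,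
    Matrix.one_mul]

/-- A product of two classes is never a single class. -/
theorem prod_class_ne (h4 : 4 ≤ Fintype.card F) {a b : PSL F} (ha : a ≠ 1) (hb : b ≠ 1) (c : PSL F) :
    {g : PSL F | ∃ u v : PSL F, g = (u * a * u⁻¹) * (v * b * v⁻¹)} ≠ {g | IsConj c g} := by
  intro hset
  obtain ⟨A, rfl⟩ := pm_surjective a
  obtain ⟨B, rfl⟩ := pm_surjective b
  obtain ⟨C, rfl⟩ := pm_surjective c
  obtain ⟨U, ν, hν, hA⟩ := exists_companion (G := A) (fun h => ha (pm_eq_one_iff.2 h))
  obtain ⟨V, μ, hμ, hB⟩ := exists_companion (G := B) (fun h => hb (pm_eq_one_iff.2 h))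
  set t := (mt A).trace
  set r := (mt B).trace
  set k₂ : F := -(1 / (μ * ν)) with hk₂
  set k₁ : F := r / ν - t / μ with hk₁
  set k₀ : F := -(ν / μ) - μ / ν + t * r with hk₀
  have hk : k₂ ≠ 0 := by simp [hk₂, hμ, hν]
  have hval : ∀ x : F, k₂ * x ^ 2 + k₁ * x + k₀ = (mt C).trace ∨
      k₂ * x ^ 2 + k₁ * x + k₀ = -(mt C).trace := by
    intro x
    have hmem : pm ((U⁻¹ * A * U) * (bor 1 x * (V⁻¹ * B * V) * (bor 1 x)⁻¹)) ∈
        {g : PSL F | ∃ u v : PSL F, g = (u * pm A * u⁻¹) * (v * pm B * v⁻¹)} :=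
      ⟨pm U⁻¹, pm (bor 1 x * V⁻¹), by
        simp only [map_mul, map_inv, _root_.mul_inv_rev, inv_inv, mul_assoc]⟩
    rw [hset] at hmem
    have h1 := trace_pm_eq hmem
    have h2 : (mt ((U⁻¹ * A * U) * (bor 1 x * (V⁻¹ * B * V) * (bor 1 x)⁻¹))).trace =
        k₂ * x ^ 2 + k₁ * x + k₀ := by
      rw [mt_mul, hA, mt_mul, mt_mul, hB, bor_one_inv, mt_bor, mt_bor, hk₂, hk₁, hk₀]
      simp [Matrix.trace_fin_two, Matrix.mul_apply, Fin.sum_univ_two]
      field_simp
      ring
    rwa [h2] at h1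
  set w := (mt C).trace
  have hcard : (univ : Finset F).card ≤ 2 * ({w, -w} : Finset F).card := by
    refine Finset.card_le_mul_card_image_of_maps_to
      (f := fun x : F => k₂ * x ^ 2 + k₁ * x + k₀) (fun x _ => by simpa using hval x) 2
      fun y _ => ?_
    by_contra hlt
    push Not at hlt
    obtain ⟨x₁, x₂, x₃, h₁, h₂, h₃, h12, h13, h23⟩ := Finset.two_lt_card_iff.1 hlt
    simp only [Finset.mem_filter, Finset.mem_univ, true_and] at h₁ h₂ h₃
    have e2 : k₂ * (x₁ + x₂) + k₁ = 0 :=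
      (mul_eq_zero.1 (show (x₁ - x₂) * (k₂ * (x₁ + x₂) + k₁) = 0 by
        linear_combination h₁ - h₂)).resolve_left (sub_ne_zero.2 h12)
    have e3 : k₂ * (x₁ + x₃) + k₁ = 0 :=
      (mul_eq_zero.1 (show (x₁ - x₃) * (k₂ * (x₁ + x₃) + k₁) = 0 by
        linear_combination h₁ - h₃)).resolve_left (sub_ne_zero.2 h13)
    exact h23 (sub_eq_zero.1 ((mul_eq_zero.1 (show k₂ * (x₂ - x₃) = 0 by
      linear_combination e2 - e3)).resolve_left hk))
  rw [Finset.card_univ] at hcard
  by_cases h20 : (2 : F) = 0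
  · have hw : -w = w := by linear_combination -w * h20
    rw [hw] at hcard
    simp at hcard
    omega
  · have h5 : Fintype.card F ≠ 4 := by
      intro h
      have hch : ringChar F ≠ 2 := fun hc => h20 (by
        haveI : CharP F 2 := hc ▸ ringChar.charP F
        exact CharTwo.two_eq_zero)
      have := FiniteField.odd_card_of_char_ne_two hch
      omega
    have := Finset.card_le_two (a := w) (b := -w)
    omega

/-! ### The ABA factorization in characteristic two -/

theorem center_eq_bot [CharP F 2] : Subgroup.center (SL F) = ⊥ := by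
  rw [Subgroup.eq_bot_iff_forall]
  intro g hg
  obtain ⟨a, ha, rfl⟩ := exists_eq_bor_of_mem_center hg
  have : a ∈ ({1} : Finset Fˣ) := sgn_eq_singleton (F := F) ▸ mem_sgn.2 ha
  rw [Finset.mem_singleton.1 this, bor_one_zero]

theorem pm_injective [CharP F 2] : Function.Injective (pm : SL F → PSL F) :=
  (injective_iff_map_eq_one _).2 fun g h => by
    rw [pm_eq_one_iff, center_eq_bot] at h
    exact h

/-- The upper unipotent subgroup. -/
def uniHom (F : Type*) [Field F] : Multiplicative F →* SL F where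
  toFun b := bor 1 b.toAdd
  map_one' := map_one (dg : Fˣ →* SL F)
  map_mul' a b := by rw [bor_mul]; simp [add_comm]

theorem exists_ABA [CharP F 2] :
    ∃ A B : Subgroup (PSL F),
      IsCyclic A ∧ Nat.card A = Fintype.card F + 1 ∧ IsMulCommutative B ∧ (∀ b ∈ B, b * b = 1) ∧
        Nat.card B = Fintype.card F ∧
        ∀ g : PSL F, ∃ a ∈ A, ∃ b ∈ B, ∃ c ∈ A, g = a * b * c := by
  have h2 : (2 : F) = 0 := CharTwo.two_eq_zero
  obtain ⟨g₀, hg₀⟩ := exists_ell (F := F)
  set t : F := (mt g₀).trace with htdef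
  set c : SL F := ⟨!![0, -1; 1, t], by simp [Matrix.det_fin_two_of]⟩ with hcdef
  have hc : Ell c := by
    refine hg₀.of_isConj (Ell.isConj_of_trace hg₀ (fun h => ?_) (by simp [hcdef, Matrix.trace_fin_two, htdef]))
    rw [mem_center_iff_isScal, isScal_iff] at h
    simp [hcdef] at h
  have hcyc := isCyclic_tor hc
  refine ⟨(tor c).map pm, (uniHom F).range.map pm, ?_, ?_, ?_, ?_, ?_, fun g => ?_⟩
  · exact isCyclic_of_surjective ((tor c).equivMapOfInjective _ pm_injective).toMonoidHom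
      ((tor c).equivMapOfInjective _ pm_injective).surjective
  · rw [← Nat.card_congr ((tor c).equivMapOfInjective _ pm_injective).toEquiv, card_tor hc]
  · refine ⟨⟨?_⟩⟩
    rintro ⟨_, _, ⟨x, rfl⟩, rfl⟩ ⟨_, _, ⟨y, rfl⟩, rfl⟩
    apply Subtype.ext
    show pm (uniHom F x) * pm (uniHom F y) = pm (uniHom F y) * pm (uniHom F x)
    rw [← map_mul, ← map_mul, ← map_mul, ← map_mul, mul_comm]
  · rintro _ ⟨_, ⟨x, rfl⟩, rfl⟩
    rw [← map_mul, ← map_mul, show x * x = 1 from congrArg Multiplicative.ofAdd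
      (CharTwo.add_self_eq_zero x.toAdd), map_one, map_one]
  · rw [← Nat.card_congr ((uniHom F).range.equivMapOfInjective _ pm_injective).toEquiv,
      ← Nat.card_congr (MonoidHom.ofInjective (fun a b h => (bor_inj h).2 :
        Function.Injective (uniHom F))).toEquiv]
    exact (Nat.card_congr Multiplicative.toAdd).trans Nat.card_eq_fintype_card
  obtain ⟨G, rfl⟩ := pm_surjective g
  set Y := G * c * G⁻¹ with hY
  have hdY : mt Y 0 0 * mt Y 1 1 - mt Y 0 1 * mt Y 1 0 = 1 := by
    rw [← Matrix.det_fin_two]; exact det_mt Y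
  have htY : mt Y 0 0 + mt Y 1 1 = t := by
    rw [← Matrix.trace_fin_two]
    refine (trace_eq_of_isConj (isConj_iff.2 ⟨G, rfl⟩ : IsConj c Y)).symm.trans ?_
    simp [hcdef, Matrix.trace_fin_two]
  set p₀ := mt Y 0 0
  set q := mt Y 0 1
  set r := mt Y 1 0
  obtain ⟨β, hβ⟩ := FiniteField.isSquare_of_char_two (CharP.ringChar_of_prime_eq_zero Nat.prime_two
    (by exact_mod_cast h2)) (r - q + p₀ * t - 2)
  set Y' := bor 1 β * c * (bor 1 β)⁻¹ with hY'
  have hY'm : mt Y' = !![β, -β * β - 1 + β * t; 1, t - β] := by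
    rw [hY', mt_mul, mt_mul, bor_one_inv, mt_bor, mt_bor, hcdef, mt_mk]
    ext i j
    fin_cases i <;> fin_cases j <;> simp [Matrix.mul_apply, Fin.sum_univ_two] <;> ring
  have hs : mt Y 1 1 = t - p₀ := by linear_combination htY
  have hYm : mt Y = !![p₀, q; r, t - p₀] := by
    ext i j
    fin_cases i <;> fin_cases j <;> simp [p₀, q, r, hs]
  rw [hs] at hdY
  obtain ⟨α, γ, hαγ, hZ⟩ : ∃ α γ : F, (α ≠ 0 ∨ γ ≠ 0) ∧
      (α • (1 : Matrix (Fin 2) (Fin 2) F) + γ • mt c) * mt Y' =
        mt Y * (α • 1 + γ • mt c) := by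
    rw [hY'm, hYm, hcdef, mt_mk]
    by_cases hgen : q + 1 = 0 ∧ β - p₀ = 0
    · refine ⟨0, 1, Or.inr one_ne_zero, ?_⟩
      have hp : β = p₀ := sub_eq_zero.1 hgen.2
      have hq : q = -1 := by linear_combination hgen.1
      rw [hp, hq] at *
      ext i j
      fin_cases i <;> fin_cases j <;> simp [Matrix.mul_apply, Fin.sum_univ_two] <;>
        first
          | ring1
          | linear_combination p₀ * h2
          | linear_combination hdY
          | linear_combination -hdY
          | linear_combination 2 * hdY + r * hgen.1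
          | linear_combination hdY + r * hgen.1
    · refine ⟨q + 1, β - p₀, ?_, ?_⟩
      · by_contra h
        push Not at h
        exact hgen h
      ext i j
      fin_cases i <;> fin_cases j <;> simp [Matrix.mul_apply, Fin.sum_univ_two]
      · ring
      · linear_combination hdY + q * hβ
      · linear_combination hdY - hβ
      · linear_combination (β - p₀) * hβ
  obtain ⟨k, hk⟩ := FiniteField.isSquare_of_char_two (CharP.ringChar_of_prime_eq_zero Nat.prime_two
    (by exact_mod_cast h2)) (α • (1 : Matrix (Fin 2) (Fin 2) F) + γ • mt c).det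
  have hk0 : k ≠ 0 := fun e => hc.det_smul_add_smul_ne_zero hαγ (by rw [hk, e, zero_mul])
  set Z : SL F := ⟨k⁻¹ • (α • 1 + γ • mt c), by
    rw [Matrix.det_smul, hk, Fintype.card_fin]; field_simp⟩ with hZdef
  have hZc : Z ∈ tor c := Subgroup.mem_centralizer_singleton_iff.2 (commute_iff_mt.2 (by
    rw [hZdef, mt_mk, Matrix.smul_mul, Matrix.mul_smul, mul_comm_smul_add]))
  have hZY : Z * Y' = Y * Z := mt_injective (by
    change (k⁻¹ • (α • 1 + γ • mt c)) * mt Y' = mt Y * (k⁻¹ • (α • 1 + γ • mt c))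
    rw [Matrix.smul_mul, hZ, Matrix.mul_smul])
  have hlast : (Z * bor 1 β)⁻¹ * G ∈ tor c := by
    rw [Subgroup.mem_centralizer_singleton_iff]
    have h1 : Z * (bor 1 β * c * (bor 1 β)⁻¹) * Z⁻¹ = G * c * G⁻¹ := by
      rw [← hY', hZY, mul_inv_cancel_right]
    calc (Z * bor 1 β)⁻¹ * G * c = (Z * bor 1 β)⁻¹ * (G * c * G⁻¹) * G := by group
      _ = c * ((Z * bor 1 β)⁻¹ * G) := by rw [← h1]; group
  exact ⟨pm Z, Subgroup.mem_map_of_mem _ hZc, pm (bor 1 β),
    Subgroup.mem_map_of_mem _ ⟨Multiplicative.ofAdd β, rfl⟩, pm ((Z * bor 1 β)⁻¹ * G),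
    Subgroup.mem_map_of_mem _ hlast, by simp only [← map_mul, mul_inv_cancel_left]⟩

end CfsgLib.SL2C
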