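import Cfsg.Agent.SL2C.Normalizer

/-!
Sylow subgroups of SL₂ in odd characteristic and their normalisers.
-/

set_option autoImplicit false
set_option linter.unusedSectionVars false
set_option linter.style.haveILetI false

namespace CfsgLib.SL2C

open Matrix Finset
open scoped Classical

theorem sylow_exists_conj_le {G : Type*} [Group G] [Finite G] {p : ℕ} [Fact p.Prime]
    (P : Sylow p G) (H : Subgroup G) (h : ¬ p ∣ H.index) :
    ∃ g : G, (P : Subgroup G) ≤ H.map (MulAut.conj g).toMonoidHom := by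
  obtain ⟨Q⟩ : Nonempty (Sylow p H) := inferInstance
  have hQ : IsPGroup p ((Q : Subgroup H).map H.subtype) := Q.isPGroup'.map _
  have hidx : ¬ p ∣ ((Q : Subgroup H).map H.subtype).index := by
    rw [Subgroup.index_map_subtype, (Fact.out : p.Prime).dvd_mul, not_or]
    exact ⟨Q.not_dvd_index, h⟩
  obtain ⟨g, hg⟩ := MulAction.exists_smul_eq G (hQ.toSylow hidx) P
  refine ⟨g, ?_⟩
  rw [← hg, Sylow.coe_subgroup_smul]
  exact Subgroup.map_mono (Subgroup.map_subtype_le _)

theorem index_map_conj {G : Type*} [Group G] (T : Subgroup G) (g : G) :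
    (T.map (MulAut.conj g).toMonoidHom).index = T.index :=
  Subgroup.index_map_equiv T (MulAut.conj g)

variable {F : Type*} [Field F] [Fintype F]

theorem natCard_SL_factor :
    Nat.card (SL F) = Fintype.card F * ((Fintype.card F - 1) * (Fintype.card F + 1)) := by
  rw [card_SL2_mul]
  congr 1
  rw [mul_comm, ← Nat.sq_sub_sq, one_pow]


theorem index_eq_of_card {T : Subgroup (SL F)} {k : ℕ} (h : Nat.card (SL F) = Nat.card T * k) :
    T.index = k := by
  have h1 := T.card_mul_index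
  rw [h] at h1
  exact Nat.eq_of_mul_eq_mul_left Nat.card_pos h1

/-- An odd prime dividing the order of a torus of index prime to it: a Sylow subgroup lies in a
conjugate torus and controls it. -/
theorem sylow_odd {ℓ : ℕ} [Fact ℓ.Prime] (hℓ : ℓ ≠ 2) {T : Subgroup (SL F)} (hT : IsTorus T)
    (hdvd : ℓ ∣ Nat.card T) (hidx : ¬ ℓ ∣ T.index) (P : Sylow ℓ (SL F)) :
    ∃ T' : Subgroup (SL F), IsTorus T' ∧ Nat.card T' = Nat.card T ∧
      Subgroup.centralizer ((P : Subgroup (SL F)) : Set (SL F)) = T' ∧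
      Subgroup.normalizer ((P : Subgroup (SL F)) : Set (SL F)) =
        Subgroup.normalizer (T' : Set (SL F)) ∧ (P : Subgroup (SL F)) ≤ T' := by
  obtain ⟨g, hg⟩ := sylow_exists_conj_le P T hidx
  have hT' := hT.map_conj g
  have hℓp : ℓ.Prime := Fact.out
  have hPne : (P : Subgroup (SL F)) ≠ ⊥ :=
    P.ne_bot_of_dvd_card (hdvd.trans (Subgroup.card_subgroup_dvd_card T))
  obtain ⟨x, hx, hx1⟩ := (Subgroup.ne_bot_iff_exists_ne_one.1 hPne).imp
    (fun (x : (P : Subgroup (SL F))) (h : x ≠ 1) => (⟨x.2, h⟩ : (x : SL F) ∈ P.toSubgroup ∧ x ≠ 1))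
  have hnc : (x : SL F) ∉ Subgroup.center (SL F) := fun hc => by
    have h2 : orderOf x ∣ 2 := by
      rw [← Subgroup.orderOf_coe, orderOf_dvd_iff_pow_eq_one, pow_two]
      exact mul_self_eq_one_of_center hc
    obtain ⟨k, hk⟩ := (IsPGroup.iff_orderOf.1 P.isPGroup') x
    rcases (Nat.dvd_prime Nat.prime_two).1 h2 with h1 | h1
    · exact hx1 (orderOf_eq_one_iff.1 h1)
    · rw [h1] at hk
      exact hℓ ((Nat.prime_dvd_prime_iff_eq Nat.prime_two hℓp).1
        (Nat.prime_two.dvd_of_dvd_pow (hk ▸ dvd_rfl : 2 ∣ ℓ ^ k))).symm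
  exact ⟨_, hT', Nat.card_congr (T.equivMapOfInjective _ (MulAut.conj g).injective).symm.toEquiv,
    hT'.centralizer_of_le hg ⟨_, hx, hnc⟩, hT'.normalizer_of_le hg ⟨_, hx, hnc⟩, hg⟩

/-- A torus of order divisible by four, of index twice an odd number. -/
theorem exists_torus_four (hodd : Odd (Fintype.card F)) :
    ∃ (T : Subgroup (SL F)) (r : ℕ), IsTorus T ∧ 4 ∣ Nat.card T ∧ Odd r ∧ T.index = 2 * r ∧
      (8 ∣ Nat.card T ↔ Fintype.card F % 8 = 1 ∨ Fintype.card F % 8 = 7) := by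
  obtain ⟨m, hm⟩ := id hodd
  have hq3 := three_le_card hodd
  rcases Nat.even_or_odd m with ⟨j, hj⟩ | ⟨j, hj⟩
  · refine ⟨splitTorus F, Fintype.card F * (2 * j + 1), isTorus_split hodd (by omega),
      by rw [card_splitTorus]; omega, hodd.mul ⟨j, rfl⟩, ?_, by rw [card_splitTorus]; omega⟩
    apply index_eq_of_card
    rw [card_splitTorus, natCard_SL_factor, show Fintype.card F + 1 = 2 * (2 * j + 1) by omega]
    ring
  · obtain ⟨c, hc⟩ := exists_ell (F := F)
    refine ⟨tor c, Fintype.card F * (2 * j + 1), isTorus_tor hc,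
      by rw [card_tor hc]; omega, hodd.mul ⟨j, rfl⟩, ?_, by rw [card_tor hc]; omega⟩
    apply index_eq_of_card
    rw [card_tor hc, natCard_SL_factor, show Fintype.card F - 1 = 2 * (2 * j + 1) by omega]
    ring

/-- The shape of a Sylow 2-subgroup. -/
structure TwoShape (S T : Subgroup (SL F)) (y w : SL F) : Prop where
  torus : IsTorus T
  yS : y ∈ S
  yT : y ∈ T
  wS : w ∈ S
  wT : w ∉ T
  wN : w ∈ Subgroup.normalizer (T : Set (SL F))
  SN : S ≤ Subgroup.normalizer (T : Set (SL F))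
  gen : ∀ x ∈ S, x ∈ T → x ∈ Subgroup.zpowers y
  two : ∀ x ∈ T, ∀ k : ℕ, x ^ (2 ^ k) = 1 → x ∈ S
  card : Nat.card S = 2 * orderOf y
  four : 4 ∣ orderOf y
  eight : 8 ∣ orderOf y ↔ Fintype.card F % 8 = 1 ∨ Fintype.card F % 8 = 7

theorem exists_twoShape (hodd : Odd (Fintype.card F)) (S : Sylow 2 (SL F)) :
    ∃ T y w, TwoShape (S : Subgroup (SL F)) T y w := by
  obtain ⟨T₀, r, hT₀, h4, hr, hidx, h8⟩ := exists_torus_four hodd
  have hNidx : ¬ 2 ∣ (Subgroup.normalizer (T₀ : Set (SL F))).index := by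
    have h1 := Subgroup.relIndex_mul_index (Subgroup.le_normalizer (H := T₀))
    rw [Subgroup.relIndex, hT₀.index_eq_two hodd, hidx] at h1
    rw [Nat.eq_of_mul_eq_mul_left two_pos h1, ← even_iff_two_dvd]
    exact Nat.not_even_iff_odd.2 hr
  obtain ⟨g, hg⟩ := sylow_exists_conj_le S _ hNidx
  set T := T₀.map (MulAut.conj g).toMonoidHom with hTdef
  have hT : IsTorus T := hT₀.map_conj g
  have hcardT : Nat.card T = Nat.card T₀ :=
    Nat.card_congr (T₀.equivMapOfInjective _ (MulAut.conj g).injective).symm.toEquiv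
  have hidxT : T.index = 2 * r := by rw [hTdef, index_map_conj, hidx]
  have hSN : (S : Subgroup (SL F)) ≤ Subgroup.normalizer (T : Set (SL F)) := by
    refine hg.trans_eq ?_
    exact Subgroup.map_equiv_normalizer_eq T₀ (MulAut.conj g)
  set A : Subgroup (SL F) := (S : Subgroup (SL F)) ⊓ T with hA
  obtain ⟨w, hwS, hwT⟩ : ∃ w ∈ (S : Subgroup (SL F)), w ∉ T := by
    by_contra h
    push Not at h
    exact S.not_dvd_index ((hidxT ▸ dvd_mul_right 2 r).trans (Subgroup.index_dvd_of_le h))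
  have hrel : A.relIndex (S : Subgroup (SL F)) = 2 := by
    rw [Subgroup.relIndex, Subgroup.index_eq_two_iff]
    refine ⟨⟨w, hwS⟩, fun b => ?_⟩
    simp only [Subgroup.mem_subgroupOf, Subgroup.coe_mul, hA, Subgroup.mem_inf]
    have hb : (b : SL F) * w ∈ (S : Subgroup (SL F)) := mul_mem b.2 hwS
    have hidx2 := hT.index_eq_two hodd
    have h2 := Subgroup.mul_mem_iff_of_index_two hidx2 (a := ⟨b, hSN b.2⟩) (b := ⟨w, hSN hwS⟩)
    simp only [Subgroup.mem_subgroupOf, Subgroup.coe_mul] at h2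
    by_cases hbT : (b : SL F) ∈ T
    · exact Or.inr ⟨⟨b.2, hbT⟩, fun h => hwT ((h2.1 h.2).1 hbT)⟩
    · exact Or.inl ⟨⟨hb, h2.2 (iff_of_false hbT hwT)⟩, fun h => hbT h.2⟩
  have hcardS : Nat.card (S : Subgroup (SL F)) = Nat.card A * 2 := by
    have h0 := Subgroup.card_mul_index (A.subgroupOf (S : Subgroup (SL F)))
    rw [← Subgroup.relIndex, hrel,
      Nat.card_congr (Subgroup.subgroupOfEquivOfLe (inf_le_left : A ≤ (S : Subgroup (SL F)))).toEquiv]
      at h0
    exact h0.symm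
  have hAidx : Odd (A.relIndex T) := by
    have h1 := Subgroup.relIndex_mul_index (inf_le_left : A ≤ (S : Subgroup (SL F)))
    have h2 := Subgroup.relIndex_mul_index (inf_le_right : A ≤ T)
    rw [hrel] at h1
    rw [hidxT, ← h1] at h2
    have h3 : A.relIndex T * r = (S : Subgroup (SL F)).index :=
      Nat.eq_of_mul_eq_mul_left two_pos (by rw [← h2]; ring)
    have h4' : Odd (S : Subgroup (SL F)).index := by
      rw [Nat.odd_iff]
      have := S.not_dvd_index
      omega
    rw [← h3] at h4'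
    exact (Nat.odd_mul.1 h4').1
  have hAcard : Nat.card T = Nat.card A * A.relIndex T := by
    rw [Subgroup.relIndex,
      ← Nat.card_congr (Subgroup.subgroupOfEquivOfLe (inf_le_right : A ≤ T)).toEquiv]
    exact (Subgroup.card_mul_index _).symm
  have hcop : ∀ n : ℕ, 2 ^ n ∣ Nat.card T ↔ 2 ^ n ∣ Nat.card A := fun n => by
    rw [hAcard]
    exact ⟨fun h => (Nat.Coprime.pow_left n (Nat.coprime_two_left.2 hAidx)).dvd_of_dvd_mul_right h,
      fun h => h.mul_right _⟩
  haveI : IsCyclic T := hT.cyc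
  obtain ⟨⟨y, hy⟩, hgen⟩ : ∃ y : A, ∀ x : A, x ∈ Subgroup.zpowers y := by
    haveI : IsCyclic (A.subgroupOf T) := Subgroup.isCyclic _
    exact (isCyclic_of_surjective (Subgroup.subgroupOfEquivOfLe (inf_le_right : A ≤ T))
      (Subgroup.subgroupOfEquivOfLe (inf_le_right : A ≤ T)).surjective).exists_generator
  have hord : orderOf y = Nat.card A := by
    rw [← orderOf_eq_card_of_forall_mem_zpowers hgen, Subgroup.orderOf_mk]
  refine ⟨T, y, w, hT, hy.1, hy.2, hwS, hwT, hSN hwS, hSN, fun x hx hx' => ?_, fun x hx k hk => ?_,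
    by rw [hcardS, hord, mul_comm], ?_, ?_⟩
  · obtain ⟨k, hk⟩ := Subgroup.mem_zpowers_iff.1 (hgen ⟨x, hx, hx'⟩)
    exact Subgroup.mem_zpowers_iff.2 ⟨k, by simpa using congrArg Subtype.val hk⟩
  · have h1 : x ^ A.relIndex T ∈ A := by
      haveI : (A.subgroupOf T).Normal := ⟨fun a ha g => by
        rw [Subgroup.mem_subgroupOf] at ha ⊢
        simp only [Subgroup.coe_mul, Subgroup.coe_inv]
        rwa [hT.comm g.2 a.2, mul_inv_cancel_right]⟩
      have h2 := Subgroup.pow_index_mem (A.subgroupOf T) (⟨x, hx⟩ : T)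
      rw [Subgroup.mem_subgroupOf] at h2
      simpa [Subgroup.relIndex] using h2
    have hcp : Nat.Coprime (2 ^ k) (A.relIndex T) :=
      Nat.Coprime.pow_left k (Nat.coprime_two_left.2 hAidx)
    have hb : x ^ ((Nat.gcd (2 ^ k) (A.relIndex T) : ℕ) : ℤ) ∈ A := by
      rw [Nat.gcd_eq_gcd_ab, _root_.zpow_add, _root_.zpow_mul, _root_.zpow_mul, zpow_natCast, zpow_natCast, hk,
        _root_.one_zpow, one_mul]
      exact Subgroup.zpow_mem _ h1 _
    rw [hcp, Nat.cast_one, _root_.zpow_one] at hb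
    exact hb.1
  · rw [hord, show 4 = 2 ^ 2 from rfl, ← hcop, hcardT]
    exact h4
  · rw [hord, show 8 = 2 ^ 3 from rfl, ← hcop, hcardT]
    exact h8

namespace TwoShape

variable {S T : Subgroup (SL F)} {y w : SL F}

theorem hinv (h : TwoShape S T y w) {g : SL F} (hg : g ∈ Subgroup.normalizer (T : Set (SL F)))
    (hgT : g ∉ T) : ∀ x ∈ T, g * x * g⁻¹ = x⁻¹ :=
  (h.torus.normalizer_dichotomy hg).resolve_left hgT

theorem y_not_center (h : TwoShape S T y w) : y ∉ Subgroup.center (SL F) := fun hc => by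
  have h1 : orderOf y ∣ 2 := by
    rw [orderOf_dvd_iff_pow_eq_one, pow_two]
    exact mul_self_eq_one_of_center hc
  have := Nat.le_of_dvd two_pos (h.four.trans h1)
  omega

theorem sq_outer (h : TwoShape S T y w) (hodd : Odd (Fintype.card F)) {x : SL F} (hx : x ∈ S)
    (hxT : x ∉ T) : x * x = negOne F := h.torus.sq_eq_negOne hodd (h.SN hx) hxT

theorem pow_four (hodd : Odd (Fintype.card F)) (h : TwoShape S T y w) {x : SL F} (hx : x ∈ S)
    (hxT : x ∉ T) : x ^ 4 = 1 := by
  rw [show 4 = 2 * 2 from rfl, pow_mul, pow_two x, h.sq_outer hodd hx hxT, pow_two]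
  exact mul_self_eq_one_of_center negOne_mem_center

theorem inv_mul_mem (h : TwoShape S T y w) (hodd : Odd (Fintype.card F)) {x : SL F}
    (hx : x ∈ Subgroup.normalizer (T : Set (SL F))) (hxT : x ∉ T) : w⁻¹ * x ∈ T :=
  Subgroup.mem_subgroupOf.1
    (mem_of_not_mem_mul (h.torus.index_eq_two hodd) (x := ⟨w, h.wN⟩) (y := ⟨x, hx⟩)
      (fun e => h.wT (Subgroup.mem_subgroupOf.1 e)) fun e => hxT (Subgroup.mem_subgroupOf.1 e))

theorem isPGroup (h : TwoShape S T y w) {S' : Sylow 2 (SL F)} (hS : (S' : Subgroup (SL F)) = S) :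
    IsPGroup 2 S := hS ▸ S'.isPGroup'

theorem centralizer_eq (h : TwoShape S T y w) (hodd : Odd (Fintype.card F)) :
    Subgroup.centralizer (S : Set (SL F)) = Subgroup.center (SL F) := by
  refine le_antisymm (fun g hg => ?_) (Subgroup.center_le_centralizer _)
  have hgT : g ∈ T := by
    rw [← h.torus.cent y h.yT h.y_not_center, Subgroup.mem_centralizer_singleton_iff]
    exact (Subgroup.mem_centralizer_iff.1 hg y h.yS).symm
  have h1 := h.hinv h.wN h.wT g hgT
  rw [Subgroup.mem_centralizer_iff.1 hg w h.wS, mul_inv_cancel_right] at h1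
  exact mem_center_of_mul_self hodd (eq_inv_iff_mul_eq_one.1 h1)

theorem two_power (h : TwoShape S T y w) (hp : IsPGroup 2 S) {x : SL F} (hx : x ∈ S) :
    ∃ k : ℕ, x ^ 2 ^ k = 1 := by
  obtain ⟨k, hk⟩ := hp ⟨x, hx⟩
  exact ⟨k, by simpa using congrArg Subtype.val hk⟩

theorem mem_of_normalizes (h : TwoShape S T y w) (hp : IsPGroup 2 S)
    (hodd : Odd (Fintype.card F)) {g : SL F} (hgS : g ∈ Subgroup.normalizer (S : Set (SL F)))
    (hgy : g * y * g⁻¹ ∈ T) : g ∈ S := by
  have hgN := h.torus.mem_normalizer_of_mem h.yT h.y_not_center hgy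
  have key : ∀ a ∈ T, a ∈ Subgroup.normalizer (S : Set (SL F)) → a ∈ S := by
    intro a ha haS
    have h1 := h.hinv h.wN h.wT a ha
    have h2 : a * a * w = a * w * a⁻¹ := by
      rw [mul_inv_eq_iff_eq_mul] at h1
      calc a * a * w = a * (a * w) := mul_assoc _ _ _
        _ = _ := by
          rw [mul_assoc a w]
          congr 1
          have h3 := h.hinv h.wN h.wT a⁻¹ (inv_mem ha)
          rw [inv_inv, mul_inv_eq_iff_eq_mul] at h3
          exact h3.symm
    have h3 : a * a ∈ S := by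
      have h4 : a * a * w ∈ S := by rw [h2]; exact (Subgroup.mem_normalizer_iff.1 haS w).1 h.wS
      simpa using mul_mem h4 (inv_mem h.wS)
    obtain ⟨k, hk⟩ := h.two_power hp h3
    exact h.two a ha (k + 1) (by rw [pow_succ', pow_mul, pow_two, hk])
  by_cases hgT : g ∈ T
  · exact key g hgT hgS
  · have hmem := h.inv_mul_mem hodd hgN hgT
    have h1 := key _ hmem (mul_mem (inv_mem (Subgroup.le_normalizer h.wS)) hgS)
    have h2 := mul_mem h.wS h1
    rwa [mul_inv_cancel_left] at h2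

theorem self_normalizing (h : TwoShape S T y w) (hp : IsPGroup 2 S)
    (hodd : Odd (Fintype.card F)) (h8 : 8 ∣ orderOf y) :
    Subgroup.normalizer (S : Set (SL F)) = S := by
  refine le_antisymm (fun g hg => h.mem_of_normalizes hp hodd hg ?_) Subgroup.le_normalizer
  by_contra hout
  have h4 := h.pow_four hodd ((Subgroup.mem_normalizer_iff.1 hg y).1 h.yS) hout
  rw [conj_pow] at h4
  have h5 : y ^ 4 = 1 := by
    calc y ^ 4 = g⁻¹ * (g * y ^ 4 * g⁻¹) * g := by group
      _ = 1 := by rw [h4]; group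
  have := Nat.le_of_dvd (by norm_num) (h8.trans (orderOf_dvd_of_pow_eq_one h5))
  omega

/-- The element permuting the three cyclic subgroups of order four. -/
theorem exists_omega (h : TwoShape S T y w) (hodd : Odd (Fintype.card F)) (h4 : orderOf y = 4) :
    ∃ ω : SL F, ω * w * ω⁻¹ = y ∧ ω * (y * w) * ω⁻¹ = w ∧ ω * y * ω⁻¹ = y * w ∧
      ω * ω * ω = 1 ∧ ω ∈ Subgroup.normalizer (S : Set (SL F)) ∧
      (∀ x ∈ S, x ∈ Subgroup.closure ({y, w} : Set (SL F))) := by
  have h2 := two_ne_zero_of_odd hodd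
  have hyy : y * y = negOne F := by
    rcases center_cases (mem_center_of_mul_self hodd (g := y * y) (by
      rw [← pow_two, ← pow_two, ← pow_mul, show 2 * 2 = orderOf y by rw [h4], pow_orderOf_eq_one])) with e | e
    · exfalso
      have := orderOf_dvd_of_pow_eq_one (x := y) (n := 2) (by rw [pow_two, e])
      rw [h4] at this
      norm_num at this
    · exact e
  have hww := h.sq_outer hodd h.wS h.wT
  have hYY : mt y * mt y = -1 := by rw [← mt_mul, hyy, mt_negOne]
  have hWW : mt w * mt w = -1 := by rw [← mt_mul, hww, mt_negOne]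
  have hyinv : y⁻¹ = negOne F * y := by
    refine inv_eq_of_mul_eq_one_left ?_
    rw [mul_assoc, hyy, mul_self_eq_one_of_center negOne_mem_center]
  have hYinv : mt y⁻¹ = -mt y := by rw [hyinv, mt_mul, mt_negOne, neg_mul, one_mul]
  have hwinv : w⁻¹ = negOne F * w := by
    refine inv_eq_of_mul_eq_one_left ?_
    rw [mul_assoc, hww, mul_self_eq_one_of_center negOne_mem_center]
  have hWinv : mt w⁻¹ = -mt w := by rw [hwinv, mt_mul, mt_negOne, neg_mul, one_mul]
  have hWY : mt w * mt y = -(mt y * mt w) := by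
    have h1 := h.hinv h.wN h.wT y h.yT
    rw [mul_inv_eq_iff_eq_mul] at h1
    have h3 := congrArg mt h1
    rw [mt_mul, mt_mul, hYinv, neg_mul] at h3
    exact h3
  have htrY : (mt y).trace = 0 := by
    have h1 := mt_inv y
    rw [hYinv] at h1
    have h3 := congrFun (congrFun h1 0) 0
    simp at h3
    linear_combination -h3
  have htrW : (mt w).trace = 0 := by
    have h1 := mt_inv w
    rw [hWinv] at h1
    have h3 := congrFun (congrFun h1 0) 0
    simp at h3
    linear_combination -h3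
  set Y := mt y with hY
  set W := mt w with hW
  have htrYW : (Y * W).trace = 0 := by
    have h1 : (W * Y).trace = (Y * W).trace := Matrix.trace_mul_comm W Y
    rw [hWY, Matrix.trace_neg] at h1
    exact (mul_eq_zero.1 (show (2 : F) * (Y * W).trace = 0 by linear_combination -h1)).resolve_left h2
  have e1 : Y * (Y * W) = -W := by rw [← mul_assoc, hYY, neg_one_mul]
  have e2 : W * (Y * W) = Y := by
    rw [← mul_assoc, hWY, neg_mul, mul_assoc, hWW, mul_neg, mul_one, neg_neg]
  have e3 : Y * W * Y = W := by rw [mul_assoc, hWY, mul_neg, e1, neg_neg]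
  have e4 : Y * W * W = -Y := by rw [mul_assoc, hWW, mul_neg, mul_one]
  have e5 : Y * W * (Y * W) = -1 := by rw [← mul_assoc, e3, hWW]
  set X : Matrix (Fin 2) (Fin 2) F := (2 : F)⁻¹ • (-1 + Y + W + Y * W) with hX
  have hXsq : X * X = -1 - X := by
    rw [hX]
    simp only [Matrix.smul_mul, Matrix.mul_smul, smul_smul]
    have hexp : (-1 + Y + W + Y * W) * (-1 + Y + W + Y * W) =
        -(2 : F) • (1 : Matrix (Fin 2) (Fin 2) F) - (2 : F) • (Y + W + Y * W) := by
      simp only [add_mul, mul_add, neg_one_mul, mul_neg_one, hYY, hWW, hWY, e1, e2, e3, e4, e5]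
      module
    rw [hexp]
    match_scalars <;> field_simp <;> ring
  have htr : X.trace = -1 := by
    simp only [hX, Matrix.trace_smul, Matrix.trace_add, Matrix.trace_neg, Matrix.trace_one, htrY,
      htrW, htrYW, Fintype.card_fin]
    push_cast
    field_simp
    rw [smul_eq_mul]
    field_simp
    ring
  have hdet : X.det = 1 := by
    have h1 := sq_eq X
    rw [hXsq, htr] at h1
    have h3 := congrFun (congrFun h1 0) 0
    simp at h3
    linear_combination h3
  obtain ⟨ω, hω⟩ : ∃ ω : SL F, mt ω = X := ⟨⟨X, hdet⟩, rfl⟩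
  have c1 : ω * w = y * ω := by
    apply mt_injective
    rw [mt_mul, mt_mul, hω, hX, Matrix.smul_mul, Matrix.mul_smul, ← hW, ← hY]
    congr 1
    simp only [add_mul, mul_add, neg_one_mul, mul_neg_one, hYY, hWW, e1, e4]
    abel
  have c2 : ω * (y * w) = w * ω := by
    apply mt_injective
    rw [mt_mul, mt_mul, mt_mul, hω, hX, Matrix.smul_mul, Matrix.mul_smul, ← hW, ← hY]
    congr 1
    simp only [add_mul, mul_add, neg_one_mul, mul_neg_one, hWW, hWY, e1, e2, e5]
    abel
  have c3 : ω * y = y * w * ω := by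
    apply mt_injective
    rw [mt_mul, mt_mul, mt_mul, hω, hX, Matrix.smul_mul, Matrix.mul_smul, ← hW, ← hY]
    congr 1
    simp only [add_mul, mul_add, neg_one_mul, mul_neg_one, hYY, hWY, e3, e4, e5]
    abel
  have c4 : ω * ω * ω = 1 := by
    apply mt_injective
    rw [mt_mul, mt_mul, mt_one, hω, hXsq, sub_mul, neg_one_mul, hXsq]
    abel
  have hclosure : ∀ x ∈ S, x ∈ Subgroup.closure ({y, w} : Set (SL F)) := by
    intro x hx
    have hy' : y ∈ Subgroup.closure ({y, w} : Set (SL F)) := Subgroup.subset_closure (by simp)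
    have hw' : w ∈ Subgroup.closure ({y, w} : Set (SL F)) := Subgroup.subset_closure (by simp)
    by_cases hxT : x ∈ T
    · exact (Subgroup.zpowers_le.2 hy') (h.gen x hx hxT)
    · have h5 := (Subgroup.zpowers_le.2 hy')
        (h.gen _ (mul_mem (inv_mem h.wS) hx) (h.inv_mul_mem hodd (h.SN hx) hxT))
      have h6 := mul_mem hw' h5
      rwa [mul_inv_cancel_left] at h6
  refine ⟨ω, mul_inv_eq_iff_eq_mul.2 c1, mul_inv_eq_iff_eq_mul.2 c2, mul_inv_eq_iff_eq_mul.2 c3,
    c4, ?_, hclosure⟩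
  have hle : S.map (MulAut.conj ω).toMonoidHom ≤ S := by
    have hS : S = Subgroup.closure ({y, w} : Set (SL F)) := by
      refine le_antisymm hclosure ((Subgroup.closure_le _).2 ?_)
      intro x hx
      simp only [Set.mem_insert_iff, Set.mem_singleton_iff] at hx
      rcases hx with rfl | rfl
      exacts [h.yS, h.wS]
    conv_lhs => rw [hS]
    rw [MonoidHom.map_closure, Subgroup.closure_le]
    rintro _ ⟨x, hx, rfl⟩
    simp only [Set.mem_insert_iff, Set.mem_singleton_iff] at hx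
    rcases hx with rfl | rfl
    · show ω * x * ω⁻¹ ∈ S
      rw [mul_inv_eq_iff_eq_mul.2 c3]; exact mul_mem h.yS h.wS
    · show ω * x * ω⁻¹ ∈ S
      rw [mul_inv_eq_iff_eq_mul.2 c1]; exact h.yS
  rw [Subgroup.mem_normalizer_iff]
  refine fun x => ⟨fun hx => hle ⟨x, hx, rfl⟩, fun hx => ?_⟩
  have h1 : ω * (ω * (ω * x * ω⁻¹) * ω⁻¹) * ω⁻¹ ∈ S :=
    hle ⟨_, hle ⟨_, hx, rfl⟩, rfl⟩
  have h3 : ω * (ω * (ω * x * ω⁻¹) * ω⁻¹) * ω⁻¹ = x := by
    calc ω * (ω * (ω * x * ω⁻¹) * ω⁻¹) * ω⁻¹ = (ω * ω * ω) * x * (ω * ω * ω)⁻¹ := by group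
      _ = x := by rw [c4]; group
  rwa [h3] at h1

theorem card_normalizer_four (h : TwoShape S T y w) (hp : IsPGroup 2 S)
    (hodd : Odd (Fintype.card F)) (h4 : orderOf y = 4) :
    Nat.card (Subgroup.normalizer (S : Set (SL F))) = 3 * Nat.card S := by
  obtain ⟨ω, c1, c2, c3, c4, hωN, hcl⟩ := h.exists_omega hodd h4
  set N := Subgroup.normalizer (S : Set (SL F))
  have hout : ∀ x ∈ S, x ∉ T → x = w ∨ x = w⁻¹ ∨ x = y * w ∨ x = (y * w)⁻¹ := by
    intro x hx hxT
    have hz := h.gen _ (mul_mem (inv_mem h.wS) hx) (h.inv_mul_mem hodd (h.SN hx) hxT)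
    have hyfin : IsOfFinOrder y := isOfFinOrder_of_finite y
    obtain ⟨i, hi⟩ := (mem_powers_iff_mem_zpowers).2 hz
    have hi' : x = w * y ^ (i % 4) := by
      rw [← h4, pow_mod_orderOf]
      simp only at hi
      rw [hi, mul_inv_cancel_left]
    have hwyinv : w * y = y⁻¹ * w := by
      have h1 := h.hinv h.wN h.wT y h.yT
      rwa [mul_inv_eq_iff_eq_mul] at h1
    have hyy : y * y = negOne F := by
      rcases center_cases (mem_center_of_mul_self hodd (g := y * y) (by
        rw [← pow_two, ← pow_two, ← pow_mul, show 2 * 2 = orderOf y by rw [h4], pow_orderOf_eq_one])) with e | e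
      · exfalso
        have := orderOf_dvd_of_pow_eq_one (x := y) (n := 2) (by rw [pow_two, e])
        rw [h4] at this
        norm_num at this
      · exact e
    have hy3 : y ^ 3 = y⁻¹ := by
      refine eq_inv_of_mul_eq_one_left ?_
      rw [← pow_succ, show 3 + 1 = orderOf y by rw [h4], pow_orderOf_eq_one]
    have hww := h.sq_outer hodd h.wS h.wT
    have hzc := negOne_mem_center (F := F)
    have hzz := mul_self_eq_one_of_center hzc
    have hcases : i % 4 = 0 ∨ i % 4 = 1 ∨ i % 4 = 2 ∨ i % 4 = 3 := by omega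
    rcases hcases with e | e | e | e <;> rw [e] at hi'
    · exact Or.inl (by rw [hi', pow_zero, mul_one])
    · refine Or.inr (Or.inr (Or.inr ?_))
      rw [hi', pow_one]
      refine eq_inv_of_mul_eq_one_left ?_
      calc w * y * (y * w) = w * (y * y) * w := by group
        _ = negOne F * (w * w) := by
          rw [hyy, Subgroup.mem_center_iff.1 hzc w, mul_assoc]
        _ = 1 := by rw [hww, hzz]
    · refine Or.inr (Or.inl ?_)
      rw [hi', pow_two, hyy]
      refine eq_inv_of_mul_eq_one_left ?_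
      calc w * negOne F * w = negOne F * (w * w) := by
            rw [Subgroup.mem_center_iff.1 hzc w, mul_assoc]
        _ = 1 := by rw [hww, hzz]
    · refine Or.inr (Or.inr (Or.inl ?_))
      have h1 := h.hinv h.wN h.wT y⁻¹ (inv_mem h.yT)
      rw [inv_inv, mul_inv_eq_iff_eq_mul] at h1
      rw [hi', hy3, h1]
  have hωout : ω * y * ω⁻¹ ∉ T := by
    rw [c3]
    exact fun e => h.wT ((Subgroup.mul_mem_cancel_left T h.yT).1 e)
  have hω1 : ω ∉ S := fun e => hωout
    (((Subgroup.mem_normalizer_iff.1 (h.SN e)) y).1 h.yT)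
  have hω2 : ω * ω ∉ S := fun e => hω1 (by
    have h2 : ω * ω * (ω * ω) = ω := by
      calc ω * ω * (ω * ω) = ω * ω * ω * ω := by group
        _ = ω := by rw [c4, one_mul]
    have h3 := mul_mem e e
    rwa [h2] at h3)
  have hpow : ∀ i : ℕ, ω ^ i ∈ N := fun i => pow_mem hωN i
  refine (Nat.card_eq_of_bijective
    (fun p : Fin 3 × S => (⟨ω ^ (p.1 : ℕ) * (p.2 : SL F),
      mul_mem (hpow _) (Subgroup.le_normalizer p.2.2)⟩ : N)) ⟨?_, ?_⟩).symm.trans ?_
  · rintro ⟨i, s⟩ ⟨j, t⟩ hst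
    have h1 : ω ^ (i : ℕ) * (s : SL F) = ω ^ (j : ℕ) * (t : SL F) := congrArg Subtype.val hst
    have h2 : (ω ^ (j : ℕ))⁻¹ * ω ^ (i : ℕ) ∈ S := by
      have : (ω ^ (j : ℕ))⁻¹ * ω ^ (i : ℕ) = (t : SL F) * (s : SL F)⁻¹ := by
        rw [eq_mul_inv_iff_mul_eq, mul_assoc, h1, inv_mul_cancel_left]
      rw [this]
      exact mul_mem t.2 (inv_mem s.2)
    have hij : i = j := by
      have h3 := inv_mem h2
      fin_cases i <;> fin_cases j <;>
        simp [pow_two] at h2 h3 ⊢
      all_goals first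
        | exact hω1 h2
        | exact hω1 h3
        | exact hω2 h2
        | exact hω2 h3
        | (refine hω1 ?_; simpa [mul_assoc] using h2)
        | (refine hω1 ?_; simpa [mul_assoc] using h3)
    subst hij
    exact Prod.ext rfl (Subtype.ext (mul_left_cancel h1))
  · rintro ⟨g, hg⟩
    have hy' := (Subgroup.mem_normalizer_iff.1 hg y).1 h.yS
    have finish : ∀ i : ℕ, ω ^ i * g * y * (ω ^ i * g)⁻¹ ∈ T → ω ^ i * g ∈ S := fun i hi =>
      h.mem_of_normalizes hp hodd (mul_mem (hpow i) hg) hi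
    by_cases hyT : g * y * g⁻¹ ∈ T
    · exact ⟨⟨0, ⟨g, h.mem_of_normalizes hp hodd hg hyT⟩⟩, Subtype.ext (by simp)⟩
    rcases hout _ hy' hyT with e | e | e | e
    · have hs := finish 1 (by
        rw [pow_one, show ω * g * y * (ω * g)⁻¹ = ω * (g * y * g⁻¹) * ω⁻¹ by group, e, c1]
        exact h.yT)
      refine ⟨⟨2, ⟨_, hs⟩⟩, Subtype.ext ?_⟩
      show ω ^ 2 * (ω ^ 1 * g) = g
      rw [← mul_assoc, pow_two, pow_one, c4, one_mul]
    · have hs := finish 1 (by
        rw [pow_one, show ω * g * y * (ω * g)⁻¹ = ω * (g * y * g⁻¹) * ω⁻¹ by group, e, ← conj_inv,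
          c1]
        exact inv_mem h.yT)
      refine ⟨⟨2, ⟨_, hs⟩⟩, Subtype.ext ?_⟩
      show ω ^ 2 * (ω ^ 1 * g) = g
      rw [← mul_assoc, pow_two, pow_one, c4, one_mul]
    · have hs := finish 2 (by
        rw [show ω ^ 2 * g * y * (ω ^ 2 * g)⁻¹ = ω * (ω * (g * y * g⁻¹) * ω⁻¹) * ω⁻¹ by rw [pow_two]; group,
          e, c2, c1]
        exact h.yT)
      refine ⟨⟨1, ⟨_, hs⟩⟩, Subtype.ext ?_⟩
      show ω ^ 1 * (ω ^ 2 * g) = g
      rw [pow_one, pow_two, ← mul_assoc, ← mul_assoc, c4, one_mul]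
    · have hs := finish 2 (by
        rw [show ω ^ 2 * g * y * (ω ^ 2 * g)⁻¹ = ω * (ω * (g * y * g⁻¹) * ω⁻¹) * ω⁻¹ by rw [pow_two]; group,
          e, ← conj_inv, c2, ← conj_inv, c1]
        exact inv_mem h.yT)
      refine ⟨⟨1, ⟨_, hs⟩⟩, Subtype.ext ?_⟩
      show ω ^ 1 * (ω ^ 2 * g) = g
      rw [pow_one, pow_two, ← mul_assoc, ← mul_assoc, c4, one_mul]
  · rw [Nat.card_prod, Nat.card_eq_fintype_card, Fintype.card_fin]

end TwoShape

end CfsgLib.SL2C
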