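import Cfsg.Agent.SL2C.Bridge
import Mathlib.Algebra.CharP.Basic
import Mathlib.Algebra.CharP.Lemmas
import Mathlib.NumberTheory.LegendreSymbol.QuadraticChar.Basic

/-!
Parabolic elements of SL₂: conjugacy, centralisers, and the elements of order `p`.
-/

set_option autoImplicit false
set_option linter.unusedSectionVars false
set_option linter.style.haveILetI false

namespace CfsgLib.SL2C

open Matrix Finset
open scoped Classical

variable {F : Type*} [Field F]

theorem sgn_coe_mul {e : Fˣ} (he : e * e = 1) : ((e⁻¹ : Fˣ) : F) = e := by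
  rw [inv_eq_of_mul_eq_one_left he]

/-- What conjugates one parabolic element to another is upper triangular. -/
theorem eq_of_conj_bor {e : Fˣ} (he : e * e = 1) {b b' : F} (hb : b ≠ 0) {x : SL F}
    (h : bor e b' * x = x * bor e b) (hb' : b' ≠ 0) :
    mt x 1 0 = 0 ∧ b' * mt x 1 1 = b * mt x 0 0 := by
  have hh := congrArg mt h
  rw [mt_mul, mt_mul, mt_bor, mt_bor, sgn_coe_mul he] at hh
  have h00 := congrFun (congrFun hh 0) 0
  have h01 := congrFun (congrFun hh 0) 1
  simp [Matrix.mul_apply, Fin.sum_univ_two] at h00 h01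
  refine ⟨(mul_eq_zero.1 (show b' * mt x 1 0 = 0 by linear_combination h00)).resolve_left hb', ?_⟩
  linear_combination h01

theorem isConj_bor_iff {e : Fˣ} (he : e * e = 1) {b b' : F} (hb : b ≠ 0) (hb' : b' ≠ 0) :
    IsConj (bor e b) (bor e b') ↔ IsSquare (b * b') := by
  constructor
  · intro h
    obtain ⟨x, hx⟩ := isConj_iff.1 h
    rw [mul_inv_eq_iff_eq_mul] at hx
    obtain ⟨h10, h11⟩ := eq_of_conj_bor he hb hx.symm hb'
    have hd := det_mt x
    rw [Matrix.det_fin_two, h10] at hd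
    refine ⟨b * mt x 0 0, ?_⟩
    linear_combination -(b * b') * hd + b * mt x 0 0 * h11
  · rintro ⟨s, hs⟩
    have hs0 : s ≠ 0 := fun e0 => mul_ne_zero hb hb' (by rw [hs, e0, mul_zero])
    refine isConj_iff.2 ⟨dg (Units.mk0 (s / b) (div_ne_zero hs0 hb)), ?_⟩
    rw [mul_inv_eq_iff_eq_mul]
    apply mt_injective
    rw [mt_mul, mt_mul, mt_dg, mt_bor, mt_bor, sgn_coe_mul he]
    ext i j
    fin_cases i <;> fin_cases j <;> simp [Matrix.mul_apply, Fin.sum_univ_two] <;> field_simp
    linear_combination -hs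

theorem mem_centralizer_bor {e : Fˣ} (he : e * e = 1) {b : F} (hb : b ≠ 0) {x : SL F} :
    x ∈ Subgroup.centralizer ({bor e b} : Set (SL F)) ↔
      ∃ (a : Fˣ) (c : F), a * a = 1 ∧ x = bor a c := by
  rw [Subgroup.mem_centralizer_singleton_iff]
  constructor
  · intro h
    obtain ⟨h10, h11⟩ := eq_of_conj_bor he hb h.symm hb
    obtain ⟨a, c, rfl⟩ := exists_bor_of_apply h10
    refine ⟨a, c, ?_, rfl⟩
    rw [← eq_inv_iff_mul_eq_one]
    exact Units.ext ((mul_left_cancel₀ hb (by simpa [mt_bor] using h11)).symm.trans (by simp))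
  · rintro ⟨a, c, ha, rfl⟩
    rw [bor_mul, bor_mul, mul_comm a e, sgn_coe_mul he, sgn_coe_mul ha]
    congr 1
    ring

variable [Fintype F]

theorem natCard_centralizer_bor {e : Fˣ} (he : e * e = 1) {b : F} (hb : b ≠ 0) :
    Nat.card (Subgroup.centralizer ({bor e b} : Set (SL F))) =
      (sgn F).card * Fintype.card F := by
  rw [← Nat.card_eq_finsetCard (sgn F), ← Nat.card_eq_fintype_card (α := F), ← Nat.card_prod]
  refine (Nat.card_eq_of_bijective (fun p : sgn F × F =>
    (⟨bor p.1.1 p.2, (mem_centralizer_bor he hb).2 ⟨_, _, mem_sgn.1 p.1.2, rfl⟩⟩ :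
      Subgroup.centralizer ({bor e b} : Set (SL F)))) ⟨fun p r h => ?_, fun x => ?_⟩).symm
  · obtain ⟨h1, h2⟩ := bor_inj (congrArg Subtype.val h)
    exact Prod.ext (Subtype.ext h1) h2
  · obtain ⟨a, c, ha, hx⟩ := (mem_centralizer_bor he hb).1 x.2
    exact ⟨⟨⟨a, mem_sgn.2 ha⟩, c⟩, Subtype.ext hx.symm⟩

theorem natCard_carrier_bor {e : Fˣ} (he : e * e = 1) {b : F} (hb : b ≠ 0) {g : SL F}
    (hg : IsConj (bor e b) g) :
    (sgn F).card * Nat.card (ConjClasses.mk g).carrier = Fintype.card F ^ 2 - 1 := by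
  have h := CfsgLib.Char.card_conj_class_mul_card_centralizer (bor e b)
  rw [natCard_centralizer_bor he hb, card_SL2_mul] at h
  have hc : Nat.card (ConjClasses.mk g).carrier = Nat.card {x : SL F // IsConj (bor e b) x} := by
    refine Nat.card_congr (Equiv.subtypeEquivRight fun x => ?_)
    rw [ConjClasses.mem_carrier_iff_mk_eq, ConjClasses.mk_eq_mk_iff_isConj]
    exact ⟨fun h => hg.trans h.symm, fun h => h.symm.trans hg⟩
  rw [hc]
  refine Nat.eq_of_mul_eq_mul_left (Fintype.card_pos (α := F)) ?_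
  rw [← h]
  ring

theorem bor_one_pow (n : ℕ) (x : F) : bor 1 x ^ n = bor 1 ((n : F) * x) := by
  induction n with
  | zero => rw [pow_zero, Nat.cast_zero, zero_mul, bor_one_zero]
  | succ n ih =>
    rw [pow_succ, ih, bor_mul, one_mul, inv_one, Units.val_one, one_mul, mul_one]
    congr 1
    push_cast
    ring

theorem mt_bor_pow_00 (a : Fˣ) (b : F) (n : ℕ) : ∃ c : F, bor a b ^ n = bor (a ^ n) c := by
  induction n with
  | zero => exact ⟨0, by rw [pow_zero, pow_zero, bor_one_zero]⟩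
  | succ n ih =>
    obtain ⟨c, hc⟩ := ih
    exact ⟨_, by rw [pow_succ, pow_succ, hc, bor_mul]⟩

theorem units_eq_one_of_pow_char (p : ℕ) [Fact p.Prime] [CharP F p] {a : Fˣ} (h : a ^ p = 1) :
    a = 1 := by
  have h1 : ((a : F) - 1) ^ p = 0 := by
    rw [sub_pow_char, one_pow, ← Units.val_pow_eq_pow_val, h, Units.val_one, sub_self]
  exact Units.ext (sub_eq_zero.1 (pow_eq_zero_iff (Fact.out : p.Prime).ne_zero |>.1 h1))

theorem orderOf_bor_one (p : ℕ) [Fact p.Prime] [CharP F p] {b : F} (hb : b ≠ 0) :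
    orderOf (bor (1 : Fˣ) b) = p := by
  refine orderOf_eq_prime ?_ fun h => hb ?_
  · rw [bor_one_pow, CharP.cast_eq_zero, zero_mul, bor_one_zero]
  · exact (bor_inj (h.trans bor_one_zero.symm)).2

theorem card_dvd_char (p : ℕ) [Fact p.Prime] [CharP F p] : p ∣ Fintype.card F := by
  have h : (Fintype.card F : F) = 0 := FiniteField.cast_card_eq_zero F
  exact (CharP.cast_eq_zero_iff F p _).1 h

/-- The elements of order `p` are the conjugates of the unipotent `bor 1 b`. -/
theorem exists_isConj_of_orderOf (p : ℕ) [Fact p.Prime] [CharP F p] {g : SL F}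
    (hg : orderOf g = p) : ∃ b : F, b ≠ 0 ∧ IsConj (bor 1 b) g := by
  have hp : p.Prime := Fact.out
  have hpow : g ^ p = 1 := by rw [← hg]; exact pow_orderOf_eq_one g
  have hg1 : g ≠ 1 := fun e => by
    rw [e, orderOf_one] at hg
    exact hp.ne_one hg.symm
  have hconj : ∀ {x : SL F}, IsConj x g → x ^ p = 1 := fun {x} hx => by
    obtain ⟨z, hz⟩ := isConj_iff.1 hx
    have h1 : z * x ^ p * z⁻¹ = 1 := by rw [← conj_pow, hz, hpow]
    calc x ^ p = z⁻¹ * (z * x ^ p * z⁻¹) * z := by group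
      _ = 1 := by rw [h1]; group
  have hsplit : ∀ {a : Fˣ} {b : F}, bor a b ^ p = 1 → a = 1 := fun {a b} h => by
    obtain ⟨c, hc⟩ := mt_bor_pow_00 a b p
    exact units_eq_one_of_pow_char p (bor_inj ((hc.symm.trans h).trans bor_one_zero.symm)).1
  rcases cases4 g with h | ⟨a, ha, h⟩ | ⟨e, b, he, hb, h⟩ | h
  · obtain ⟨e, -, rfl⟩ := exists_eq_bor_of_mem_center h
    exact absurd (by rw [hsplit hpow, bor_one_zero]) hg1
  · exact absurd (by rw [hsplit (hconj h : bor a 0 ^ p = 1), one_mul]) ha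
  · exact ⟨b, hb, hsplit (hconj h) ▸ h⟩
  · exfalso
    have hd1 : p ∣ Fintype.card F + 1 := by
      rw [← hg, ← card_tor h,
        show orderOf g = orderOf (⟨g, Subgroup.mem_centralizer_singleton_iff.2 rfl⟩ : tor g) from
          Subgroup.orderOf_coe (⟨g, Subgroup.mem_centralizer_singleton_iff.2 rfl⟩ : tor g)]
      exact orderOf_dvd_natCard _
    have := (Nat.dvd_add_right (card_dvd_char (F := F) p)).1 hd1
    exact hp.ne_one (Nat.dvd_one.1 this)

theorem sgn_eq_singleton [CharP F 2] : sgn F = {1} := by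
  ext e
  simp only [Finset.mem_singleton, mem_sgn]
  refine ⟨fun h => units_eq_one_of_pow_char 2 (by rw [pow_two, h]), fun h => by rw [h, one_mul]⟩

theorem two_ne_zero_of_odd (hodd : Odd (Fintype.card F)) : (2 : F) ≠ 0 :=
  Ring.two_ne_zero fun h => by
    have := FiniteField.even_card_iff_char_two.1 h
    rw [Nat.odd_iff] at hodd
    omega

theorem card_sgn_odd (hodd : Odd (Fintype.card F)) : (sgn F).card = 2 := by
  have h := sum_sgn_eq hodd fun _ => (1 : ℂ)
  rw [Finset.sum_const, nsmul_eq_mul, mul_one] at h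
  have h2 : ((sgn F).card : ℂ) = ((2 : ℕ) : ℂ) := by rw [h]; norm_num
  exact_mod_cast h2

/-- Two orbits of `Fˣ` modulo squares. -/
theorem exists_nonsquare (hodd : Odd (Fintype.card F)) : ∃ ν : F, ν ≠ 0 ∧ ¬ IsSquare ν := by
  obtain ⟨ν, hν⟩ := FiniteField.exists_nonsquare (F := F) fun h => by
    have := FiniteField.even_card_iff_char_two.1 h
    rw [Nat.odd_iff] at hodd
    omega
  exact ⟨ν, fun h => hν (h ▸ IsSquare.zero), hν⟩

theorem isSquare_mul_of_not {a b : F} (ha : ¬ IsSquare a) (hb : ¬ IsSquare b) :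
    IsSquare (a * b) := by
  rw [← quadraticChar_neg_one_iff_not_isSquare] at ha hb
  have ha0 : a ≠ 0 := fun h => by simp [h] at ha
  have hb0 : b ≠ 0 := fun h => by simp [h] at hb
  rw [← quadraticChar_one_iff_isSquare (mul_ne_zero ha0 hb0), map_mul, ha, hb]
  norm_num

end CfsgLib.SL2C
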