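import Cfsg.Agent.Char.Linear
import Cfsg.Agent.Char.Values
import Mathlib.RingTheory.IntegralDomain

/-!
Sums of linear characters of a finite abelian group, and the sign character of a cyclic group.
-/

set_option autoImplicit false

namespace CfsgLib.SL2C

open Finset
open scoped ComplexConjugate Classical

universe u

variable {A : Type u} [Group A] [Fintype A]

theorem finite_dual : Finite (A →* ℂˣ) := by
  haveI := CfsgLib.Char.finite_irrCharacter A
  exact Finite.of_equiv _ CfsgLib.Char.linearCharEquiv.symm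

noncomputable instance instFintypeDual : Fintype (A →* ℂˣ) :=
  haveI := finite_dual (A := A)
  Fintype.ofFinite _

theorem sum_char (ψ : A →* ℂˣ) :
    ∑ a : A, (ψ a : ℂ) = if ψ = 1 then (Fintype.card A : ℂ) else 0 := by
  have h := sum_hom_units ((Units.coeHom ℂ).comp ψ)
  have hiff : (Units.coeHom ℂ).comp ψ = 1 ↔ ψ = 1 :=
    ⟨fun e => MonoidHom.ext fun a => Units.ext (DFunLike.congr_fun e a),
      fun e => by subst e; ext a; simp⟩
  simpa [hiff, apply_ite (fun n : ℕ => (n : ℂ))] using h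

theorem conj_char (ψ : A →* ℂˣ) (a : A) : conj (ψ a : ℂ) = ((ψ⁻¹) a : ℂ) := by
  rw [CfsgLib.Char.conj_eq_inv_hom, map_inv, MonoidHom.inv_apply]

theorem card_dual (hA : ∀ a b : A, a * b = b * a) :
    Fintype.card (A →* ℂˣ) = Fintype.card A := by
  rw [← Nat.card_eq_fintype_card, CfsgLib.Char.card_hom_eq_index_commutator]
  have h : commutator A = ⊥ := by
    rw [commutator_def, Subgroup.commutator_eq_bot_iff_le_centralizer]
    exact fun a _ => Subgroup.mem_centralizer_iff.2 fun b _ => hA b a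
  rw [h, Subgroup.index_bot, Nat.card_eq_fintype_card]

theorem exists_char_ne_one (hA : ∀ a b : A, a * b = b * a) {a : A} (ha : a ≠ 1) :
    ∃ ψ : A →* ℂˣ, ψ a ≠ 1 := by
  refine CfsgLib.Char.exists_hom_ne_one fun h => ha ?_
  have hb : commutator A = ⊥ := by
    rw [commutator_def, Subgroup.commutator_eq_bot_iff_le_centralizer]
    exact fun a _ => Subgroup.mem_centralizer_iff.2 fun b _ => hA b a
  rw [hb] at h
  exact h

theorem sum_dual (hA : ∀ a b : A, a * b = b * a) (a : A) :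
    ∑ ψ : A →* ℂˣ, (ψ a : ℂ) = if a = 1 then (Fintype.card A : ℂ) else 0 := by
  split_ifs with h
  · subst h
    simp [card_dual hA]
  · obtain ⟨φ, hφ⟩ := exists_char_ne_one hA h
    have h1 : ∑ ψ : A →* ℂˣ, (ψ a : ℂ) = (φ a : ℂ) * ∑ ψ : A →* ℂˣ, (ψ a : ℂ) := by
      rw [Finset.mul_sum]
      exact (Fintype.sum_equiv (Equiv.mulLeft φ) _ _ fun ψ => by simp).symm
    have h2 : (φ a : ℂ) - 1 ≠ 0 := sub_ne_zero.2 fun e => hφ (Units.ext e)
    refine (mul_eq_zero.1 (show ((φ a : ℂ) - 1) * ∑ ψ : A →* ℂˣ, (ψ a : ℂ) = 0 by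
      linear_combination -h1)).resolve_left h2

theorem apply_sign {ψ : A →* ℂˣ} (h : ψ * ψ = 1) (a : A) : ψ a = 1 ∨ ψ a = -1 := by
  have h1 : (ψ a : ℂ) * ψ a = 1 := by
    rw [← Units.val_mul, ← MonoidHom.mul_apply, h, MonoidHom.one_apply, Units.val_one]
  rcases mul_self_eq_one_iff.1 h1 with h2 | h2
  · exact Or.inl (Units.ext h2)
  · exact Or.inr (Units.ext (by rw [h2]; simp))

theorem eq_one_of_sq_of_odd [IsCyclic A] (hodd : Odd (Fintype.card A)) {ψ : A →* ℂˣ}
    (h : ψ * ψ = 1) : ψ = 1 := by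
  ext a
  rcases apply_sign h a with e | e
  · simp [e]
  · exfalso
    have h1 : ψ a ^ Fintype.card A = 1 := by
      rw [← map_pow, pow_card_eq_one, map_one]
    rw [e, hodd.neg_one_pow] at h1
    have h2 := congrArg Units.val h1
    norm_num at h2

/-- The sign character of a cyclic group of even order. -/
theorem exists_sign_char [IsCyclic A] (heven : Even (Fintype.card A)) :
    ∃ η : A →* ℂˣ, η ≠ 1 ∧ η * η = 1 ∧ (∀ ψ : A →* ℂˣ, ψ * ψ = 1 → ψ = 1 ∨ ψ = η) ∧
      ∀ a : A, (η a = 1 ↔ a ^ (Fintype.card A / 2) = 1) ∧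
        (a ^ (Fintype.card A / 2) ≠ 1 → η a = -1) := by
  obtain ⟨g, hg⟩ := IsCyclic.exists_generator (α := A)
  have hord : orderOf g = Fintype.card A := by
    rw [orderOf_eq_card_of_forall_mem_zpowers hg, Nat.card_eq_fintype_card]
  obtain ⟨m, hm⟩ := even_iff_two_dvd.1 heven
  have hord2 : orderOf (-1 : ℂˣ) ∣ orderOf g := by
    rw [hord, hm]
    exact dvd_mul_of_dvd_left (orderOf_dvd_of_pow_eq_one (by simp)) _
  let η : A →* ℂˣ := monoidHomOfForallMemZpowers hg hord2
  have hηg : η g = -1 := monoidHomOfForallMemZpowers_apply_gen hg hord2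
  have hdet : ∀ ψ φ : A →* ℂˣ, ψ g = φ g → ψ = φ := fun ψ φ e => MonoidHom.ext fun x => by
    obtain ⟨k, rfl⟩ := Subgroup.mem_zpowers_iff.1 (hg x)
    simp [e]
  have hn1 : (-1 : ℂˣ) ≠ 1 := fun e => by
    have h2 := congrArg Units.val e
    norm_num at h2
  have hη2 : η * η = 1 := hdet _ _ (by simp [hηg])
  have hval : ∀ a : A, η a = 1 ↔ a ^ (Fintype.card A / 2) = 1 := by
    intro a
    obtain ⟨k, rfl⟩ := (mem_powers_iff_mem_zpowers (x := g)).2 (hg a)
    have hm0 : 0 < m := by have := Fintype.card_pos (α := A); omega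
    change η (g ^ k) = 1 ↔ (g ^ k) ^ (Fintype.card A / 2) = 1
    have hk : (g ^ k) ^ (Fintype.card A / 2) = 1 ↔ 2 ∣ k := by
      rw [← pow_mul, ← orderOf_dvd_iff_pow_eq_one, hord, hm, Nat.mul_div_cancel_left _ two_pos,
        Nat.mul_dvd_mul_iff_right hm0]
    rw [hk, map_pow, hηg]
    refine ⟨fun e => ?_, fun h => (even_iff_two_dvd.2 h).neg_one_pow⟩
    rcases Nat.even_or_odd k with he | ho
    · exact even_iff_two_dvd.1 he
    · rw [ho.neg_one_pow] at e
      exact absurd e hn1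
  refine ⟨η, fun e => hn1 (by rw [← hηg, e, MonoidHom.one_apply]), hη2, fun ψ h => ?_,
    fun a => ⟨hval a, fun ha => (apply_sign hη2 a).resolve_left (mt (hval a).1 ha)⟩⟩
  rcases apply_sign h g with e | e
  · exact Or.inl (hdet _ _ (by simp [e]))
  · exact Or.inr (hdet _ _ (by rw [e, hηg]))

end CfsgLib.SL2C
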