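import Cfsg.Agent.SL2C.Values

/-!
Recognising the irreducible characters of SL₂ by their degrees.
-/

set_option autoImplicit false
set_option linter.unusedSectionVars false
set_option linter.style.haveILetI false

namespace CfsgLib.SL2C

open Matrix Finset
open scoped ComplexConjugate Classical
open CfsgLib.Char (irrFinset mem_irrFinset)

variable {F : Type*} [Field F] [Fintype F] {c : SL F}

theorem even_or_odd_card : Even (Fintype.card F) ∨ Odd (Fintype.card F) := Nat.even_or_odd _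

theorem irr_cases (hc : Ell c) {χ : SL F → ℂ} (hχ : Cfsg.IsIrrCharacter (SL F) χ) :
    χ = (fun _ => 1) ∨ χ = St ∨ (∃ α ∈ AR F, χ = R α) ∨ (∃ φ ∈ AT c, χ = Pi' φ) ∨
      (Odd (Fintype.card F) ∧ ∃ η θ x₁ x₂ y₁ y₂, IsHalves c η θ x₁ x₂ y₁ y₂ ∧
        (χ = x₁ ∨ χ = x₂ ∨ χ = y₁ ∨ χ = y₂)) := by
  have hm := mem_irrFinset.2 hχ
  have hL : ∀ {χ : SL F → ℂ}, χ ∈ L0 c → χ = (fun _ => 1) ∨ χ = St ∨ (∃ α ∈ AR F, χ = R α) ∨
      (∃ φ ∈ AT c, χ = Pi' φ) := by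
    intro χ h
    simp only [L0, Finset.mem_union, Finset.mem_insert, Finset.mem_singleton, Finset.mem_image] at h
    rcases h with (h | h) | ⟨α, hα, h⟩ | ⟨φ, hφ, h⟩
    exacts [Or.inl h, Or.inr (Or.inl h), Or.inr (Or.inr (Or.inl ⟨α, hα, h.symm⟩)),
      Or.inr (Or.inr (Or.inr ⟨φ, hφ, h.symm⟩))]
  rcases even_or_odd_card (F := F) with he | ho
  · rw [irrFinset_even hc he] at hm
    rcases hL hm with h | h | h | h
    exacts [Or.inl h, Or.inr (Or.inl h), Or.inr (Or.inr (Or.inl h)),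
      Or.inr (Or.inr (Or.inr (Or.inl h)))]
  · obtain ⟨η, θ, x₁, x₂, y₁, y₂, h⟩ := exists_halves hc ho
    rw [h.irr_eq] at hm
    rcases Finset.mem_union.1 hm with hm | hm
    · rcases hL hm with h | h | h | h
      exacts [Or.inl h, Or.inr (Or.inl h), Or.inr (Or.inr (Or.inl h)),
        Or.inr (Or.inr (Or.inr (Or.inl h)))]
    · simp only [Finset.mem_insert, Finset.mem_singleton] at hm
      exact Or.inr (Or.inr (Or.inr (Or.inr ⟨ho, η, θ, x₁, x₂, y₁, y₂, h, hm⟩)))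

/-- The six possible degrees. -/
theorem degree_cases (hc : Ell c) {χ : SL F → ℂ} (hχ : Cfsg.IsIrrCharacter (SL F) χ) :
    (χ = (fun _ => 1) ∧ χ 1 = 1) ∨ (χ = St ∧ χ 1 = (Fintype.card F : ℂ)) ∨
    ((∃ α ∈ AR F, χ = R α) ∧ χ 1 = (Fintype.card F : ℂ) + 1) ∨
    ((∃ φ ∈ AT c, χ = Pi' φ) ∧ χ 1 = (Fintype.card F : ℂ) - 1) ∨
    ((Odd (Fintype.card F) ∧ ∃ η θ x₁ x₂ y₁ y₂, IsHalves c η θ x₁ x₂ y₁ y₂ ∧
      (χ = x₁ ∨ χ = x₂)) ∧ χ 1 = ((Fintype.card F : ℂ) + 1) / 2) ∨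
    ((Odd (Fintype.card F) ∧ ∃ η θ x₁ x₂ y₁ y₂, IsHalves c η θ x₁ x₂ y₁ y₂ ∧
      (χ = y₁ ∨ χ = y₂)) ∧ χ 1 = ((Fintype.card F : ℂ) - 1) / 2) := by
  rcases irr_cases hc hχ with rfl | rfl | ⟨α, hα, rfl⟩ | ⟨φ, hφ, rfl⟩ |
    ⟨ho, η, θ, x₁, x₂, y₁, y₂, h, h'⟩
  · exact Or.inl ⟨rfl, rfl⟩
  · exact Or.inr (Or.inl ⟨rfl, St_apply_one hc⟩)
  · exact Or.inr (Or.inr (Or.inl ⟨⟨α, hα, rfl⟩, R_apply_one hc α⟩))
  · exact Or.inr (Or.inr (Or.inr (Or.inl ⟨⟨φ, hφ, rfl⟩, Pi'_apply_one hc φ⟩)))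
  · rcases h' with e | e | e | e
    · exact Or.inr (Or.inr (Or.inr (Or.inr (Or.inl
        ⟨⟨ho, η, θ, x₁, x₂, y₁, y₂, h, Or.inl e⟩, e ▸ h.x₁_one⟩))))
    · exact Or.inr (Or.inr (Or.inr (Or.inr (Or.inl
        ⟨⟨ho, η, θ, x₁, x₂, y₁, y₂, h, Or.inr e⟩, e ▸ h.x₂_one⟩))))
    · exact Or.inr (Or.inr (Or.inr (Or.inr (Or.inr
        ⟨⟨ho, η, θ, x₁, x₂, y₁, y₂, h, Or.inl e⟩, e ▸ h.y₁_one⟩))))
    · exact Or.inr (Or.inr (Or.inr (Or.inr (Or.inr
        ⟨⟨ho, η, θ, x₁, x₂, y₁, y₂, h, Or.inr e⟩, e ▸ h.y₂_one⟩))))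

theorem natCast_half_add (ho : Odd (Fintype.card F)) :
    (((Fintype.card F + 1) / 2 : ℕ) : ℂ) = ((Fintype.card F : ℂ) + 1) / 2 := by
  obtain ⟨m, hm⟩ := ho
  rw [hm, show (2 * m + 1 + 1) / 2 = m + 1 by omega]
  push_cast
  ring

theorem natCast_half_sub (ho : Odd (Fintype.card F)) :
    (((Fintype.card F - 1) / 2 : ℕ) : ℂ) = ((Fintype.card F : ℂ) - 1) / 2 := by
  obtain ⟨m, hm⟩ := ho
  rw [hm, show (2 * m + 1 - 1) / 2 = m by omega]
  push_cast
  ring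

theorem eq_St_of_degree (hc : Ell c) {χ : SL F → ℂ} (hχ : Cfsg.IsIrrCharacter (SL F) χ)
    (hd : χ 1 = (Fintype.card F : ℂ)) : χ = St := by
  have hq : (2 : ℝ) ≤ Fintype.card F := by exact_mod_cast two_le_card (F := F)
  rcases degree_cases hc hχ with ⟨-, h⟩ | ⟨h, -⟩ | ⟨-, h⟩ | ⟨-, h⟩ | ⟨-, h⟩ | ⟨-, h⟩
  case inr.inl => exact h
  all_goals
    exfalso
    rw [hd] at h
    have h' := congrArg Complex.re h
    simp at h' <;> first | linarith | (have := two_le_card (F := F); omega)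

theorem exists_R_of_degree (hc : Ell c) {χ : SL F → ℂ} (hχ : Cfsg.IsIrrCharacter (SL F) χ)
    (hd : χ 1 = (Fintype.card F : ℂ) + 1) : ∃ α ∈ AR F, χ = R α := by
  have hq : (2 : ℝ) ≤ Fintype.card F := by exact_mod_cast two_le_card (F := F)
  rcases degree_cases hc hχ with ⟨-, h⟩ | ⟨-, h⟩ | ⟨h, -⟩ | ⟨-, h⟩ | ⟨-, h⟩ | ⟨-, h⟩
  case inr.inr.inl => exact h
  all_goals
    exfalso
    rw [hd] at h
    have h' := congrArg Complex.re h
    simp at h' <;> first | linarith | (have := two_le_card (F := F); omega)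

theorem exists_Pi'_of_degree (hc : Ell c) (hq4 : 4 ≤ Fintype.card F) {χ : SL F → ℂ}
    (hχ : Cfsg.IsIrrCharacter (SL F) χ) (hd : χ 1 = (Fintype.card F : ℂ) - 1) :
    ∃ φ ∈ AT c, χ = Pi' φ := by
  have hq : (4 : ℝ) ≤ Fintype.card F := by exact_mod_cast hq4
  rcases degree_cases hc hχ with ⟨-, h⟩ | ⟨-, h⟩ | ⟨-, h⟩ | ⟨h, -⟩ | ⟨-, h⟩ | ⟨-, h⟩
  case inr.inr.inr.inl => exact h
  all_goals
    exfalso
    rw [hd] at h
    have h' := congrArg Complex.re h
    simp at h' <;> first | linarith | (have := two_le_card (F := F); omega)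

theorem exists_x_of_degree (hc : Ell c) (hq5 : 5 ≤ Fintype.card F) {χ : SL F → ℂ}
    (hχ : Cfsg.IsIrrCharacter (SL F) χ) (hd : χ 1 = ((Fintype.card F : ℂ) + 1) / 2) :
    ∃ η θ x₁ x₂ y₁ y₂, IsHalves c η θ x₁ x₂ y₁ y₂ ∧ (χ = x₁ ∨ χ = x₂) := by
  have hq : (5 : ℝ) ≤ Fintype.card F := by exact_mod_cast hq5
  rcases degree_cases hc hχ with ⟨-, h⟩ | ⟨-, h⟩ | ⟨-, h⟩ | ⟨-, h⟩ | ⟨h, -⟩ | ⟨-, h⟩
  case inr.inr.inr.inr.inl => exact h.2
  all_goals
    exfalso
    rw [hd] at h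
    have h' := congrArg Complex.re h
    simp at h' <;> first | linarith | (have := two_le_card (F := F); omega)

theorem exists_y_of_degree (hc : Ell c) (hq5 : 5 ≤ Fintype.card F) {χ : SL F → ℂ}
    (hχ : Cfsg.IsIrrCharacter (SL F) χ) (hd : χ 1 = ((Fintype.card F : ℂ) - 1) / 2) :
    ∃ η θ x₁ x₂ y₁ y₂, IsHalves c η θ x₁ x₂ y₁ y₂ ∧ (χ = y₁ ∨ χ = y₂) := by
  have hq : (5 : ℝ) ≤ Fintype.card F := by exact_mod_cast hq5
  rcases degree_cases hc hχ with ⟨-, h⟩ | ⟨-, h⟩ | ⟨-, h⟩ | ⟨-, h⟩ | ⟨-, h⟩ | ⟨h, -⟩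
  case inr.inr.inr.inr.inr => exact h.2
  all_goals
    exfalso
    rw [hd] at h
    have h' := congrArg Complex.re h
    simp at h' <;> first | linarith | (have := two_le_card (F := F); omega)

/-- In the field with three elements the discrete series vanishes on elliptic elements. -/
theorem th_add_inv_eq_zero_of_three (hc : Ell c) (h3 : Fintype.card F = 3) {φ : tor c →* ℂˣ}
    (hφ : φ ∈ AT c) {y : SL F} (hy : y ∈ torReg c) : th φ y + th φ⁻¹ y = 0 := by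
  have hyt : y ∈ tor c := (mem_torReg.1 hy).1
  set w : tor c := ⟨y, hyt⟩ with hw
  have hw2 : w ^ 2 ≠ 1 := fun e => (ell_of_mem_torReg hc hy).inv_ne_self
    (inv_eq_of_mul_eq_one_left (by
      have := congrArg Subtype.val e
      simpa [hw, pow_two] using this))
  have hw4 : w ^ 4 = 1 := by
    have := pow_card_eq_one (x := w)
    rwa [card_tor_fintype hc, h3] at this
  have hord : orderOf w = Nat.card (tor c) := by
    rw [card_tor hc, h3]
    exact orderOf_eq_prime_pow (p := 2) (n := 1) hw2 hw4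
  have hgen : ∀ z : tor c, z ∈ Subgroup.zpowers w := fun z => by
    rw [(Subgroup.eq_top_of_card_eq _ (by rw [Nat.card_zpowers, hord]) :
      Subgroup.zpowers w = ⊤)]
    trivial
  have h1 : φ (w ^ 2) ≠ 1 := fun e => mem_AT.1 hφ (by
    ext z
    obtain ⟨k, rfl⟩ := Subgroup.mem_zpowers_iff.1 (hgen z)
    simp only [MonoidHom.mul_apply, MonoidHom.one_apply, map_zpow, ← mul_zpow, ← pow_two]
    rw [← map_pow, e, _root_.one_zpow])
  have h2 : (φ w : ℂ) * φ w = -1 := by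
    have h4 : ((φ w : ℂ) * φ w) * ((φ w : ℂ) * φ w) = 1 := by
      rw [← Units.val_mul, ← Units.val_mul, ← map_mul, ← map_mul, ← pow_two, ← pow_two, ← pow_mul,
        hw4, map_one, Units.val_one]
    refine (mul_self_eq_one_iff.1 h4).resolve_left fun e => h1 ?_
    rw [pow_two, map_mul]
    exact Units.ext (by rw [Units.val_mul, e, Units.val_one])
  rw [th_inv, th, dif_pos hyt]
  change (φ w : ℂ) + (φ w : ℂ)⁻¹ = 0
  field_simp
  linear_combination h2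

/-! ### Recognising elements -/

theorem exists_eq_dg {g : SL F} (h01 : mt g 0 1 = 0) (h10 : mt g 1 0 = 0)
    (ha : mt g 0 0 ^ 2 ≠ 1) : ∃ a ∈ reg F, g = dg a ∧ (a : F) = mt g 0 0 ∧
      ((a⁻¹ : Fˣ) : F) = mt g 1 1 := by
  obtain ⟨a, b, rfl⟩ := exists_bor_of_apply h10
  obtain rfl : b = 0 := by simpa [mt_bor] using h01
  refine ⟨a, mem_reg.2 fun e => ha ?_, rfl, by simp [mt_bor], by simp [mt_bor]⟩
  simp [mt_bor, pow_two, ← Units.val_mul, e]

theorem exists_eq_par {g : SL F} (h10 : mt g 1 0 = 0) (h : mt g 0 0 = mt g 1 1)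
    (hb : mt g 0 1 ≠ 0) : ∃ e ∈ sgn F, g = bor e (mt g 0 1) ∧ (e : F) = mt g 0 0 := by
  obtain ⟨a, b, rfl⟩ := exists_bor_of_apply h10
  refine ⟨a, mem_sgn.2 ?_, by simp [mt_bor], by simp [mt_bor]⟩
  rw [← eq_inv_iff_mul_eq_one]
  exact Units.ext (by simpa [mt_bor] using h)

theorem exists_eq_cen {g : SL F} (h01 : mt g 0 1 = 0) (h10 : mt g 1 0 = 0)
    (h : mt g 0 0 = mt g 1 1) : ∃ e ∈ sgn F, g = bor e 0 ∧ (e : F) = mt g 0 0 := by
  obtain ⟨a, b, rfl⟩ := exists_bor_of_apply h10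
  obtain rfl : b = 0 := by simpa [mt_bor] using h01
  refine ⟨a, mem_sgn.2 ?_, rfl, by simp [mt_bor]⟩
  rw [← eq_inv_iff_mul_eq_one]
  exact Units.ext (by simpa [mt_bor] using h)

theorem eq_bor_one_one {u : SL F} (hu : mt u = !![1, 1; 0, 1]) : u = bor 1 1 :=
  mt_injective (by rw [hu, mt_bor]; simp)

theorem apply_ell (hc : Ell c) {f : SL F → ℂ} (hf : Cfsg.IsClassFunction (SL F) f) {g : SL F}
    (hg : Ell g) : ∃ y ∈ torReg c, IsConj y g ∧ f g = f y := by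
  obtain ⟨y, hy, hyg⟩ := hc.exists_isConj_torReg hg
  exact ⟨y, hy, hyg, (CfsgLib.Char.IsClassFunction.apply_eq_of_isConj hf hyg).symm⟩

/-- A cyclic subgroup of order `q + 1` is a nonsplit torus. -/
theorem exists_tor_of_cyclic (C : Subgroup (SL F)) (hC : IsCyclic C)
    (hcard : Nat.card C = Fintype.card F + 1) : ∃ d : SL F, Ell d ∧ C = tor d := by
  obtain ⟨g, hg⟩ := hC.exists_generator
  have hord : orderOf (g : SL F) = Fintype.card F + 1 := by
    rw [Subgroup.orderOf_coe, orderOf_eq_card_of_forall_mem_zpowers hg, hcard]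
  have hq := two_le_card (F := F)
  have hno : ∀ {n : ℕ}, (g : SL F) ^ n = 1 → Fintype.card F + 1 ∣ n := fun h => by
    rw [← hord]; exact orderOf_dvd_of_pow_eq_one h
  have hconj : ∀ {x : SL F} {n : ℕ}, IsConj x (g : SL F) → x ^ n = 1 → (g : SL F) ^ n = 1 := by
    intro x n hx h
    obtain ⟨z, hz⟩ := isConj_iff.1 hx
    rw [← hz, conj_pow, h]
    group
  have hell : Ell (g : SL F) := by
    have hunit : ∀ a : Fˣ, a ^ (Fintype.card F - 1) = 1 := fun a => by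
      rw [← Fintype.card_units]; exact pow_card_eq_one
    rcases cases4 (g : SL F) with h | ⟨a, ha, h⟩ | ⟨e, b, he, hb, h⟩ | h
    · obtain ⟨e, he, h⟩ := exists_eq_bor_of_mem_center h
      have := Nat.le_of_dvd (by omega) (hno (n := 2) (by
        rw [h, pow_two, show bor e (0 : F) = dg e from rfl, ← map_mul, he, map_one]))
      omega
    · have := Nat.le_of_dvd (by omega) (hno (n := Fintype.card F - 1)
        (hconj h (by rw [← map_pow, hunit, map_one])))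
      omega
    · have hp : (bor e b) ^ (2 * Fintype.card F) = 1 := by
        have h2 : bor e b ^ 2 = bor 1 ((e : F) * b + b * ((e⁻¹ : Fˣ) : F)) := by
          rw [pow_two, bor_mul, he]
        rw [pow_mul, h2]
        have : ∀ (n : ℕ) (x : F), bor 1 x ^ n = bor 1 ((n : F) * x) := by
          intro n x
          induction n with
          | zero => rw [pow_zero, Nat.cast_zero, zero_mul, bor_one_zero]
          | succ n ih =>
            rw [pow_succ, ih, bor_mul, one_mul, inv_one, Units.val_one, one_mul, mul_one]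
            congr 1
            push_cast; ring
        rw [this, FiniteField.cast_card_eq_zero, zero_mul, bor_one_zero]
      have hdvd := hno (n := 2 * Fintype.card F) (hconj h hp)
      have h2 : Fintype.card F + 1 ∣ 2 * (Fintype.card F + 1) := dvd_mul_left _ _
      have h3 := Nat.dvd_sub h2 hdvd
      have := Nat.le_of_dvd (by omega) h3
      omega
    · exact h
  refine ⟨g, hell, Subgroup.eq_of_le_of_card_ge (fun x hx => ?_) ?_⟩
  · obtain ⟨k, hk⟩ := Subgroup.mem_zpowers_iff.1 (hg ⟨x, hx⟩)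
    have hk' : (g : SL F) ^ k = x := by simpa using congrArg Subtype.val hk
    rw [← hk']
    exact Subgroup.mem_centralizer_singleton_iff.2 (Commute.zpow_left rfl k)
  · rw [hcard, card_tor hell]

end CfsgLib.SL2C
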