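import Cfsg.Agent.SL2C.Classify
import Cfsg.Agent.Char.Central

/-!
The values of the halved characters of SL₂.
-/

set_option autoImplicit false
set_option linter.unusedSectionVars false
set_option linter.style.haveILetI false

namespace CfsgLib.SL2C

open Matrix Finset
open scoped ComplexConjugate Classical
open CfsgLib.Char (irrFinset mem_irrFinset classInner_add_left classInner_sub_left
  classInner_sub_right classInner_add_right)

theorem apply_center_mul {G : Type*} [Group G] [Finite G] {χ : G → ℂ}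
    (hχ : Cfsg.IsIrrCharacter G χ) {z : G} (hz : z ∈ Subgroup.center G) {s : ℂ}
    (hs : χ z = s * χ 1) (g : G) : χ (z * g) = s * χ g := by
  have h0 := CfsgLib.Char.IsIrrCharacter.apply_one_ne_zero hχ
  obtain ⟨n, ρ, hρ, rfl⟩ := hχ
  haveI := hρ
  have hω' := CfsgLib.Char.eq_smul_one_of_commute ρ (ρ z) (fun h => by
    rw [← map_mul, ← map_mul, Subgroup.mem_center_iff.1 hz])
  obtain ⟨ω, hω⟩ : ∃ ω : ℂ, ρ z = ω • (1 : Module.End ℂ (Fin n → ℂ)) := ⟨_, hω'⟩
  have key : ∀ h, ρ.character (z * h) = ω * ρ.character h := fun h => by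
    simp only [Representation.character, map_mul, hω, smul_mul_assoc, one_mul, map_smul,
      smul_eq_mul]
  have h1 := key 1
  rw [mul_one, hs] at h1
  rw [key, mul_right_cancel₀ h0 h1]

variable {F : Type*} [Field F] [Fintype F] {c : SL F} {η : Fˣ →* ℂˣ} {θ : tor c →* ℂˣ}
  {x₁ x₂ y₁ y₂ : SL F → ℂ}

theorem sum_irr_even (hc : Ell c) (heven : Even (Fintype.card F)) (g : (SL F → ℂ) → ℂ) :
    2 * ∑ χ ∈ irrFinset (SL F), g χ =
      2 * g (fun _ => 1) + 2 * g St + ∑ α ∈ AR F, g (R α) + ∑ φ ∈ AT c, g (Pi' φ) := by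
  have h := sum_L0 hc g
  rw [irrFinset_even hc heven]
  simpa only [two_nsmul, ← two_mul] using h

theorem IsHalves.four_disjoint (h : IsHalves c η θ x₁ x₂ y₁ y₂) :
    Disjoint (L0 c) {x₁, x₂, y₁, y₂} := by
  rw [Finset.disjoint_left]
  intro χ hχ hχ'
  obtain ⟨a, b, d, e⟩ := h.L0_ne χ hχ
  simp [a, b, d, e] at hχ'

theorem IsHalves.sum_four (h : IsHalves c η θ x₁ x₂ y₁ y₂) {M : Type*} [AddCommMonoid M]
    (g : (SL F → ℂ) → M) :
    ∑ χ ∈ ({x₁, x₂, y₁, y₂} : Finset (SL F → ℂ)), g χ = g x₁ + (g x₂ + (g y₁ + g y₂)) := by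
  rw [Finset.sum_insert (by simp [h.x_ne, h.xy.1, h.xy.2.1]),
    Finset.sum_insert (by simp [h.xy.2.2.1, h.xy.2.2.2]), Finset.sum_pair h.y_ne]

theorem IsHalves.sum_irr (hc : Ell c) (h : IsHalves c η θ x₁ x₂ y₁ y₂) (g : (SL F → ℂ) → ℂ) :
    2 * ∑ χ ∈ irrFinset (SL F), g χ =
      2 * g (fun _ => 1) + 2 * g St + ∑ α ∈ AR F, g (R α) + ∑ φ ∈ AT c, g (Pi' φ) +
        2 * (g x₁ + g x₂ + g y₁ + g y₂) := by
  have h0 := sum_L0 hc g
  simp only [two_nsmul, ← two_mul] at h0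
  rw [h.irr_eq, Finset.sum_union h.four_disjoint, h.sum_four, mul_add, h0]
  ring

theorem card_centralizer_dg {a : Fˣ} (ha : a ∈ reg F) :
    Nat.card (Subgroup.centralizer ({dg a} : Set (SL F))) = Fintype.card F - 1 := by
  rw [← Fintype.card_units, ← Nat.card_eq_fintype_card]
  refine (Nat.card_eq_of_bijective (fun b : Fˣ =>
    (⟨dg b, (mem_centralizer_dg (mem_reg.1 ha)).2 ⟨b, rfl⟩⟩ :
      Subgroup.centralizer ({dg a} : Set (SL F)))) ⟨fun x y h =>
        (bor_inj (congrArg Subtype.val h : dg x = dg y)).1, fun x => ?_⟩).symm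
  obtain ⟨b, hb⟩ := (mem_centralizer_dg (mem_reg.1 ha)).1 x.2
  exact ⟨b, Subtype.ext hb.symm⟩

theorem sum_dual_sq {A : Type*} [Group A] [Fintype A] (hA : ∀ a b : A, a * b = b * a) {a : A}
    (ha : a * a ≠ 1) :
    ∑ ψ : A →* ℂˣ, ((ψ a : ℂ) + (ψ⁻¹) a) * conj ((ψ a : ℂ) + ((ψ⁻¹) a : ℂ)) =
      2 * (Fintype.card A : ℂ) := by
  have ha' : a⁻¹ * a⁻¹ ≠ 1 := by rw [← _root_.mul_inv_rev, Ne, inv_eq_one]; exact ha
  have hterm : ∀ ψ : A →* ℂˣ,
      ((ψ a : ℂ) + (ψ⁻¹) a) * conj ((ψ a : ℂ) + ((ψ⁻¹) a : ℂ)) =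
        (ψ (a * a) : ℂ) + (ψ (a⁻¹ * a⁻¹) : ℂ) + 2 := fun ψ => by
    rw [map_add, conj_char, conj_char, dual_inv_inv]
    simp only [map_mul, map_inv, MonoidHom.inv_apply, Units.val_mul]
    have h1 : (ψ a : ℂ) * ((ψ a)⁻¹ : ℂˣ) = 1 := Units.mul_inv _
    linear_combination 2 * h1
  rw [Finset.sum_congr rfl fun ψ _ => hterm ψ, Finset.sum_add_distrib, Finset.sum_add_distrib,
    sum_dual hA, sum_dual hA, if_neg ha, if_neg ha', Finset.sum_const, Finset.card_univ,
    card_dual hA, nsmul_eq_mul]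
  ring

theorem sum_filter_sq_ne_one {A : Type*} [Group A] [Fintype A] {ν : A →* ℂˣ} (hne : ν ≠ 1)
    (hsq : ν * ν = 1) (hall : ∀ ψ : A →* ℂˣ, ψ * ψ = 1 → ψ = 1 ∨ ψ = ν) (f : (A →* ℂˣ) → ℂ) :
    ∑ ψ ∈ univ.filter (fun ψ : A →* ℂˣ => ψ * ψ ≠ 1), f ψ = ∑ ψ, f ψ - f 1 - f ν := by
  have h2 : (univ.filter fun ψ : A →* ℂˣ => ψ * ψ = 1) = {1, ν} := by
    ext ψ
    simp only [Finset.mem_filter, Finset.mem_univ, true_and, Finset.mem_insert,
      Finset.mem_singleton]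
    refine ⟨hall ψ, ?_⟩
    rintro (rfl | rfl)
    · ext; simp
    · exact hsq
  rw [← Finset.sum_filter_add_sum_filter_not (univ : Finset (A →* ℂˣ)) (fun ψ => ψ * ψ = 1) f,
    h2, Finset.sum_pair hne.symm]
  ring

theorem eq_halves {x₁ x₂ y₁ y₂ s t : ℂ} (hx : x₁ + x₂ = s) (hy : y₁ + y₂ = t)
    (h : 2 * (x₁ * conj x₁ + x₂ * conj x₂ + y₁ * conj y₁ + y₂ * conj y₂) =
      s * conj s + t * conj t) :
    x₁ = s / 2 ∧ x₂ = s / 2 ∧ y₁ = t / 2 ∧ y₂ = t / 2 := by
  have h1 : (x₁ - x₂) * conj (x₁ - x₂) + (y₁ - y₂) * conj (y₁ - y₂) = 0 := by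
    subst hx hy
    simp only [map_add] at h
    simp only [map_sub]
    linear_combination h
  rw [Complex.mul_conj, Complex.mul_conj, ← Complex.ofReal_add, Complex.ofReal_eq_zero,
    add_eq_zero_iff_of_nonneg (Complex.normSq_nonneg _) (Complex.normSq_nonneg _),
    Complex.normSq_eq_zero, Complex.normSq_eq_zero, sub_eq_zero, sub_eq_zero] at h1
  obtain ⟨rfl, rfl⟩ := h1
  refine ⟨?_, ?_, ?_, ?_⟩ <;> subst hx hy <;> ring

theorem IsHalves.ch_sq (h : IsHalves c η θ x₁ x₂ y₁ y₂) (a : Fˣ) : ch η a * ch η a = 1 := by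
  rw [← ch_mul, h.η_sq, ch_one]

theorem IsHalves.th_sq (h : IsHalves c η θ x₁ x₂ y₁ y₂) {y : SL F} (hy : y ∈ tor c) :
    th θ y * th θ y = 1 := by
  rw [← th_mul, h.θ_sq, th, dif_pos hy, MonoidHom.one_apply, Units.val_one]

theorem IsHalves.inv_η (h : IsHalves c η θ x₁ x₂ y₁ y₂) : η⁻¹ = η :=
  (eq_inv_iff_mul_self.2 h.η_sq).symm

theorem IsHalves.inv_θ (h : IsHalves c η θ x₁ x₂ y₁ y₂) : θ⁻¹ = θ :=
  (eq_inv_iff_mul_self.2 h.θ_sq).symm

theorem IsHalves.R_apply (h : IsHalves c η θ x₁ x₂ y₁ y₂) (g : SL F) :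
    x₁ g + x₂ g = R η g := by rw [h.R_eq, Pi.add_apply]

theorem IsHalves.Pi'_apply (h : IsHalves c η θ x₁ x₂ y₁ y₂) (g : SL F) :
    y₁ g + y₂ g = Pi' θ g := by rw [h.Pi'_eq, Pi.add_apply]

theorem IsHalves.apply_dg (hc : Ell c) (h : IsHalves c η θ x₁ x₂ y₁ y₂) {a : Fˣ}
    (ha : a ∈ reg F) :
    x₁ (dg a) = ch η a ∧ x₂ (dg a) = ch η a ∧ y₁ (dg a) = 0 ∧ y₂ (dg a) = 0 := by
  have hx : x₁ (dg a) + x₂ (dg a) = 2 * ch η a := by
    rw [h.R_apply, (R_vals hc η).spl a ha, h.inv_η]; ring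
  have hy : y₁ (dg a) + y₂ (dg a) = 0 := by rw [h.Pi'_apply, (Pi'_vals hc θ).spl a ha]
  have hs := h.sum_irr hc fun χ => χ (dg a) * conj (χ (dg a))
  rw [CfsgLib.Char.sum_irr_mul_conj, if_pos (IsConj.refl _), card_centralizer_dg ha] at hs
  rw [Finset.sum_congr rfl (g := fun α => ((α a : ℂ) + ((α⁻¹) a : ℂ)) *
      conj ((α a : ℂ) + ((α⁻¹) a : ℂ))) (fun α _ => by rw [(R_vals hc α).spl a ha]),
    Finset.sum_congr (s₁ := AT c) rfl (g := fun _ => (0 : ℂ)) (fun φ _ => by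
      rw [(Pi'_vals hc φ).spl a ha, zero_mul]),
    AR, sum_filter_sq_ne_one h.η_ne h.η_sq h.η_all, sum_dual_sq mul_comm (mem_reg.1 ha),
    h.inv_η, (St_vals hc).spl a ha, dual_inv_one, Fintype.card_units] at hs
  simp only [MonoidHom.one_apply, Units.val_one, map_one, Finset.sum_const_zero, mul_one, add_zero,
    map_add, conj_char, h.inv_η, Nat.cast_sub Fintype.card_pos, Nat.cast_one] at hs
  have hsq : ch η a * ch η a = 1 := h.ch_sq a
  obtain ⟨e1, e2, e3, e4⟩ := eq_halves hx hy (by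
    simp only [map_mul, map_ofNat, map_zero, mul_zero, add_zero, conj_ch, h.inv_η]
    linear_combination -hs - 4 * hsq + 4 * hsq)
  exact ⟨by rw [e1]; ring, by rw [e2]; ring, by rw [e3]; ring, by rw [e4]; ring⟩

theorem IsHalves.apply_tor (hc : Ell c) (h : IsHalves c η θ x₁ x₂ y₁ y₂) {y : SL F}
    (hy : y ∈ torReg c) :
    x₁ y = 0 ∧ x₂ y = 0 ∧ y₁ y = -th θ y ∧ y₂ y = -th θ y := by
  have hyt : y ∈ tor c := (mem_torReg.1 hy).1
  have hx : x₁ y + x₂ y = 0 := by rw [h.R_apply, (R_vals hc η).tor y hy]; rfl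
  have hy' : y₁ y + y₂ y = -(2 * th θ y) := by
    rw [h.Pi'_apply, (Pi'_vals hc θ).tor y hy, h.inv_θ]; ring
  have hyne : (⟨y, hyt⟩ : tor c) * ⟨y, hyt⟩ ≠ 1 := fun e =>
    (ell_of_mem_torReg hc hy).inv_ne_self
      (inv_eq_of_mul_eq_one_left (congrArg Subtype.val e))
  have hs := h.sum_irr hc fun χ => χ y * conj (χ y)
  rw [CfsgLib.Char.sum_irr_mul_conj, if_pos (IsConj.refl _),
    show Subgroup.centralizer ({y} : Set (SL F)) = tor c from tor_eq_of_mem hc hy,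
    card_tor hc] at hs
  rw [Finset.sum_congr rfl (g := fun _ => (0 : ℂ)) (fun α _ => by
      rw [(R_vals hc α).tor y hy, Pi.zero_apply, zero_mul]),
    Finset.sum_congr (s₁ := AT c) rfl (g := fun φ : tor c →* ℂˣ =>
      ((φ ⟨y, hyt⟩ : ℂ) + ((φ⁻¹) ⟨y, hyt⟩ : ℂ)) *
        conj ((φ ⟨y, hyt⟩ : ℂ) + ((φ⁻¹) ⟨y, hyt⟩ : ℂ))) (fun φ _ => by
      rw [(Pi'_vals hc φ).tor y hy, th, th, dif_pos hyt, dif_pos hyt, map_neg, neg_mul_neg]),
    AT, sum_filter_sq_ne_one h.θ_ne h.θ_sq h.θ_all, sum_dual_sq (comm_tor hc) hyne,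
    h.inv_θ, (St_vals hc).tor y hy, dual_inv_one, card_tor_fintype hc] at hs
  simp only [MonoidHom.one_apply, Units.val_one, map_one, map_neg, Finset.sum_const_zero,
    mul_one, add_zero, map_add, conj_char, h.inv_θ, Nat.cast_add, Nat.cast_one] at hs
  have hth : th θ y = (θ ⟨y, hyt⟩ : ℂ) := by rw [th, dif_pos hyt]
  have hsq : th θ y * th θ y = 1 := h.th_sq hyt
  rw [hth] at hsq hy' ⊢
  obtain ⟨e1, e2, e3, e4⟩ := eq_halves hx hy' (by
    simp only [map_mul, map_neg, map_ofNat, map_zero, mul_zero, zero_add, conj_char, h.inv_θ]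
    linear_combination -hs - 4 * hsq + 4 * hsq)
  exact ⟨by rw [e1]; ring, by rw [e2]; ring, by rw [e3]; ring, by rw [e4]; ring⟩

theorem IsHalves.apply_cen (hc : Ell c) (h : IsHalves c η θ x₁ x₂ y₁ y₂) {e : Fˣ}
    (he : e ∈ sgn F) :
    x₁ (bor e 0) = ch η e * x₁ 1 ∧ x₂ (bor e 0) = ch η e * x₂ 1 ∧
      y₁ (bor e 0) = tc θ e * y₁ 1 ∧ y₂ (bor e 0) = tc θ e * y₂ 1 := by
  have hx := eq_degree_of_sum (g := bor e 0) (CfsgLib.Char.IsIrrCharacter.isCharacter h.x₁_irr)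
    (CfsgLib.Char.IsIrrCharacter.isCharacter h.x₂_irr) (mul_self_eq_one_iff.1 (h.ch_sq e))
    (by rw [h.R_apply, h.R_apply, (R_vals hc η).cen e he, R_apply_one hc]; ring)
  have hy := eq_degree_of_sum (g := bor e 0) (CfsgLib.Char.IsIrrCharacter.isCharacter h.y₁_irr)
    (CfsgLib.Char.IsIrrCharacter.isCharacter h.y₂_irr) (mul_self_eq_one_iff.1 (tc_mul_self θ he))
    (by rw [h.Pi'_apply, h.Pi'_apply, (Pi'_vals hc θ).cen e he, Pi'_apply_one hc]; ring)
  exact ⟨hx.1, hx.2, hy.1, hy.2⟩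

theorem bor_eq_cen_mul {e : Fˣ} (he : e ∈ sgn F) (b : F) :
    bor e b = bor e 0 * bor 1 ((e : F) * b) := by
  rw [bor_mul, mul_one]
  congr 1
  have h : (e : F) * e = 1 := by rw [← Units.val_mul, mem_sgn.1 he, Units.val_one]
  rw [zero_mul, add_zero, ← mul_assoc, h, one_mul]

/-- The quadratic character on the whole field. -/
noncomputable def qc (η : Fˣ →* ℂˣ) (b : F) : ℂ :=
  if h : b ≠ 0 then ch η (Units.mk0 b h) else 0

theorem qc_coe (η : Fˣ →* ℂˣ) (u : Fˣ) : qc η (u : F) = ch η u := by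
  rw [qc, dif_pos u.ne_zero]
  congr 1
  exact Units.ext rfl

theorem isConj_bor_one (t : Fˣ) (b : F) : IsConj (bor 1 b) (bor 1 ((t : F) * t * b)) := by
  refine isConj_iff.2 ⟨dg t, ?_⟩
  rw [mul_inv_eq_iff_eq_mul]
  change bor t 0 * bor 1 b = bor 1 _ * bor t 0
  rw [bor_mul, bor_mul]
  simp
  congr 1
  field_simp

theorem sum_ne_zero_eq_sum_units (f : F → ℂ) :
    ∑ b ∈ univ.filter (fun b : F => b ≠ 0), f b = ∑ u : Fˣ, f u := by
  rw [Finset.sum_subtype (univ.filter fun b : F => b ≠ 0) (p := fun b => b ≠ 0) (fun b => by simp)]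
  exact (Fintype.sum_equiv (unitsEquivNeZero (G₀ := F)) _ _ fun _ => rfl).symm

theorem sum_sgn_eq (hodd : Odd (Fintype.card F)) (f : Fˣ → ℂ) :
    ∑ e ∈ sgn F, f e = f 1 + f (-1) := by
  have hne : (1 : Fˣ) ≠ -1 := fun e => by
    have h3 := congrArg Units.val e
    simp at h3
    have h2 : (2 : F) ≠ 0 := Ring.two_ne_zero fun h => by
      have := FiniteField.even_card_iff_char_two.1 h
      rw [Nat.odd_iff] at hodd; omega
    exact h2 (by linear_combination h3)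
  have hs : sgn F = {1, -1} := by
    ext e
    simp only [Finset.mem_insert, Finset.mem_singleton]
    refine ⟨sgn_cases, ?_⟩
    rintro (rfl | rfl)
    · exact mem_sgn.2 (one_mul 1)
    · exact neg_one_mem_sgn
  rw [hs, Finset.sum_pair hne]

theorem isSquare_of_eta (hodd : Odd (Fintype.card F)) (h : IsHalves c η θ x₁ x₂ y₁ y₂) (u : Fˣ) :
    η u = 1 ↔ IsSquare u := by
  have h2 : ringChar F ≠ 2 := fun h => by
    have := FiniteField.even_card_iff_char_two.1 h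
    rw [Nat.odd_iff] at hodd; omega
  rw [(h.η_iff u).1, FiniteField.unit_isSquare_iff h2,
    show (Fintype.card F - 1) / 2 = Fintype.card F / 2 by rw [Nat.odd_iff] at hodd; omega]

/-- The parabolic values of the difference of two halves. -/
theorem diff_formula (hodd : Odd (Fintype.card F)) (hc : Ell c)
    (h : IsHalves c η θ x₁ x₂ y₁ y₂) {d φ : SL F → ℂ} {ω : Fˣ → ℂ} {k : ℂ}
    {cv sv : Fˣ → ℂ} {tv : SL F → ℂ} (hω1 : ω 1 = 1) (hω : ∀ e ∈ sgn F, ω e * ω e = 1)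
    (hωc : ∀ e ∈ sgn F, conj (ω e) = ω e) (hk : k ≠ 0)
    (hd : Vals c d (fun _ => 0) (fun _ => 0) (fun e b => ω e * d (bor 1 ((e : F) * b)))
      (fun _ => 0))
    (hdinv : ∀ g, d g⁻¹ = conj (d g))
    (hφ : Vals c φ cv sv (fun e _ => k * ω e) tv)
    (h0 : Cfsg.classInner d φ = 0) (h2 : Cfsg.classInner d d = 2) :
    ∃ E : ℂ, E * E = ch η (-1 : Fˣ) * (Fintype.card F : ℂ) ∧
      ∀ e ∈ sgn F, ∀ b : F, b ≠ 0 → d (bor e b) = ω e * ch η e * qc η b * E := by
  classical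
  set E := d (bor 1 1) with hE
  have hsq : ∀ u v : Fˣ, η u = η v → d (bor 1 (u : F)) = d (bor 1 (v : F)) := by
    intro u v huv
    obtain ⟨t, ht⟩ := (isSquare_of_eta hodd h (u * v⁻¹)).1 (by
      rw [map_mul, map_inv, huv, mul_inv_cancel])
    refine (CfsgLib.Char.IsClassFunction.apply_eq_of_isConj hd.cls (g := bor 1 (v : F)) ?_).symm
    have := isConj_bor_one t (v : F)
    rwa [← Units.val_mul, ← Units.val_mul, ← ht, inv_mul_cancel_right] at this
  obtain ⟨ν, hν⟩ : ∃ ν : Fˣ, η ν = -1 := by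
    by_contra hcon
    push Not at hcon
    exact h.η_ne (MonoidHom.ext fun u => (apply_sign h.η_sq u).resolve_right (hcon u))
  set E' := d (bor 1 (ν : F)) with hE'
  have hform : ∀ u : Fˣ, d (bor 1 (u : F)) = (E + E') / 2 + (E - E') / 2 * ch η u := by
    intro u
    rcases apply_sign h.η_sq u with e | e
    · rw [hsq u 1 (by rw [e, map_one]), Units.val_one, ← hE, ch, e, Units.val_one]; ring
    · rw [hsq u ν (by rw [e, hν]), ← hE', ch, e, Units.val_neg, Units.val_one]; ring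
  have hsumη : ∑ u : Fˣ, ch η u = 0 := by rw [sum_char, if_neg h.η_ne]
  have hU : (Fintype.card Fˣ : ℂ) = (Fintype.card F : ℂ) - 1 := by
    rw [Fintype.card_units, Nat.cast_sub Fintype.card_pos, Nat.cast_one]
  have hcardne : (Fintype.card F : ℂ) - 1 ≠ 0 := q_sub_one_ne_zero
  have hEE : E' = -E := by
    have hrow : ∀ e ∈ sgn F, ∑ b ∈ univ.filter (fun b : F => b ≠ 0),
        ω e * d (bor 1 ((e : F) * b)) * conj (k * ω e) =
          conj k * (((Fintype.card F : ℂ) - 1) * ((E + E') / 2)) := by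
      intro e he
      rw [sum_ne_zero_eq_sum_units fun b => ω e * d (bor 1 ((e : F) * b)) * conj (k * ω e),
        Finset.sum_congr rfl fun (u : Fˣ) _ => show ω e * d (bor 1 ((e : F) * (u : F))) * conj (k * ω e) =
            conj k * ((E + E') / 2 + (E - E') / 2 * (ch η e * ch η u)) by
          rw [← Units.val_mul, hform, ch_mul', map_mul, hωc e he]
          linear_combination conj k * ((E + E') / 2 + (E - E') / 2 * (ch η e * ch η u)) * hω e he,
        ← Finset.mul_sum, Finset.sum_add_distrib, Finset.sum_const, Finset.card_univ, nsmul_eq_mul,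
        ← Finset.mul_sum, ← Finset.mul_sum, hsumη, hU]
      ring
    have h1 := Vals.card_mul_inner hc hd hφ
    rw [h0, Finset.sum_congr rfl hrow] at h1
    simp only [mul_zero, zero_mul, Finset.sum_const_zero, add_zero, zero_add, Finset.sum_const,
      nsmul_eq_mul] at h1
    have hs : ((sgn F).card : ℂ) ≠ 0 := Nat.cast_ne_zero.2 card_sgn_pos.ne'
    have hck : conj k ≠ 0 := by simpa using hk
    have h3 : (E + E') / 2 = 0 := by simpa [q_add_one_ne_zero, hs, hck, hcardne] using h1.symm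
    linear_combination 2 * h3
  have hval : ∀ e ∈ sgn F, ∀ b : F, b ≠ 0 → d (bor e b) = ω e * ch η e * qc η b * E := by
    intro e he b hb
    rw [hd.par e he b hb]
    obtain ⟨u, rfl⟩ : ∃ u : Fˣ, (u : F) = b := ⟨Units.mk0 b hb, rfl⟩
    rw [← Units.val_mul, hform, ch_mul', hEE, qc_coe]
    ring
  refine ⟨E, ?_, hval⟩
  have hnorm : E * conj E = (Fintype.card F : ℂ) := by
    have h1 := Vals.card_mul_inner hc hd hd
    rw [h2] at h1
    have hrow : ∀ e ∈ sgn F, ∑ b ∈ univ.filter (fun b : F => b ≠ 0),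
        ω e * d (bor 1 ((e : F) * b)) * conj (ω e * d (bor 1 ((e : F) * b))) =
          ((Fintype.card F : ℂ) - 1) * (E * conj E) := by
      intro e he
      rw [Finset.sum_congr rfl (g := fun _ => E * conj E) fun b hb => by
        rw [← hd.par e he b (Finset.mem_filter.1 hb).2, hval e he b (Finset.mem_filter.1 hb).2]
        obtain ⟨u, rfl⟩ : ∃ u : Fˣ, (u : F) = b :=
          ⟨Units.mk0 b (Finset.mem_filter.1 hb).2, rfl⟩
        rw [qc_coe]
        simp only [map_mul, hωc e he, conj_ch, h.inv_η]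
        linear_combination (ch η e * ch η e) * (ch η u * ch η u) * (E * conj E) * hω e he +
          (ch η u * ch η u) * (E * conj E) * h.ch_sq e + (E * conj E) * h.ch_sq u,
        Finset.sum_const, nsmul_eq_mul, card_filter_ne_zero]
    rw [Finset.sum_congr rfl hrow, cast_card_SL2] at h1
    have hs : ((sgn F).card : ℂ) = 2 := by
      have := sum_sgn_eq hodd fun _ => (1 : ℂ)
      rw [Finset.sum_const, nsmul_eq_mul, mul_one] at this
      rw [this]; norm_num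
    simp only [mul_zero, zero_mul, Finset.sum_const_zero, add_zero, zero_add, Finset.sum_const,
      nsmul_eq_mul, hs] at h1
    apply mul_left_cancel₀ (mul_ne_zero (mul_ne_zero (two_ne_zero (α := ℂ))
      (q_add_one_ne_zero (F := F))) hcardne)
    linear_combination -h1
  have hconj : conj E = ch η (-1 : Fˣ) * E := by
    have hinv : (bor 1 1 : SL F)⁻¹ = bor 1 (-1) := by
      apply inv_eq_of_mul_eq_one_left
      rw [bor_mul, ← bor_one_zero]
      simp
    have h1 := hdinv (bor 1 1)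
    rw [hinv, hval 1 (mem_sgn.2 (one_mul 1)) (-1) (by norm_num), ← hE,
      show (-1 : F) = ((-1 : Fˣ) : F) by simp, qc_coe, hω1] at h1
    rw [← h1, ch, map_one, Units.val_one]
    ring
  linear_combination ch η (-1 : Fˣ) * hnorm - ch η (-1 : Fˣ) * E * hconj -
    E * E * h.ch_sq (-1)
where
  ch_mul' {a b : Fˣ} : ch η (a * b) = ch η a * ch η b := by rw [ch, map_mul, Units.val_mul]

/-- The full value table of the halved characters. -/
theorem IsHalves.exists_vals (hodd : Odd (Fintype.card F)) (hc : Ell c)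
    (h : IsHalves c η θ x₁ x₂ y₁ y₂) :
    ∃ E E' : ℂ, E * E = ch η (-1 : Fˣ) * (Fintype.card F : ℂ) ∧
      E' * E' = ch η (-1 : Fˣ) * (Fintype.card F : ℂ) ∧
      Vals c x₁ (fun e => ((Fintype.card F : ℂ) + 1) / 2 * ch η e) (ch η)
        (fun e b => (ch η e + qc η b * E) / 2) (fun _ => 0) ∧
      Vals c x₂ (fun e => ((Fintype.card F : ℂ) + 1) / 2 * ch η e) (ch η)
        (fun e b => (ch η e - qc η b * E) / 2) (fun _ => 0) ∧
      Vals c y₁ (fun e => ((Fintype.card F : ℂ) - 1) / 2 * tc θ e) (fun _ => 0)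
        (fun e b => (-tc θ e + tc θ e * ch η e * qc η b * E') / 2) (fun y => -th θ y) ∧
      Vals c y₂ (fun e => ((Fintype.card F : ℂ) - 1) / 2 * tc θ e) (fun _ => 0)
        (fun e b => (-tc θ e - tc θ e * ch η e * qc η b * E') / 2) (fun y => -th θ y) := by
  classical
  have hcl : ∀ {χ : SL F → ℂ}, Cfsg.IsIrrCharacter (SL F) χ → Cfsg.IsClassFunction (SL F) χ :=
    fun hχ => CfsgLib.Char.IsIrrCharacter.isClassFunction hχ
  have hctr : ∀ e ∈ sgn F, bor e (0 : F) ∈ Subgroup.center (SL F) := fun e he =>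
    bor_mem_center_iff.2 ⟨mem_sgn.1 he, rfl⟩
  have orth : ∀ {u v : SL F → ℂ}, Cfsg.IsIrrCharacter (SL F) u → Cfsg.IsIrrCharacter (SL F) v →
      u ≠ v → Cfsg.classInner (u - v) (u + v) = 0 ∧ Cfsg.classInner (u - v) (u - v) = 2 := by
    intro u v hu hv hne
    rw [classInner_sub_left, classInner_add_right, classInner_add_right, classInner_sub_left,
      classInner_sub_right, classInner_sub_right, CfsgLib.Char.IsIrrCharacter.classInner_self hu,
      CfsgLib.Char.IsIrrCharacter.classInner_self hv,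
      CfsgLib.Char.IsIrrCharacter.classInner_of_ne hu hv hne,
      CfsgLib.Char.IsIrrCharacter.classInner_of_ne hv hu hne.symm]
    norm_num
  have hx : Vals c (x₁ - x₂) (fun _ => 0) (fun _ => 0)
      (fun e b => ch η e * (x₁ - x₂) (bor 1 ((e : F) * b))) (fun _ => 0) := by
    refine ⟨fun g k => ?_, fun e he => ?_, fun a ha => ?_, fun e he b _ => ?_, fun y hy => ?_⟩
    · simp [hcl h.x₁_irr g k, hcl h.x₂_irr g k]
    · simp [h.apply_cen hc he, h.x₁_one, h.x₂_one]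
    · simp [h.apply_dg hc ha]
    · rw [bor_eq_cen_mul he b, Pi.sub_apply, Pi.sub_apply,
        apply_center_mul h.x₁_irr (hctr e he) (h.apply_cen hc he).1,
        apply_center_mul h.x₂_irr (hctr e he) (h.apply_cen hc he).2.1, mul_sub]
    · simp [h.apply_tor hc hy]
  have hy : Vals c (y₁ - y₂) (fun _ => 0) (fun _ => 0)
      (fun e b => tc θ e * (y₁ - y₂) (bor 1 ((e : F) * b))) (fun _ => 0) := by
    refine ⟨fun g k => ?_, fun e he => ?_, fun a ha => ?_, fun e he b _ => ?_, fun y hy => ?_⟩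
    · simp [hcl h.y₁_irr g k, hcl h.y₂_irr g k]
    · simp [h.apply_cen hc he, h.y₁_one, h.y₂_one]
    · simp [h.apply_dg hc ha]
    · rw [bor_eq_cen_mul he b, Pi.sub_apply, Pi.sub_apply,
        apply_center_mul h.y₁_irr (hctr e he) (h.apply_cen hc he).2.2.1,
        apply_center_mul h.y₂_irr (hctr e he) (h.apply_cen hc he).2.2.2, mul_sub]
    · simp [h.apply_tor hc hy]
  have hinvx : ∀ g, (x₁ - x₂) g⁻¹ = conj ((x₁ - x₂) g) := fun g => by
    simp [CfsgLib.Char.IsIrrCharacter.apply_inv h.x₁_irr, CfsgLib.Char.IsIrrCharacter.apply_inv h.x₂_irr]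
  have hinvy : ∀ g, (y₁ - y₂) g⁻¹ = conj ((y₁ - y₂) g) := fun g => by
    simp [CfsgLib.Char.IsIrrCharacter.apply_inv h.y₁_irr, CfsgLib.Char.IsIrrCharacter.apply_inv h.y₂_irr]
  obtain ⟨E, hE, hEv⟩ := diff_formula hodd hc h (ω := ch η) (k := 1)
    (by rw [ch, map_one, Units.val_one]) (fun e he => ch_mul_self η he)
    (fun e he => by rw [conj_ch, ch_inv_sgn η he]) one_ne_zero hx hinvx
    ((R_vals hc η).congr (fun _ _ => rfl) (fun _ _ => rfl) (fun e _ b _ => (one_mul _).symm)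
      (fun _ _ => rfl))
    (by rw [h.R_eq]; exact (orth h.x₁_irr h.x₂_irr h.x_ne).1) (orth h.x₁_irr h.x₂_irr h.x_ne).2
  obtain ⟨E', hE', hEv'⟩ := diff_formula hodd hc h (ω := tc θ) (k := -1)
    (tc_one θ) (fun e he => tc_mul_self θ he)
    (fun e he => by rw [conj_th, show th θ⁻¹ (bor e 0) = tc θ e from tc_inv θ he])
    (by norm_num) hy hinvy
    ((Pi'_vals hc θ).congr (fun _ _ => rfl) (fun _ _ => rfl)
      (fun e _ b _ => (neg_one_mul _).symm) (fun _ _ => rfl))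
    (by rw [h.Pi'_eq]; exact (orth h.y₁_irr h.y₂_irr h.y_ne).1) (orth h.y₁_irr h.y₂_irr h.y_ne).2
  have hR : ∀ e ∈ sgn F, ∀ b : F, b ≠ 0 → x₁ (bor e b) + x₂ (bor e b) = ch η e := fun e he b hb => by
    rw [h.R_apply, (R_vals hc η).par e he b hb]
  have hP : ∀ e ∈ sgn F, ∀ b : F, b ≠ 0 → y₁ (bor e b) + y₂ (bor e b) = -tc θ e :=
    fun e he b hb => by rw [h.Pi'_apply, (Pi'_vals hc θ).par e he b hb]
  refine ⟨E, E', hE, hE', ⟨hcl h.x₁_irr, ?_, ?_, ?_, ?_⟩, ⟨hcl h.x₂_irr, ?_, ?_, ?_, ?_⟩,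
    ⟨hcl h.y₁_irr, ?_, ?_, ?_, ?_⟩, ⟨hcl h.y₂_irr, ?_, ?_, ?_, ?_⟩⟩
  all_goals first
    | exact fun a ha => (h.apply_dg hc ha).1
    | exact fun a ha => (h.apply_dg hc ha).2.1
    | exact fun a ha => (h.apply_dg hc ha).2.2.1
    | exact fun a ha => (h.apply_dg hc ha).2.2.2
    | exact fun y hy => (h.apply_tor hc hy).1
    | exact fun y hy => (h.apply_tor hc hy).2.1
    | exact fun y hy => (h.apply_tor hc hy).2.2.1
    | exact fun y hy => (h.apply_tor hc hy).2.2.2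
    | (intro e he; rw [(h.apply_cen hc he).1, h.x₁_one, mul_comm])
    | (intro e he; rw [(h.apply_cen hc he).2.1, h.x₂_one, mul_comm])
    | (intro e he; rw [(h.apply_cen hc he).2.2.1, h.y₁_one, mul_comm])
    | (intro e he; rw [(h.apply_cen hc he).2.2.2, h.y₂_one, mul_comm])
    | skip
  · intro e he b hb
    have h1 := hEv e he b hb
    rw [Pi.sub_apply] at h1
    linear_combination (hR e he b hb) / 2 + h1 / 2 + qc η b * E / 2 * ch_mul_self η he
  · intro e he b hb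
    have h1 := hEv e he b hb
    rw [Pi.sub_apply] at h1
    linear_combination (hR e he b hb) / 2 - h1 / 2 - qc η b * E / 2 * ch_mul_self η he
  · intro e he b hb
    have h1 := hEv' e he b hb
    rw [Pi.sub_apply] at h1
    linear_combination (hP e he b hb) / 2 + h1 / 2
  · intro e he b hb
    have h1 := hEv' e he b hb
    rw [Pi.sub_apply] at h1
    linear_combination (hP e he b hb) / 2 - h1 / 2

end CfsgLib.SL2C
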