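import Cfsg.Agent.SL2C.Cases

/-!
Counting characters by degree, multiplicative characters, and the outer diagonal automorphism.
-/

set_option autoImplicit false
set_option linter.unusedSectionVars false
set_option linter.style.haveILetI false

namespace CfsgLib.SL2C

open Matrix Finset
open scoped ComplexConjugate Classical
open CfsgLib.Char (irrFinset mem_irrFinset)

universe u

theorem natCard_irr_subtype {G : Type u} [Group G] [Finite G] (p : (G → ℂ) → Prop) :
    Nat.card {χ : Cfsg.IrrCharacter G // p χ.1} = ((irrFinset G).filter p).card := by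
  rw [← Nat.card_eq_finsetCard]
  refine Nat.card_congr
    { toFun := fun χ => ⟨χ.1.1, Finset.mem_filter.2 ⟨mem_irrFinset.2 χ.1.2, χ.2⟩⟩
      invFun := fun χ => ⟨⟨χ.1, mem_irrFinset.1 (Finset.mem_filter.1 χ.2).1⟩,
        (Finset.mem_filter.1 χ.2).2⟩
      left_inv := fun _ => rfl
      right_inv := fun _ => rfl }

theorem cast_natCard_irr_subtype {G : Type u} [Group G] [Finite G] (p : (G → ℂ) → Prop) :
    (Nat.card {χ : Cfsg.IrrCharacter G // p χ.1} : ℂ) =
      ∑ χ ∈ irrFinset G, if p χ then 1 else 0 := by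
  rw [natCard_irr_subtype, Finset.sum_boole]

variable {F : Type*} [Field F] [Fintype F]

theorem toUnitHom_inj {α β : MulChar F ℂ} : α.toUnitHom = β.toUnitHom ↔ α = β := by
  refine ⟨fun h => MulChar.ext fun a => ?_, fun h => by rw [h]⟩
  rw [← MulChar.coe_toUnitHom, ← MulChar.coe_toUnitHom, h]

theorem toUnitHom_mul (α β : MulChar F ℂ) :
    (α * β).toUnitHom = α.toUnitHom * β.toUnitHom := by
  ext a
  simp [MulChar.coe_toUnitHom, MonoidHom.mul_apply]

theorem toUnitHom_one : (1 : MulChar F ℂ).toUnitHom = 1 := by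
  ext a
  simp [MulChar.coe_toUnitHom]

theorem toUnitHom_inv (α : MulChar F ℂ) : (α⁻¹).toUnitHom = α.toUnitHom⁻¹ := by
  refine (dual_mul_eq_one _ _).1 ?_
  rw [← toUnitHom_mul, inv_mul_cancel, toUnitHom_one]

theorem toUnitHom_sq_eq_one (α : MulChar F ℂ) :
    α ^ 2 = 1 ↔ α.toUnitHom * α.toUnitHom = 1 := by
  rw [← toUnitHom_mul, ← toUnitHom_one, toUnitHom_inj, pow_two]

/-- Conjugation by `diag(ν, 1)`. -/
noncomputable def sigma (ν : Fˣ) : SL F →* SL F where
  toFun g := ⟨!![mt g 0 0, (ν : F) * mt g 0 1; ((ν⁻¹ : Fˣ) : F) * mt g 1 0, mt g 1 1], by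
    have h := det_mt g
    rw [Matrix.det_fin_two] at h
    rw [Matrix.det_fin_two_of]
    have hν : (ν : F) * ((ν⁻¹ : Fˣ) : F) = 1 := ν.mul_inv
    linear_combination h - mt g 0 1 * mt g 1 0 * hν⟩
  map_one' := mt_injective (by
    ext i j
    fin_cases i <;> fin_cases j <;> simp)
  map_mul' g h := mt_injective (by
    change !![(mt g * mt h) 0 0, (ν : F) * (mt g * mt h) 0 1;
        ((ν⁻¹ : Fˣ) : F) * (mt g * mt h) 1 0, (mt g * mt h) 1 1] =
      !![mt g 0 0, (ν : F) * mt g 0 1; ((ν⁻¹ : Fˣ) : F) * mt g 1 0, mt g 1 1] *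
      !![mt h 0 0, (ν : F) * mt h 0 1; ((ν⁻¹ : Fˣ) : F) * mt h 1 0, mt h 1 1]
    ext i j
    fin_cases i <;> fin_cases j <;> simp [Matrix.mul_apply, Fin.sum_univ_two] <;> field_simp)

theorem mt_sigma (ν : Fˣ) (g : SL F) :
    mt (sigma ν g) = !![mt g 0 0, (ν : F) * mt g 0 1; ((ν⁻¹ : Fˣ) : F) * mt g 1 0, mt g 1 1] := rfl

theorem sigma_bor (ν e : Fˣ) (b : F) : sigma ν (bor e b) = bor e ((ν : F) * b) := by
  apply mt_injective
  rw [mt_sigma]
  ext i j
  fin_cases i <;> fin_cases j <;> simp [mt_bor]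

theorem sigma_ell (ν : Fˣ) {g : SL F} (hg : Ell g) : Ell (sigma ν g) := by
  intro c v hv hcv
  refine hg c ![((ν⁻¹ : Fˣ) : F) * v 0, v 1] ?_ ?_
  · intro h
    apply hv
    ext i
    fin_cases i
    · have := congrFun h 0
      simpa [ν.ne_zero] using this
    · simpa using congrFun h 1
  · have h0 := congrFun hcv 0
    have h1 := congrFun hcv 1
    rw [mt_sigma] at h0 h1
    simp [Matrix.mulVec, dotProduct, Fin.sum_univ_two] at h0 h1
    ext i
    fin_cases i <;> simp [Matrix.mulVec, dotProduct, Fin.sum_univ_two] <;> field_simp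
    · linear_combination h0
    · field_simp at h1
      linear_combination h1

end CfsgLib.SL2C
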