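import Mathlib.LinearAlgebra.Matrix.SpecialLinearGroup
import Mathlib.FieldTheory.Finite.Basic
import Mathlib.Tactic.LinearCombination

/-!
2×2 matrices over a field: commutant of a non-scalar matrix, the norm form, eigenvectors.
Shared by the SL₂ and GL₂ files.
-/

set_option autoImplicit false

namespace CfsgLib.SL2C

open Matrix

variable {F : Type*} [Field F]

/-- A matrix is scalar. -/
def IsScal (A : Matrix (Fin 2) (Fin 2) F) : Prop := ∃ c : F, A = c • 1

/-- No eigenvector in `F²`. -/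
def NoEig (A : Matrix (Fin 2) (Fin 2) F) : Prop :=
  ∀ (c : F) (v : Fin 2 → F), v ≠ 0 → A *ᵥ v ≠ c • v

theorem isScal_iff (A : Matrix (Fin 2) (Fin 2) F) :
    IsScal A ↔ A 0 1 = 0 ∧ A 1 0 = 0 ∧ A 0 0 = A 1 1 := by
  constructor
  · rintro ⟨c, rfl⟩
    simp
  · rintro ⟨h1, h2, h3⟩
    refine ⟨A 0 0, ?_⟩
    ext i j
    fin_cases i <;> fin_cases j <;> simp [h1, h2, h3]

theorem NoEig.not_isScal {A : Matrix (Fin 2) (Fin 2) F} (h : NoEig A) : ¬ IsScal A := by
  rintro ⟨c, rfl⟩
  exact h c ![1, 0] (by simp) (by simp [Matrix.smul_mulVec])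

/-- Cayley–Hamilton for 2×2. -/
theorem sq_eq (A : Matrix (Fin 2) (Fin 2) F) : A * A = A.trace • A - A.det • 1 := by
  ext i j
  fin_cases i <;> fin_cases j <;>
    simp [Matrix.mul_apply, Fin.sum_univ_two, Matrix.trace_fin_two, Matrix.det_fin_two] <;> ring

theorem det_smul_add_smul (A : Matrix (Fin 2) (Fin 2) F) (a b : F) :
    (a • 1 + b • A).det = a ^ 2 + A.trace * a * b + A.det * b ^ 2 := by
  simp [Matrix.det_fin_two, Matrix.trace_fin_two]
  ring

theorem mul_comm_smul_add (A : Matrix (Fin 2) (Fin 2) F) (a b : F) :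
    A * (a • 1 + b • A) = (a • 1 + b • A) * A := by
  simp [Matrix.mul_add, Matrix.add_mul]

/-- Whatever commutes with a non-scalar 2×2 matrix is in its span with the identity. -/
theorem exists_eq_smul_add_smul {A X : Matrix (Fin 2) (Fin 2) F} (hA : ¬ IsScal A)
    (h : A * X = X * A) : ∃ a b : F, X = a • 1 + b • A := by
  have h00 := congrFun (congrFun h 0) 0
  have h01 := congrFun (congrFun h 0) 1
  have h10 := congrFun (congrFun h 1) 0
  simp only [Matrix.mul_apply, Fin.sum_univ_two] at h00 h01 h10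
  by_cases hb : A 0 1 = 0
  · by_cases hc : A 1 0 = 0
    · have hd : A 0 0 - A 1 1 ≠ 0 := fun e => hA ((isScal_iff A).2 ⟨hb, hc, sub_eq_zero.1 e⟩)
      have x01 : X 0 1 = 0 := by
        rw [hb] at h01
        exact (mul_eq_zero.1 (show (A 0 0 - A 1 1) * X 0 1 = 0 by linear_combination h01)).resolve_left hd
      have x10 : X 1 0 = 0 := by
        rw [hc] at h10
        exact (mul_eq_zero.1 (show (A 0 0 - A 1 1) * X 1 0 = 0 by linear_combination -h10)).resolve_left hd
      refine ⟨X 0 0 - (X 0 0 - X 1 1) / (A 0 0 - A 1 1) * A 0 0,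
        (X 0 0 - X 1 1) / (A 0 0 - A 1 1), ?_⟩
      ext i j
      fin_cases i <;> fin_cases j <;> simp [hb, hc, x01, x10] <;> field_simp <;> ring
    · refine ⟨X 0 0 - X 1 0 / A 1 0 * A 0 0, X 1 0 / A 1 0, ?_⟩
      rw [hb] at h00
      ext i j
      fin_cases i <;> fin_cases j <;> simp [hb] <;>
        first
          | exact mul_right_cancel₀ hc (by linear_combination -h00)
          | (field_simp; done)
          | (field_simp
             first | linear_combination h10 | linear_combination -h10)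
  · refine ⟨X 0 0 - X 0 1 / A 0 1 * A 0 0, X 0 1 / A 0 1, ?_⟩
    ext i j
    fin_cases i <;> fin_cases j <;> simp <;> field_simp <;>
      first | ring1 | linear_combination h00 | linear_combination h01 | linear_combination -h01

theorem smul_add_smul_inj {A : Matrix (Fin 2) (Fin 2) F} (hA : ¬ IsScal A) {a b a' b' : F}
    (h : a • (1 : Matrix (Fin 2) (Fin 2) F) + b • A = a' • 1 + b' • A) : a = a' ∧ b = b' := by
  by_cases hb : b = b'
  · subst hb
    refine ⟨?_, rfl⟩
    simpa using congrFun (congrFun h 0) 0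
  · refine absurd ⟨(a' - a) / (b - b'), ?_⟩ hA
    ext i j
    have h1 := congrFun (congrFun h i) j
    simp at h1 ⊢
    field_simp [sub_ne_zero.2 hb]
    linear_combination h1

theorem NoEig.det_smul_add_smul_ne_zero {A : Matrix (Fin 2) (Fin 2) F} (h : NoEig A) {a b : F}
    (hab : a ≠ 0 ∨ b ≠ 0) : (a • 1 + b • A).det ≠ 0 := by
  intro hd
  obtain ⟨v, hv, hv0⟩ := (Matrix.exists_mulVec_eq_zero_iff.2 hd)
  rcases eq_or_ne b 0 with rfl | hb
  · simp [Matrix.smul_mulVec] at hv0
    rcases hv0 with rfl | rfl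
    · simp at hab
    · exact hv rfl
  · refine h (-a / b) v hv ?_
    ext i
    have h1 := congrFun hv0 i
    simp [Matrix.add_mulVec, Matrix.smul_mulVec] at h1 ⊢
    field_simp
    linear_combination h1

/-- A non-scalar matrix has a cyclic vector. -/
theorem exists_cyclic_vector {A : Matrix (Fin 2) (Fin 2) F} (hA : ¬ IsScal A) :
    ∃ P : Matrix (Fin 2) (Fin 2) F, P.det ≠ 0 ∧ A * P = P * !![0, -A.det; 1, A.trace] := by
  suffices ∃ x y : F, x * (A 1 0 * x + A 1 1 * y) - y * (A 0 0 * x + A 0 1 * y) ≠ 0 by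
    obtain ⟨x, y, hxy⟩ := this
    refine ⟨!![x, A 0 0 * x + A 0 1 * y; y, A 1 0 * x + A 1 1 * y], ?_, ?_⟩
    · rw [Matrix.det_fin_two_of]
      intro e
      exact hxy (by linear_combination e)
    · ext i j
      fin_cases i <;> fin_cases j <;>
        simp [Matrix.mul_apply, Fin.sum_univ_two, Matrix.trace_fin_two, Matrix.det_fin_two] <;> ring
  by_contra hcon
  push Not at hcon
  have h1 := hcon 1 0
  have h2 := hcon 0 1
  have h3 := hcon 1 1
  simp at h1 h2 h3
  exact hA ((isScal_iff A).2 ⟨h2, h1, by linear_combination -h3 + h1 - h2⟩)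

/-- Non-scalar matrices with the same trace and determinant are similar. -/
theorem exists_conj {A B : Matrix (Fin 2) (Fin 2) F} (hA : ¬ IsScal A) (hB : ¬ IsScal B)
    (ht : A.trace = B.trace) (hd : A.det = B.det) :
    ∃ P : Matrix (Fin 2) (Fin 2) F, P.det ≠ 0 ∧ B * P = P * A := by
  obtain ⟨P, hP, hP'⟩ := exists_cyclic_vector hA
  obtain ⟨Q, hQ, hQ'⟩ := exists_cyclic_vector hB
  rw [← ht, ← hd] at hQ'
  have hu : IsUnit P.det := isUnit_iff_ne_zero.2 hP
  refine ⟨Q * P⁻¹, by simp [Matrix.det_mul, Matrix.det_nonsing_inv, hQ, hP], ?_⟩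
  have h2 : P⁻¹ * A = !![0, -A.det; 1, A.trace] * P⁻¹ := by
    calc P⁻¹ * A = P⁻¹ * (A * P) * P⁻¹ := by
          simp [Matrix.mul_assoc, Matrix.mul_nonsing_inv P hu]
      _ = _ := by rw [hP', ← Matrix.mul_assoc P⁻¹ P, Matrix.nonsing_inv_mul P hu, Matrix.one_mul]
  rw [← Matrix.mul_assoc, hQ', Matrix.mul_assoc, ← h2, Matrix.mul_assoc]

variable [Fintype F]

/-- Over a finite field the norm form of an irreducible quadratic is onto. -/
theorem NoEig.exists_det_eq {A : Matrix (Fin 2) (Fin 2) F} (h : NoEig A) (n : F) :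
    ∃ a b : F, (a • 1 + b • A).det = n := by
  classical
  by_cases h2 : ringChar F = 2
  · have hev : ∀ x : F, IsSquare x := fun x => FiniteField.isSquare_of_char_two h2 x
    obtain ⟨a, ha⟩ := hev n
    exact ⟨a, 0, by rw [det_smul_add_smul, ha]; ring⟩
  · have hodd : Fintype.card F % 2 = 1 := FiniteField.odd_card_of_char_ne_two h2
    have h2' : (2 : F) ≠ 0 := Ring.two_ne_zero h2
    have hdisc : A.trace ^ 2 - 4 * A.det ≠ 0 := by
      intro hd
      refine h.det_smul_add_smul_ne_zero (a := A.trace) (b := -2) (Or.inr (by simpa using h2')) ?_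
      rw [det_smul_add_smul]
      linear_combination -hd
    open Polynomial in
    obtain ⟨u, b, hub⟩ := FiniteField.exists_root_sum_quadratic
      (f := (X ^ 2 : F[X])) (g := C (-(A.trace ^ 2 - 4 * A.det)) * X ^ 2 + C (-4 * n))
      (Polynomial.degree_X_pow 2)
      (by
        rw [Polynomial.degree_add_eq_left_of_degree_lt] <;>
          rw [Polynomial.degree_C_mul_X_pow 2 (neg_ne_zero.2 hdisc)]
        · rfl
        · exact lt_of_le_of_lt Polynomial.degree_C_le (by exact_mod_cast (by norm_num : 0 < 2)))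
      hodd
    simp at hub
    refine ⟨(u - A.trace * b) / 2, b, ?_⟩
    rw [det_smul_add_smul]
    field_simp
    linear_combination hub

end CfsgLib.SL2C
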