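import Cfsg.Agent.SL2C.Basic
import Mathlib.Data.Complex.Basic
import Mathlib.RingTheory.IntegralDomain

/-!
SL₂ over a finite field: nonsplit tori and the Weyl-type sum formula for class functions.
-/

set_option autoImplicit false

namespace CfsgLib.SL2C

open Matrix Finset
open scoped Classical

/-- Orbit counting for sums of conjugation invariant functions. -/
theorem sum_conj_invariant {G : Type*} [Group G] [Fintype G] [DecidableEq G] (S : Finset G) (N : ℕ)
    (hN : ∀ s ∈ S, (univ.filter fun x : G => x⁻¹ * s * x ∈ S).card = N)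
    (f : G → ℂ) (hf : ∀ g h, f (h * g * h⁻¹) = f g) (O : Finset G)
    (hO : ∀ g, g ∈ O ↔ ∃ s ∈ S, IsConj s g) :
    (N : ℂ) * ∑ g ∈ O, f g = (Fintype.card G : ℂ) * ∑ s ∈ S, f s := by
  have h1 : ∑ p ∈ (univ : Finset G) ×ˢ S, f (p.1 * p.2 * p.1⁻¹) =
      (Fintype.card G : ℂ) * ∑ s ∈ S, f s := by
    rw [Finset.sum_product]
    simp [hf]
  rw [← h1, Finset.mul_sum]
  have hmaps : ∀ p ∈ (univ : Finset G) ×ˢ S, p.1 * p.2 * p.1⁻¹ ∈ O := fun p hp =>
    (hO _).2 ⟨p.2, (Finset.mem_product.1 hp).2, isConj_iff.2 ⟨p.1, rfl⟩⟩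
  rw [← Finset.sum_fiberwise_of_maps_to hmaps]
  refine Finset.sum_congr rfl fun g hg => ?_
  have hcard : (((univ : Finset G) ×ˢ S).filter fun p => p.1 * p.2 * p.1⁻¹ = g).card = N := by
    obtain ⟨s₀, hs₀, hc⟩ := (hO g).1 hg
    obtain ⟨x₀, rfl⟩ := isConj_iff.1 hc
    rw [← hN s₀ hs₀]
    refine Finset.card_nbij' (fun p => x₀⁻¹ * p.1) (fun x => (x₀ * x, x⁻¹ * s₀ * x)) ?_ ?_ ?_ ?_
    · intro p hp
      simp only [Finset.coe_filter, Finset.mem_product, Finset.mem_univ, true_and,
        Set.mem_setOf_eq] at hp ⊢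
      have : (x₀⁻¹ * p.1)⁻¹ * s₀ * (x₀⁻¹ * p.1) = p.1⁻¹ * (x₀ * s₀ * x₀⁻¹) * p.1 := by group
      rw [this, ← hp.2, show p.1⁻¹ * (p.1 * p.2 * p.1⁻¹) * p.1 = p.2 by group]
      exact hp.1
    · intro x hx
      simp only [Finset.coe_filter, Finset.mem_product, Finset.mem_univ, true_and,
        Set.mem_setOf_eq] at hx ⊢
      exact ⟨hx, by group⟩
    · intro p hp
      simp only [Finset.coe_filter, Finset.mem_product, Finset.mem_univ, true_and,
        Set.mem_setOf_eq] at hp
      refine Prod.ext (by simp) ?_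
      change (x₀⁻¹ * p.1)⁻¹ * s₀ * (x₀⁻¹ * p.1) = p.2
      have : (x₀⁻¹ * p.1)⁻¹ * s₀ * (x₀⁻¹ * p.1) = p.1⁻¹ * (x₀ * s₀ * x₀⁻¹) * p.1 := by group
      rw [this, ← hp.2]
      group
    · intro x _
      simp
  rw [Finset.sum_congr rfl (g := fun _ => f g) fun p hp => by rw [(Finset.mem_filter.1 hp).2],
    Finset.sum_const, hcard, nsmul_eq_mul]

variable {F : Type*} [Field F] [Fintype F]

/-- The units `ε` with `ε² = 1`. -/
noncomputable def sgn (F : Type*) [Field F] [Fintype F] : Finset Fˣ :=
  univ.filter fun e => e * e = 1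

/-- The units `a` with `a² ≠ 1`. -/
noncomputable def reg (F : Type*) [Field F] [Fintype F] : Finset Fˣ :=
  univ.filter fun a => a * a ≠ 1

theorem mem_sgn {e : Fˣ} : e ∈ sgn F ↔ e * e = 1 := by simp [sgn]

theorem mem_reg {a : Fˣ} : a ∈ reg F ↔ a * a ≠ 1 := by simp [reg]

theorem card_sgn_add_card_reg : (sgn F).card + (reg F).card = Fintype.card F - 1 := by
  classical
  have h := Finset.card_filter_add_card_filter_not (s := (univ : Finset Fˣ))
    (fun e : Fˣ => e * e = 1)
  rw [Finset.card_univ, Fintype.card_units] at h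
  exact h

theorem card_sgn_pos : 0 < (sgn F).card :=
  Finset.card_pos.2 ⟨1, mem_sgn.2 (one_mul 1)⟩

theorem natCard_center : Nat.card (Subgroup.center (SL F)) = (sgn F).card := by
  classical
  rw [← Nat.card_eq_finsetCard]
  refine (Nat.card_eq_of_bijective
    (fun e : sgn F => (⟨bor e.1 0, bor_mem_center_iff.2 ⟨mem_sgn.1 e.2, rfl⟩⟩ :
      Subgroup.center (SL F))) ⟨fun a b h => Subtype.ext (bor_inj (congrArg Subtype.val h)).1,
      fun g => ?_⟩).symm
  obtain ⟨a, ha, hga⟩ := exists_eq_bor_of_mem_center g.2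
  exact ⟨⟨a, mem_sgn.2 ha⟩, Subtype.ext hga.symm⟩

/-! ### Nonsplit tori -/

/-- The nonsplit torus through an elliptic element. -/
abbrev tor (c : SL F) : Subgroup (SL F) := Subgroup.centralizer ({c} : Set (SL F))

theorem card_tor {c : SL F} (hc : Ell c) : Nat.card (tor c) = Fintype.card F + 1 := by
  classical
  let n : F × F → F := fun p => (p.1 • (1 : Matrix (Fin 2) (Fin 2) F) + p.2 • mt c).det
  have hA := NoEig.not_isScal hc
  have key : ∀ k : F, k ≠ 0 →
      (univ.filter fun p : F × F => n p = k).card =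
        (univ.filter fun p : F × F => n p = 1).card := by
    intro k hk
    obtain ⟨a, b, hab⟩ := NoEig.exists_det_eq hc k
    set X : Matrix (Fin 2) (Fin 2) F := a • 1 + b • mt c with hX
    have hu : IsUnit X.det := by rw [hab]; exact isUnit_iff_ne_zero.2 hk
    have hXc : mt c * X = X * mt c := mul_comm_smul_add _ a b
    have hXi : mt c * X⁻¹ = X⁻¹ * mt c := by
      calc mt c * X⁻¹ = X⁻¹ * (X * mt c) * X⁻¹ := by
            rw [← Matrix.mul_assoc X⁻¹ X, Matrix.nonsing_inv_mul X hu, Matrix.one_mul]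
        _ = _ := by
            rw [← hXc, Matrix.mul_assoc, Matrix.mul_assoc, Matrix.mul_nonsing_inv X hu,
              Matrix.mul_one]
    have hcomm : ∀ p : F × F, mt c * (p.1 • 1 + p.2 • mt c) = (p.1 • 1 + p.2 • mt c) * mt c :=
      fun p => mul_comm_smul_add _ p.1 p.2
    choose u v huv using fun p : F × F => exists_eq_smul_add_smul hA
      (show mt c * (X⁻¹ * (p.1 • 1 + p.2 • mt c)) = X⁻¹ * (p.1 • 1 + p.2 • mt c) * mt c by
        rw [← Matrix.mul_assoc, hXi, Matrix.mul_assoc, hcomm, Matrix.mul_assoc])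
    choose u' v' huv' using fun p : F × F => exists_eq_smul_add_smul hA
      (show mt c * (X * (p.1 • 1 + p.2 • mt c)) = X * (p.1 • 1 + p.2 • mt c) * mt c by
        rw [← Matrix.mul_assoc, hXc, Matrix.mul_assoc, hcomm, Matrix.mul_assoc])
    refine Finset.card_nbij' (fun p => (u p, v p)) (fun p => (u' p, v' p)) ?_ ?_ ?_ ?_
    · intro p hp
      simp only [Finset.coe_filter, Finset.mem_univ, true_and, Set.mem_setOf_eq, n] at hp ⊢
      rw [← huv, Matrix.det_mul, hp, Matrix.det_nonsing_inv, hab]
      simp [hk]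
    · intro p hp
      simp only [Finset.coe_filter, Finset.mem_univ, true_and, Set.mem_setOf_eq, n] at hp ⊢
      rw [← huv', Matrix.det_mul, hp, hab, mul_one]
    · intro p _
      have h := huv' (u p, v p)
      simp only [← huv, ← Matrix.mul_assoc, Matrix.mul_nonsing_inv X hu, Matrix.one_mul] at h
      obtain ⟨h1, h2⟩ := smul_add_smul_inj hA h
      exact Prod.ext h1.symm h2.symm
    · intro p _
      have h := huv (u' p, v' p)
      simp only [← huv', ← Matrix.mul_assoc, Matrix.nonsing_inv_mul X hu, Matrix.one_mul] at h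
      obtain ⟨h1, h2⟩ := smul_add_smul_inj hA h
      exact Prod.ext h1.symm h2.symm
  have htot : (univ.filter fun p : F × F => p ≠ 0).card =
      (Fintype.card F - 1) * (univ.filter fun p : F × F => n p = 1).card := by
    rw [Finset.card_eq_sum_card_fiberwise (f := n) (t := univ.filter fun k : F => k ≠ 0) ?_]
    · rw [Finset.sum_congr rfl (g := fun _ => (univ.filter fun p : F × F => n p = 1).card)
        (fun k hk => ?_), Finset.sum_const, smul_eq_mul, Finset.filter_ne',
        Finset.card_erase_of_mem (Finset.mem_univ _), Finset.card_univ]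
      rw [← key k (Finset.mem_filter.1 hk).2]
      congr 1
      ext p
      simp only [Finset.mem_filter, Finset.mem_univ, true_and, ne_eq, and_iff_right_iff_imp]
      rintro hp rfl
      exact (Finset.mem_filter.1 hk).2 (by simp [← hp, n])
    · intro p hp
      simp only [Finset.coe_filter, Finset.mem_univ, true_and, Set.mem_setOf_eq] at hp ⊢
      refine NoEig.det_smul_add_smul_ne_zero hc ?_
      by_contra h
      push Not at h
      exact hp (Prod.ext h.1 h.2)
  rw [Finset.filter_ne', Finset.card_erase_of_mem (Finset.mem_univ _), Finset.card_univ,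
    Fintype.card_prod] at htot
  have h3 : (univ.filter fun p : F × F => n p = 1).card = Fintype.card F + 1 := by
    obtain ⟨k, hk⟩ := Nat.exists_eq_add_of_le (Fintype.one_lt_card (α := F))
    rw [hk, show (Nat.succ 1 + k) * (Nat.succ 1 + k) - 1 = (1 + k) * (Nat.succ 1 + k + 1) by
      have : (Nat.succ 1 + k) * (Nat.succ 1 + k) = (1 + k) * (Nat.succ 1 + k + 1) + 1 := by
        simp only [Nat.succ_eq_add_one]; ring
      omega,
      show Nat.succ 1 + k - 1 = 1 + k by omega] at htot
    rw [hk]
    exact (Nat.eq_of_mul_eq_mul_left (by omega) htot).symm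
  rw [← h3, ← Nat.card_eq_finsetCard]
  refine (Nat.card_eq_of_bijective (fun p : (univ.filter fun p : F × F => n p = 1 : Finset _) =>
    (⟨⟨p.1.1 • (1 : Matrix (Fin 2) (Fin 2) F) + p.1.2 • mt c, (Finset.mem_filter.1 p.2).2⟩,
      Subgroup.mem_centralizer_singleton_iff.2 (Subtype.ext
        (mul_comm_smul_add (mt c) p.1.1 p.1.2).symm)⟩ : tor c)) ⟨?_, ?_⟩).symm
  · intro p q h
    have h' := congrArg (fun y : tor c => mt y.1) h
    obtain ⟨h1, h2⟩ := smul_add_smul_inj hA h'
    exact Subtype.ext (Prod.ext h1 h2)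
  · rintro ⟨x, hx⟩
    obtain ⟨a, b, hab⟩ := exists_of_commute hc.not_mem_center
      (Subgroup.mem_centralizer_singleton_iff.1 hx).symm
    exact ⟨⟨(a, b), Finset.mem_filter.2 ⟨Finset.mem_univ _, by
      change (a • (1 : Matrix (Fin 2) (Fin 2) F) + b • mt c).det = 1
      rw [← hab]; exact det_mt x⟩⟩, Subtype.ext (mt_injective hab.symm)⟩

theorem isCyclic_tor {c : SL F} (hc : Ell c) : IsCyclic (tor c) := by
  classical
  let R : Subring (Matrix (Fin 2) (Fin 2) F) := Subring.centralizer {mt c}
  have hrep : ∀ x : R, ∃ a b : F, (x : Matrix (Fin 2) (Fin 2) F) = a • 1 + b • mt c := fun x =>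
    exists_eq_smul_add_smul (NoEig.not_isScal hc)
      (Subring.mem_centralizer_iff.1 x.2 (mt c) (Set.mem_singleton _))
  letI : CommRing R :=
    { (inferInstance : Ring R) with
      mul_comm := fun x y => by
        obtain ⟨a, b, hab⟩ := hrep x
        obtain ⟨a', b', hab'⟩ := hrep y
        apply Subtype.ext
        change (x : Matrix (Fin 2) (Fin 2) F) * y = y * x
        rw [hab, hab']
        simp only [Matrix.add_mul, Matrix.mul_add, Matrix.smul_mul, Matrix.mul_smul,
          Matrix.one_mul, Matrix.mul_one]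
        module }
  haveI : NoZeroDivisors R := ⟨fun {x y} h => by
    obtain ⟨a, b, hab⟩ := hrep x
    by_cases h0 : a = 0 ∧ b = 0
    · exact Or.inl (Subtype.ext (by rw [hab, h0.1, h0.2]; simp))
    · refine Or.inr (Subtype.ext ?_)
      have hd := NoEig.det_smul_add_smul_ne_zero hc (a := a) (b := b) (by tauto)
      rw [← hab] at hd
      have h1 : (x : Matrix (Fin 2) (Fin 2) F) * y = 0 := congrArg Subtype.val h
      calc (y : Matrix (Fin 2) (Fin 2) F) =
            (x : Matrix (Fin 2) (Fin 2) F)⁻¹ * ((x : Matrix (Fin 2) (Fin 2) F) * y) := by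
            rw [← Matrix.mul_assoc, Matrix.nonsing_inv_mul _ (isUnit_iff_ne_zero.2 hd),
              Matrix.one_mul]
        _ = ((0 : R) : Matrix (Fin 2) (Fin 2) F) := by rw [h1, Matrix.mul_zero]; rfl⟩
  haveI : IsDomain R := NoZeroDivisors.to_isDomain R
  let φ : tor c →* R :=
    { toFun := fun x => ⟨mt x.1, Subring.mem_centralizer_iff.2 fun g hg => by
        rw [Set.mem_singleton_iff.1 hg]
        exact commute_iff_mt.1 (Subgroup.mem_centralizer_singleton_iff.1 x.2).symm⟩
      map_one' := rfl
      map_mul' := fun _ _ => rfl }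
  exact isCyclic_of_injective_ringHom φ fun a b h =>
    Subtype.ext (mt_injective (congrArg (fun r : R => (r : Matrix (Fin 2) (Fin 2) F)) h))

/-- The non-central elements of the torus. -/
noncomputable def torReg (c : SL F) : Finset (SL F) :=
  univ.filter fun y => y ∈ tor c ∧ y ∉ Subgroup.center (SL F)

theorem mem_torReg {c y : SL F} :
    y ∈ torReg c ↔ y ∈ tor c ∧ y ∉ Subgroup.center (SL F) := by simp [torReg]

theorem card_torReg {c : SL F} (hc : Ell c) :
    (torReg c).card + (sgn F).card = Fintype.card F + 1 := by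
  classical
  rw [← card_tor hc, ← natCard_center, Nat.card_eq_fintype_card, Nat.card_eq_fintype_card,
    Fintype.card_subtype, Fintype.card_subtype, ← Finset.card_union_of_disjoint]
  · congr 1
    ext y
    simp only [Finset.mem_union, mem_torReg, Finset.mem_filter, Finset.mem_univ, true_and]
    refine ⟨fun h => h.elim (fun h => h.1) (fun h => Subgroup.center_le_centralizer _ h),
      fun h => ?_⟩
    by_cases h2 : y ∈ Subgroup.center (SL F)
    · exact Or.inr h2
    · exact Or.inl ⟨h, h2⟩
  · rw [Finset.disjoint_left]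
    intro y hy hy'
    exact (mem_torReg.1 hy).2 (Finset.mem_filter.1 hy').2

theorem ell_of_mem_torReg {c y : SL F} (hc : Ell c) (hy : y ∈ torReg c) : Ell y :=
  hc.of_commute (mem_torReg.1 hy).2
    (Subgroup.mem_centralizer_singleton_iff.1 (mem_torReg.1 hy).1).symm

theorem tor_eq_of_mem {c y : SL F} (hc : Ell c) (hy : y ∈ torReg c) : tor y = tor c :=
  hc.centralizer_eq (mem_torReg.1 hy).2
    (Subgroup.mem_centralizer_singleton_iff.1 (mem_torReg.1 hy).1).symm

/-- An elliptic element is inverted by some element. -/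
theorem exists_inverting {c : SL F} (hc : Ell c) : ∃ w : SL F, w⁻¹ * c * w = c⁻¹ := by
  have h1 : c⁻¹ ∉ Subgroup.center (SL F) := fun h => hc.not_mem_center (inv_mem_iff.1 h)
  have h2 : (mt c).trace = (mt c⁻¹).trace := by
    rw [mt_inv]; simp [Matrix.trace_fin_two]; ring
  obtain ⟨x, hx⟩ := isConj_iff.1 (hc.isConj_of_trace h1 h2)
  exact ⟨x⁻¹, by rw [inv_inv]; exact hx⟩

section Preimages

theorem mem_centralizer_dg {a : Fˣ} (ha : a * a ≠ 1) {x : SL F} :
    x ∈ Subgroup.centralizer ({dg a} : Set (SL F)) ↔ ∃ b : Fˣ, x = dg b := by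
  rw [Subgroup.mem_centralizer_singleton_iff]
  constructor
  · intro h
    obtain ⟨u, v, huv⟩ := exists_of_commute
      (fun e => ha (bor_mem_center_iff.1 (show bor a 0 ∈ _ from e)).1) h.symm
    obtain ⟨b, b', rfl⟩ := exists_bor_of_apply (g := x) (by rw [huv]; simp [bor])
    have h01 := congrFun (congrFun huv 0) 1
    simp [bor, mt_dg] at h01
    exact ⟨b, by rw [h01]; rfl⟩
  · rintro ⟨b, rfl⟩
    rw [← map_mul, ← map_mul, mul_comm]

theorem card_preimage_split {a : Fˣ} (ha : a ∈ reg F) :
    (univ.filter fun x : SL F => x⁻¹ * dg a * x ∈ (reg F).image dg).card =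
      2 * (Fintype.card F - 1) := by
  classical
  have hw : ∀ u : Fˣ, (!![0, (u : F); -((u⁻¹ : Fˣ) : F), 0]).det = 1 := fun u => by
    simp [Matrix.det_fin_two_of]
  let w : Fˣ → SL F := fun u => ⟨!![0, (u : F); -((u⁻¹ : Fˣ) : F), 0], hw u⟩
  have hwinv : ∀ b u : Fˣ, (w u)⁻¹ * dg b * w u = dg b⁻¹ := fun b u => by
    rw [mul_assoc, inv_mul_eq_iff_eq_mul]
    apply mt_injective
    rw [mt_mul, mt_mul]
    ext i j
    fin_cases i <;> fin_cases j <;>
      simp [w, mt_dg, Matrix.mul_apply, Fin.sum_univ_two, mul_comm]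
  have hset : (univ.filter fun x : SL F => x⁻¹ * dg a * x ∈ (reg F).image dg) =
      (univ : Finset Fˣ).image dg ∪ (univ : Finset Fˣ).image w := by
    ext x
    simp only [Finset.mem_filter, Finset.mem_univ, true_and, Finset.mem_union, Finset.mem_image]
    constructor
    · rintro ⟨b, hb, hx⟩
      have hconj : IsConj (dg b) (dg a) := isConj_iff.2 ⟨x, by rw [hx]; group⟩
      have htr := trace_eq_of_isConj hconj
      simp [mt_dg, Matrix.trace_fin_two] at htr
      have h2 : ((b : F) - a) * ((b : F) * a - 1) = 0 := by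
        field_simp at htr
        linear_combination htr
      rcases mul_eq_zero.1 h2 with h3 | h3
      · have hba : b = a := Units.ext (sub_eq_zero.1 h3)
        subst hba
        have : x ∈ Subgroup.centralizer ({dg b} : Set (SL F)) :=
          Subgroup.mem_centralizer_singleton_iff.2 (by
            conv_lhs => rw [hx]
            group)
        exact Or.inl ((mem_centralizer_dg (mem_reg.1 hb)).1 this |>.imp fun _ h => h.symm)
      · have hba : b = a⁻¹ := eq_inv_of_mul_eq_one_left (Units.ext (by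
          simpa using sub_eq_zero.1 h3))
        subst hba
        obtain ⟨t, ht⟩ := (mem_centralizer_dg (mem_reg.1 ha)).1
          (Subgroup.mem_centralizer_singleton_iff.2
            (show x * (w 1)⁻¹ * dg a = dg a * (x * (w 1)⁻¹) by
              have h4 := hwinv a 1
              rw [hx] at h4
              calc x * (w 1)⁻¹ * dg a = x * ((w 1)⁻¹ * dg a * w 1) * (w 1)⁻¹ := by group
                _ = x * (x⁻¹ * dg a * x) * (w 1)⁻¹ := by rw [h4]
                _ = _ := by group))
        refine Or.inr ⟨t, ?_⟩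
        rw [mul_inv_eq_iff_eq_mul] at ht
        rw [ht]
        apply mt_injective
        rw [mt_mul]
        ext i j
        fin_cases i <;> fin_cases j <;> simp [w, mt_dg, Matrix.mul_apply, Fin.sum_univ_two]
    · rintro (⟨t, rfl⟩ | ⟨t, rfl⟩)
      · exact ⟨a, ha, by rw [← map_inv, ← map_mul, ← map_mul]; congr 1; simp [mul_comm]⟩
      · exact ⟨a⁻¹, mem_reg.2 (by rw [← _root_.mul_inv_rev, Ne, inv_eq_one]; exact mem_reg.1 ha),
          (hwinv a t).symm⟩
  rw [hset, Finset.card_union_of_disjoint, Finset.card_image_of_injective,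
    Finset.card_image_of_injective, Finset.card_univ, Fintype.card_units, two_mul]
  · intro u v h
    exact Units.ext (by simpa [w] using congrFun (congrFun (congrArg mt h) 0) 1)
  · intro u v h
    exact (bor_inj h).1
  · rw [Finset.disjoint_left]
    intro x hx hx'
    simp only [Finset.mem_image, Finset.mem_univ, true_and] at hx hx'
    obtain ⟨u, rfl⟩ := hx
    obtain ⟨v, hv⟩ := hx'
    have h := congrFun (congrFun (congrArg mt hv) 0) 0
    simp [w, mt_dg] at h
    exact Units.ne_zero u h.symm

/-- The elements `(ε b; 0 ε)` with `b ≠ 0`. -/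
noncomputable def parSet (F : Type*) [Field F] [Fintype F] : Finset (SL F) :=
  (sgn F ×ˢ (univ.filter fun b : F => b ≠ 0)).image fun p => bor p.1 p.2

theorem mem_parSet {g : SL F} :
    g ∈ parSet F ↔ ∃ (e : Fˣ) (b : F), e * e = 1 ∧ b ≠ 0 ∧ bor e b = g := by
  simp [parSet, mem_sgn, and_assoc, and_left_comm]

theorem card_preimage_par {s : SL F} (hs : s ∈ parSet F) :
    (univ.filter fun x : SL F => x⁻¹ * s * x ∈ parSet F).card =
      Fintype.card F * (Fintype.card F - 1) := by
  classical
  obtain ⟨e, b, he, hb, rfl⟩ := mem_parSet.1 hs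
  have heinv : e⁻¹ = e := inv_eq_of_mul_eq_one_left he
  have hset : (univ.filter fun x : SL F => x⁻¹ * bor e b * x ∈ parSet F) =
      (univ : Finset (Fˣ × F)).image fun p => bor p.1 p.2 := by
    ext x
    simp only [Finset.mem_filter, Finset.mem_univ, true_and, Finset.mem_image, Prod.exists]
    constructor
    · intro hx
      obtain ⟨e', b', he', hb', hx⟩ := mem_parSet.1 hx
      have heq : bor e b * x = x * bor e' b' := by rw [hx]; group
      have h10 := congrFun (congrFun (congrArg mt heq) 1) 0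
      have h00 := congrFun (congrFun (congrArg mt heq) 0) 0
      have he2 : ((e⁻¹ : Fˣ) : F) = e := by rw [heinv]
      simp only [mt_mul, mt_bor, Matrix.mul_apply, Fin.sum_univ_two, Matrix.of_apply,
        Matrix.cons_val', Matrix.cons_val_zero, Matrix.cons_val_one, Matrix.cons_val_fin_one,
        he2] at h10 h00
      have hx10 : mt x 1 0 = 0 := by
        by_contra hne
        have hee : (e : F) = e' := mul_right_cancel₀ hne (by linear_combination h10)
        exact hb ((mul_eq_zero.1 (show b * mt x 1 0 = 0 by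
          linear_combination h00 - mt x 0 0 * hee)).resolve_right hne)
      obtain ⟨a, c, rfl⟩ := exists_bor_of_apply hx10
      exact ⟨a, c, rfl⟩
    · rintro ⟨a, c, rfl⟩
      refine mem_parSet.2 ⟨e, ((a⁻¹ : Fˣ) : F) * ((a⁻¹ : Fˣ) : F) * b, he,
        mul_ne_zero (mul_ne_zero (Units.ne_zero _) (Units.ne_zero _)) hb, ?_⟩
      rw [show (bor a c)⁻¹ * bor e b * bor a c = (bor a c)⁻¹ * (bor e b * bor a c) from
        mul_assoc _ _ _, eq_inv_mul_iff_mul_eq]
      apply mt_injective
      rw [mt_mul, mt_mul]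
      ext i j
      fin_cases i <;> fin_cases j <;>
        simp [bor, Matrix.mul_apply, Fin.sum_univ_two] <;> field_simp
      · have h3 : (e : F) * e = 1 := by rw [← Units.val_mul, he, Units.val_one]
        linear_combination -(c * a) * h3
  rw [hset, Finset.card_image_of_injective, Finset.card_univ, Fintype.card_prod, Fintype.card_units,
    mul_comm]
  intro p q h
  obtain ⟨h1, h2⟩ := bor_inj h
  exact Prod.ext h1 h2

theorem card_preimage_tor {c s : SL F} (hc : Ell c) (hs : s ∈ torReg c) :
    (univ.filter fun x : SL F => x⁻¹ * s * x ∈ torReg c).card = 2 * (Fintype.card F + 1) := by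
  classical
  have hse := ell_of_mem_torReg hc hs
  have hst := tor_eq_of_mem hc hs
  obtain ⟨w, hw⟩ := exists_inverting hse
  have hset : (univ.filter fun x : SL F => x⁻¹ * s * x ∈ torReg c) =
      (univ.filter fun x => x ∈ tor c) ∪ (univ.filter fun x => x ∈ tor c).image (· * w) := by
    ext x
    simp only [Finset.mem_filter, Finset.mem_univ, true_and, Finset.mem_union, Finset.mem_image]
    constructor
    · intro hx
      obtain ⟨hxt, -⟩ := mem_torReg.1 hx
      rw [← hst, Subgroup.mem_centralizer_singleton_iff] at hxt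
      have htr : (mt (x⁻¹ * s * x)).trace = (mt s).trace :=
        trace_eq_of_isConj (isConj_iff.2 ⟨x, by group⟩)
      rcases eq_or_eq_inv_of_commute hse hxt.symm htr with h | h
      · refine Or.inl (hst ▸ Subgroup.mem_centralizer_singleton_iff.2 ?_)
        calc x * s = x * (x⁻¹ * s * x) := by rw [h]
          _ = _ := by group
      · refine Or.inr ⟨x * w⁻¹, hst ▸ Subgroup.mem_centralizer_singleton_iff.2 ?_, by group⟩
        calc x * w⁻¹ * s = x * (w⁻¹ * s * w) * w⁻¹ := by group
          _ = x * (x⁻¹ * s * x) * w⁻¹ := by rw [hw, h]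
          _ = _ := by group
    · intro hx
      have hfix : ∀ x ∈ tor c, x⁻¹ * s * x = s := fun x hx => by
        rw [← hst, Subgroup.mem_centralizer_singleton_iff] at hx
        rw [mul_assoc, ← hx, inv_mul_cancel_left]
      rcases hx with hx | ⟨y, hy, rfl⟩
      · rwa [hfix x hx]
      · rw [show (y * w)⁻¹ * s * (y * w) = w⁻¹ * (y⁻¹ * s * y) * w by group, hfix y hy, hw]
        exact mem_torReg.2 ⟨inv_mem (mem_torReg.1 hs).1,
          fun h => (mem_torReg.1 hs).2 (inv_mem_iff.1 h)⟩
  have hct : (univ.filter fun x => x ∈ tor c).card = Fintype.card F + 1 := by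
    rw [← card_tor hc, Nat.card_eq_fintype_card, Fintype.card_subtype]
  rw [hset, Finset.card_union_of_disjoint, Finset.card_image_of_injective _ (mul_left_injective w),
    hct, two_mul]
  rw [Finset.disjoint_left]
  intro x hx hx'
  simp only [Finset.mem_image, Finset.mem_filter, Finset.mem_univ, true_and] at hx hx'
  obtain ⟨y, hy, rfl⟩ := hx'
  have hwt : w ∈ tor c := by
    simpa using mul_mem (inv_mem hy) hx
  rw [← hst, Subgroup.mem_centralizer_singleton_iff] at hwt
  exact hse.inv_ne_self (by rw [← hw, mul_assoc, ← hwt, inv_mul_cancel_left])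

end Preimages

end CfsgLib.SL2C
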