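import Cfsg.Agent.SL2C.SumFormula

/-!
SL₂ over a finite field: every elliptic element lies in a conjugate of a given nonsplit torus, and
the sum of a class function over the group, type by type.
-/

set_option autoImplicit false

namespace CfsgLib.SL2C

open Matrix Finset
open scoped Classical

variable {F : Type*} [Field F] [Fintype F]

/-- The central elements. -/
noncomputable def cenFin (F : Type*) [Field F] [Fintype F] : Finset (SL F) :=
  univ.filter fun g => g ∈ Subgroup.center (SL F)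

/-- The split elements. -/
noncomputable def splFin (F : Type*) [Field F] [Fintype F] : Finset (SL F) :=
  univ.filter fun g => ∃ s ∈ (reg F).image dg, IsConj s g

/-- The parabolic elements. -/
noncomputable def parFin (F : Type*) [Field F] [Fintype F] : Finset (SL F) :=
  univ.filter fun g => ∃ s ∈ parSet F, IsConj s g

/-- The conjugates of non-central elements of the torus at `c`. -/
noncomputable def ellFin (c : SL F) : Finset (SL F) :=
  univ.filter fun g => ∃ s ∈ torReg c, IsConj s g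

theorem cast_card_sgn_add_reg :
    ((sgn F).card : ℂ) + (reg F).card = (Fintype.card F : ℂ) - 1 := by
  rw [← Nat.cast_add, card_sgn_add_card_reg, Nat.cast_sub Fintype.card_pos, Nat.cast_one]

theorem cast_card_SL2 :
    (Fintype.card (SL F) : ℂ) = (Fintype.card F : ℂ) * ((Fintype.card F : ℂ) ^ 2 - 1) := by
  rw [← Nat.card_eq_fintype_card, card_SL2_mul, Nat.cast_mul,
    Nat.cast_sub (Nat.one_le_pow _ _ Fintype.card_pos), Nat.cast_pow, Nat.cast_one]

theorem card_parSet : (parSet F).card = (sgn F).card * (Fintype.card F - 1) := by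
  classical
  rw [parSet, Finset.card_image_of_injective]
  · rw [Finset.card_product, Finset.filter_ne', Finset.card_erase_of_mem (Finset.mem_univ _),
      Finset.card_univ]
  · intro p q h
    obtain ⟨h1, h2⟩ := bor_inj h
    exact Prod.ext h1 h2

theorem sum_splFin {f : SL F → ℂ} (hf : ∀ g h, f (h * g * h⁻¹) = f g) :
    (2 * ((Fintype.card F : ℂ) - 1)) * ∑ g ∈ splFin F, f g =
      (Fintype.card (SL F) : ℂ) * ∑ a ∈ reg F, f (dg a) := by
  classical
  have h := sum_conj_invariant ((reg F).image dg) (2 * (Fintype.card F - 1))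
    (fun s hs => by
      obtain ⟨a, ha, rfl⟩ := Finset.mem_image.1 hs
      exact card_preimage_split ha)
    f hf (splFin F) (fun g => by simp [splFin])
  rw [Nat.cast_mul, Nat.cast_sub Fintype.card_pos, Nat.cast_ofNat, Nat.cast_one,
    Finset.sum_image fun a _ b _ (h : dg a = dg b) => (bor_inj h).1] at h
  exact h

theorem sum_parFin {f : SL F → ℂ} (hf : ∀ g h, f (h * g * h⁻¹) = f g) :
    ((Fintype.card F : ℂ) * ((Fintype.card F : ℂ) - 1)) * ∑ g ∈ parFin F, f g =
      (Fintype.card (SL F) : ℂ) *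
        ∑ e ∈ sgn F, ∑ b ∈ univ.filter (fun b : F => b ≠ 0), f (bor e b) := by
  classical
  have h := sum_conj_invariant (parSet F) (Fintype.card F * (Fintype.card F - 1))
    (fun s hs => card_preimage_par hs) f hf (parFin F) (fun g => by simp [parFin])
  rw [Nat.cast_mul, Nat.cast_sub Fintype.card_pos, Nat.cast_one, parSet,
    Finset.sum_image fun p _ q _ h => Prod.ext (bor_inj h).1 (bor_inj h).2,
    Finset.sum_product] at h
  simpa using h

theorem sum_ellFin {c : SL F} (hc : Ell c) {f : SL F → ℂ} (hf : ∀ g h, f (h * g * h⁻¹) = f g) :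
    (2 * ((Fintype.card F : ℂ) + 1)) * ∑ g ∈ ellFin c, f g =
      (Fintype.card (SL F) : ℂ) * ∑ y ∈ torReg c, f y := by
  classical
  have h := sum_conj_invariant (torReg c) (2 * (Fintype.card F + 1))
    (fun s hs => card_preimage_tor hc hs) f hf (ellFin c) (fun g => by simp [ellFin])
  push_cast at h
  exact h

theorem not_ell_of_mem_center {g : SL F} (h : g ∈ Subgroup.center (SL F)) : ¬ Ell g :=
  fun e => e.not_mem_center h

theorem mem_splFin {g : SL F} : g ∈ splFin F ↔ ∃ a, a * a ≠ 1 ∧ IsConj (dg a) g := by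
  simp [splFin, mem_reg]

theorem mem_parFin {g : SL F} :
    g ∈ parFin F ↔ ∃ (e : Fˣ) (b : F), e * e = 1 ∧ b ≠ 0 ∧ IsConj (bor e b) g := by
  simp [parFin, mem_parSet]

theorem cover (c : SL F) (hc : Ell c) :
    Disjoint (cenFin F) (splFin F) ∧ Disjoint (cenFin F ∪ splFin F) (parFin F) ∧
      Disjoint (cenFin F ∪ splFin F ∪ parFin F) (ellFin c) ∧
      cenFin F ∪ splFin F ∪ parFin F ∪ ellFin c = univ := by
  classical
  have d1 : Disjoint (cenFin F) (splFin F) := by
    rw [Finset.disjoint_left]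
    intro g hg hg'
    obtain ⟨a, ha, h⟩ := mem_splFin.1 hg'
    exact ha (bor_mem_center_iff.1
      (mem_center_of_isConj (Finset.mem_filter.1 hg).2 h.symm : bor a 0 ∈ _)).1
  have d2 : Disjoint (cenFin F ∪ splFin F) (parFin F) := by
    rw [Finset.disjoint_left]
    intro g hg hg'
    obtain ⟨e, b, he, hb, h⟩ := mem_parFin.1 hg'
    rcases Finset.mem_union.1 hg with hg | hg
    · exact hb (bor_mem_center_iff.1
        (mem_center_of_isConj (Finset.mem_filter.1 hg).2 h.symm)).2
    · obtain ⟨a, ha, h2⟩ := mem_splFin.1 hg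
      exact not_isConj_dg_bor ha he b (h2.trans h.symm)
  have hsub : ∀ g ∈ ellFin c, Ell g := by
    intro g hg
    obtain ⟨s, hs, h⟩ := (Finset.mem_filter.1 hg).2
    exact (ell_of_mem_torReg hc hs).of_isConj h
  have hnot : ∀ g ∈ cenFin F ∪ splFin F ∪ parFin F, ¬ Ell g := by
    intro g hg
    simp only [Finset.mem_union] at hg
    rcases hg with (hg | hg) | hg
    · exact not_ell_of_mem_center (Finset.mem_filter.1 hg).2
    · obtain ⟨a, -, h⟩ := mem_splFin.1 hg
      exact fun e => not_ell_bor a 0 (e.of_isConj h.symm)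
    · obtain ⟨a, b, -, -, h⟩ := mem_parFin.1 hg
      exact fun e => not_ell_bor a b (e.of_isConj h.symm)
  have d3 : Disjoint (cenFin F ∪ splFin F ∪ parFin F) (ellFin c) := by
    rw [Finset.disjoint_left]
    exact fun g hg hg' => hnot g hg (hsub g hg')
  refine ⟨d1, d2, d3, Finset.eq_univ_of_card _ ?_⟩
  rw [Finset.card_union_of_disjoint d3, Finset.card_union_of_disjoint d2,
    Finset.card_union_of_disjoint d1]
  apply Nat.cast_injective (R := ℂ)
  push_cast
  have hf : ∀ g h : SL F, (fun _ : SL F => (1 : ℂ)) (h * g * h⁻¹) = (fun _ => 1) g :=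
    fun _ _ => rfl
  have e1 := sum_splFin (F := F) (f := fun _ => (1 : ℂ)) hf
  have e2 := sum_parFin (F := F) (f := fun _ => (1 : ℂ)) hf
  have e3 := sum_ellFin hc (f := fun _ => (1 : ℂ)) hf
  simp only [Finset.sum_const, nsmul_eq_mul, mul_one, Finset.filter_ne',
    Finset.card_erase_of_mem (Finset.mem_univ _), Finset.card_univ,
    Nat.cast_sub (Fintype.card_pos (α := F)), Nat.cast_one] at e1 e2 e3
  have hcen : ((cenFin F).card : ℂ) = (sgn F).card := by
    rw [← natCard_center, Nat.card_eq_fintype_card, Fintype.card_subtype]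
    rfl
  have ht : ((torReg c).card : ℂ) + (sgn F).card = (Fintype.card F : ℂ) + 1 := by
    exact_mod_cast card_torReg hc
  have hr := cast_card_sgn_add_reg (F := F)
  have hG := cast_card_SL2 (F := F)
  have hq1 : (Fintype.card F : ℂ) - 1 ≠ 0 := by
    rw [sub_ne_zero]; exact_mod_cast (Fintype.one_lt_card (α := F)).ne'
  have hq2 : (Fintype.card F : ℂ) + 1 ≠ 0 := Nat.cast_add_one_ne_zero _
  have hq3 : (Fintype.card F : ℂ) ≠ 0 := by exact_mod_cast (Fintype.card_pos (α := F)).ne'
  set q : ℂ := (Fintype.card F : ℂ)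
  set z : ℂ := ((sgn F).card : ℂ)
  set G : ℂ := (Fintype.card (SL F) : ℂ)
  apply mul_left_cancel₀ (mul_ne_zero (mul_ne_zero (mul_ne_zero (two_ne_zero : (2 : ℂ) ≠ 0) hq3) hq1) hq2)
  linear_combination (2 * q * (q - 1) * (q + 1)) * hcen + (q * (q + 1)) * e1 +
    (2 * (q + 1)) * e2 + (q * (q - 1)) * e3 + q * (q + 1) * G * hr + q * (q - 1) * G * ht -
    2 * z * hG

/-- Every elliptic element is conjugate into any given nonsplit torus. -/
theorem Ell.exists_isConj_torReg {c g : SL F} (hc : Ell c) (hg : Ell g) :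
    ∃ s ∈ torReg c, IsConj s g := by
  classical
  have h := Finset.mem_univ g
  rw [← (cover c hc).2.2.2] at h
  simp only [Finset.mem_union] at h
  rcases h with ((h | h) | h) | h
  · exact absurd hg (not_ell_of_mem_center (Finset.mem_filter.1 h).2)
  · obtain ⟨a, -, h⟩ := mem_splFin.1 h
    exact absurd (hg.of_isConj h.symm) (not_ell_bor a 0)
  · obtain ⟨a, b, -, -, h⟩ := mem_parFin.1 h
    exact absurd (hg.of_isConj h.symm) (not_ell_bor a b)
  · exact (Finset.mem_filter.1 h).2

/-- The sum of a class function over SL₂, type by type. -/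
theorem sum_eq {c : SL F} (hc : Ell c) {f : SL F → ℂ} (hf : ∀ g h, f (h * g * h⁻¹) = f g) :
    ∑ g : SL F, f g =
      ∑ e ∈ sgn F, f (bor e 0) +
      (Fintype.card F : ℂ) * ((Fintype.card F : ℂ) + 1) / 2 * ∑ a ∈ reg F, f (dg a) +
      ((Fintype.card F : ℂ) + 1) *
        (∑ e ∈ sgn F, ∑ b ∈ univ.filter (fun b : F => b ≠ 0), f (bor e b)) +
      (Fintype.card F : ℂ) * ((Fintype.card F : ℂ) - 1) / 2 * ∑ y ∈ torReg c, f y := by
  classical
  obtain ⟨d1, d2, d3, hu⟩ := cover c hc
  rw [← hu, Finset.sum_union d3, Finset.sum_union d2, Finset.sum_union d1]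
  have e1 := sum_splFin hf
  have e2 := sum_parFin hf
  have e3 := sum_ellFin hc hf
  have hcen : cenFin F = (sgn F).image fun e => bor e 0 := by
    ext g
    simp only [cenFin, Finset.mem_filter, Finset.mem_univ, true_and, Finset.mem_image, mem_sgn]
    constructor
    · intro h
      obtain ⟨a, ha, rfl⟩ := exists_eq_bor_of_mem_center h
      exact ⟨a, ha, rfl⟩
    · rintro ⟨a, ha, rfl⟩
      exact bor_mem_center_iff.2 ⟨ha, rfl⟩
  rw [hcen, Finset.sum_image fun a _ b _ h => (bor_inj h).1]
  rw [cast_card_SL2] at e1 e2 e3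
  have hq1 : (Fintype.card F : ℂ) - 1 ≠ 0 := by
    rw [sub_ne_zero]; exact_mod_cast (Fintype.one_lt_card (α := F)).ne'
  have hq2 : (Fintype.card F : ℂ) + 1 ≠ 0 := Nat.cast_add_one_ne_zero _
  have hq3 : (Fintype.card F : ℂ) ≠ 0 := by exact_mod_cast (Fintype.card_pos (α := F)).ne'
  set q : ℂ := (Fintype.card F : ℂ)
  set A := ∑ g ∈ splFin F, f g
  set B := ∑ g ∈ parFin F, f g
  set D := ∑ g ∈ ellFin c, f g
  set SA := ∑ a ∈ reg F, f (dg a)
  set SB := ∑ e ∈ sgn F, ∑ b ∈ univ.filter (fun b : F => b ≠ 0), f (bor e b)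
  set SD := ∑ y ∈ torReg c, f y
  apply mul_left_cancel₀ (mul_ne_zero (mul_ne_zero (mul_ne_zero (two_ne_zero : (2 : ℂ) ≠ 0) hq3) hq1) hq2)
  linear_combination (q * (q + 1)) * e1 + (2 * (q + 1)) * e2 + (q * (q - 1)) * e3

/-- Every element is central, split, parabolic or elliptic (with the torus fixed). -/
theorem cases4' {c : SL F} (hc : Ell c) (g : SL F) :
    (∃ e : Fˣ, e * e = 1 ∧ g = bor e 0) ∨ (∃ a : Fˣ, a * a ≠ 1 ∧ IsConj (dg a) g) ∨
      (∃ (e : Fˣ) (b : F), e * e = 1 ∧ b ≠ 0 ∧ IsConj (bor e b) g) ∨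
      ∃ s ∈ torReg c, IsConj s g := by
  rcases cases4 g with h | h | h | h
  · exact Or.inl (exists_eq_bor_of_mem_center h)
  · exact Or.inr (Or.inl h)
  · exact Or.inr (Or.inr (Or.inl h))
  · exact Or.inr (Or.inr (Or.inr (hc.exists_isConj_torReg h)))

end CfsgLib.SL2C
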