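import Cfsg.Agent.SL2C.SylowTwo
import Cfsg.Agent.Char.DegreeRatio
import Cfsg.Prelude.Def_Blocks

/-!
Counting characters of degree prime to `ℓ` for SL₂ and its Sylow normalisers.
-/

set_option autoImplicit false
set_option linter.unusedSectionVars false
set_option linter.style.haveILetI false

namespace CfsgLib.SL2C

open Matrix Finset
open scoped Classical commutatorElement
open CfsgLib.Char (irrFinset mem_irrFinset)

universe u

/-- The number of irreducible characters of degree prime to `ℓ`. -/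
noncomputable def countP (ℓ : ℕ) (G : Type u) [Group G] : ℕ :=
  Nat.card {χ : Cfsg.IrrCharacter G // ¬ ℓ ∣ Cfsg.charDegree (χ : G → ℂ)}

theorem charDegree_of_eq {G : Type u} [Group G] {χ : G → ℂ} {n : ℕ} (h : χ 1 = n) :
    Cfsg.charDegree χ = n := by
  rw [Cfsg.charDegree, h, Complex.natCast_re, Nat.floor_natCast]

theorem charDegree_cast {G : Type u} [Group G] {χ : G → ℂ} (h : Cfsg.IsIrrCharacter G χ) :
    χ 1 = (Cfsg.charDegree χ : ℂ) ∧ 0 < Cfsg.charDegree χ := by
  obtain ⟨n, hn⟩ := CfsgLib.Char.IsCharacter.exists_degree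
    (CfsgLib.Char.IsIrrCharacter.isCharacter h)
  rw [charDegree_of_eq hn]
  exact ⟨hn, Nat.pos_of_ne_zero fun h0 => CfsgLib.Char.IsIrrCharacter.apply_one_ne_zero h
    (by rw [hn, h0, Nat.cast_zero])⟩

theorem charDegree_dvd_index {G : Type u} [Group G] [Finite G] {χ : G → ℂ}
    (h : Cfsg.IsIrrCharacter G χ) (A : Subgroup G) [A.Normal]
    (hA : ∀ a ∈ A, ∀ b ∈ A, a * b = b * a) : Cfsg.charDegree χ ∣ A.index := by
  obtain ⟨n, ρ, hρ, rfl⟩ := h
  haveI := hρ
  rw [charDegree_of_eq (n := n) (by rw [ρ.char_one, Module.finrank_fin_fun])]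
  simpa using CfsgLib.Char.finrank_dvd_index_of_abelian ρ A hA

theorem countP_eq_classes {G : Type u} [Group G] [Finite G] {ℓ : ℕ}
    (h : ∀ χ, Cfsg.IsIrrCharacter G χ → ¬ ℓ ∣ Cfsg.charDegree χ) :
    countP ℓ G = Nat.card (ConjClasses G) := by
  rw [countP, ← CfsgLib.Char.card_irr_eq_card_conjClasses]
  exact Nat.card_congr (Equiv.subtypeUnivEquiv fun χ => h χ.1 χ.2)

theorem countP_congr {G H : Type u} [Group G] [Group H] (ℓ : ℕ) (e : G ≃* H) :
    countP ℓ G = countP ℓ H := by
  refine Nat.card_congr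
    { toFun := fun χ => ⟨⟨fun g => χ.1.1 (e.symm g),
        CfsgLib.Char.IsIrrCharacter.comp_surjective χ.1.2 e.symm.toMonoidHom e.symm.surjective⟩, ?_⟩
      invFun := fun ψ => ⟨⟨fun g => ψ.1.1 (e g),
        CfsgLib.Char.IsIrrCharacter.comp_surjective ψ.1.2 e.toMonoidHom e.surjective⟩, ?_⟩
      left_inv := fun χ => Subtype.ext (Subtype.ext (funext fun g => by simp))
      right_inv := fun ψ => Subtype.ext (Subtype.ext (funext fun g => by simp)) }
  · simpa [Cfsg.charDegree] using χ.2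
  · simpa [Cfsg.charDegree] using ψ.2

theorem countP_two_of_pGroup {G : Type u} [Group G] [Finite G] (hG : IsPGroup 2 G) :
    countP 2 G = (commutator G).index := by
  rw [← CfsgLib.Char.card_linear]
  refine Nat.card_congr (Equiv.subtypeEquivRight fun χ => ?_)
  obtain ⟨hd, -⟩ := charDegree_cast χ.2
  rw [hd]
  constructor
  · intro h
    obtain ⟨k, hk⟩ := hG.exists_card_eq
    have hdvd := CfsgLib.Char.IsIrrCharacter.degree_dvd_card χ.2 hd
    rw [hk] at hdvd
    obtain ⟨j, -, hj⟩ := (Nat.dvd_prime_pow Nat.prime_two).1 hdvd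
    rcases j with _ | j
    · rw [hj]; simp
    · exact absurd (hj ▸ dvd_pow_self 2 (Nat.succ_ne_zero j)) h
  · intro h
    have : Cfsg.charDegree χ.1 = 1 := by exact_mod_cast h
    rw [this]
    norm_num

theorem countP_two_of_card_24 {G : Type u} [Group G] [Finite G] (hG : Nat.card G = 24)
    (hc : (commutator G).index = 3) : countP 2 G = 4 := by
  haveI := Fintype.ofFinite G
  set d : (G → ℂ) → ℕ := Cfsg.charDegree with hdd
  have hsum : ∑ χ ∈ irrFinset G, d χ ^ 2 = 24 := by
    have h := CfsgLib.Char.sum_degree_sq (G := G)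
    rw [hG, Finset.sum_congr rfl fun χ hχ => by rw [(charDegree_cast (mem_irrFinset.1 hχ)).1]] at h
    exact_mod_cast h
  have hlin : ((irrFinset G).filter fun χ => d χ = 1).card = 3 := by
    rw [← hc, ← CfsgLib.Char.card_linear, natCard_irr_subtype (fun χ => χ 1 = 1)]
    refine congrArg Finset.card (Finset.filter_congr fun χ hχ => ?_)
    rw [(charDegree_cast (mem_irrFinset.1 hχ)).1, hdd, Nat.cast_eq_one]
  have hodd : ∀ χ ∈ irrFinset G, ¬ 2 ∣ d χ → d χ = 1 ∨ d χ = 3 := by
    intro χ hχ h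
    have hdvd := CfsgLib.Char.IsIrrCharacter.degree_dvd_card (mem_irrFinset.1 hχ)
      (charDegree_cast (mem_irrFinset.1 hχ)).1
    rw [hG] at hdvd
    have hle := Nat.le_of_dvd (by norm_num) hdvd
    interval_cases hd : Cfsg.charDegree χ <;> simp_all
  set O := (irrFinset G).filter fun χ => ¬ 2 ∣ d χ with hO
  have hsplit := Finset.sum_filter_add_sum_filter_not (irrFinset G) (fun χ => ¬ 2 ∣ d χ)
    (fun χ => d χ ^ 2)
  rw [hsum] at hsplit
  obtain ⟨K, hK⟩ : 4 ∣ ∑ χ ∈ (irrFinset G).filter (fun χ => ¬¬ 2 ∣ d χ), d χ ^ 2 := by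
    refine Finset.dvd_sum fun χ hχ => ?_
    obtain ⟨k, hk⟩ := not_not.1 (Finset.mem_filter.1 hχ).2
    exact ⟨k ^ 2, by rw [hk]; ring⟩
  have hO' : ∑ χ ∈ O, d χ ^ 2 = (O.filter fun χ => d χ = 1).card +
      9 * (O.filter fun χ => ¬ d χ = 1).card := by
    have e1 : ∑ χ ∈ O.filter (fun χ => d χ = 1), d χ ^ 2 = (O.filter fun χ => d χ = 1).card := by
      rw [Finset.sum_congr rfl fun χ hχ => show d χ ^ 2 = 1 by
        rw [(Finset.mem_filter.1 hχ).2, one_pow], Finset.card_eq_sum_ones]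
    have e9 : ∑ χ ∈ O.filter (fun χ => ¬ d χ = 1), d χ ^ 2 =
        9 * (O.filter fun χ => ¬ d χ = 1).card := by
      rw [Finset.sum_congr rfl fun χ hχ => show d χ ^ 2 = 9 by
        obtain ⟨hχO, hχ1⟩ := Finset.mem_filter.1 hχ
        obtain ⟨hχi, hχodd⟩ := Finset.mem_filter.1 hχO
        rw [(hodd χ hχi hχodd).resolve_left hχ1]; norm_num,
        Finset.sum_const, smul_eq_mul, mul_comm]
    rw [← Finset.sum_filter_add_sum_filter_not O (fun χ => d χ = 1), e1, e9]
  have h1 : (O.filter fun χ => d χ = 1).card = 3 := by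
    rw [← hlin]
    refine congrArg Finset.card ?_
    ext χ
    simp only [hO, Finset.mem_filter]
    exact ⟨fun h => ⟨h.1.1, h.2⟩, fun h => ⟨⟨h.1, by rw [h.2]; norm_num⟩, h.2⟩⟩
  have hcard := Finset.card_filter_add_card_filter_not (s := O) (fun χ => d χ = 1)
  rw [countP, natCard_irr_subtype (fun χ => ¬ 2 ∣ Cfsg.charDegree χ)]
  suffices hOcard : O.card = 4 by
    refine Eq.trans (congrArg Finset.card ?_) hOcard
    ext χ; simp [hO, hdd]
  rw [← hO, hO', hK] at hsplit
  omega

variable {F : Type*} [Field F] [Fintype F]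

theorem countP_SL (hodd : Odd (Fintype.card F)) (ℓ : ℕ) :
    2 * countP ℓ (SL F) =
      2 * (if ℓ ∣ 1 then 0 else 1) + 2 * (if ℓ ∣ Fintype.card F then 0 else 1) +
      (Fintype.card F - 3) * (if ℓ ∣ Fintype.card F + 1 then 0 else 1) +
      (Fintype.card F - 1) * (if ℓ ∣ Fintype.card F - 1 then 0 else 1) +
      4 * (if ℓ ∣ (Fintype.card F + 1) / 2 then 0 else 1) +
      4 * (if ℓ ∣ (Fintype.card F - 1) / 2 then 0 else 1) := by
  classical
  obtain ⟨c, hc⟩ := exists_ell (F := F)
  obtain ⟨η, θ, x₁, x₂, y₁, y₂, h⟩ := exists_halves hc hodd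
  set q := Fintype.card F with hq
  have hq3 := three_le_card hodd
  have hA : (AR F).card = q - 3 := by
    have h1 := card_sq_one h.η_ne h.η_sq h.η_all
    have h2 : Fintype.card (Fˣ →* ℂˣ) + 1 = q := card_dual_units
    rw [AR]; omega
  have hB : (AT c).card = q - 1 := by
    have h1 := card_sq_one h.θ_ne h.θ_sq h.θ_all
    have h2 := card_dual_tor hc
    rw [AT]; omega
  apply Nat.cast_injective (R := ℂ)
  push_cast
  rw [countP, cast_natCard_irr_subtype (fun χ => ¬ ℓ ∣ Cfsg.charDegree χ), h.sum_irr hc]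
  have e0 : Cfsg.charDegree (fun _ : SL F => (1 : ℂ)) = 1 := charDegree_of_eq (by simp)
  have e1 : Cfsg.charDegree (St : SL F → ℂ) = q := charDegree_of_eq (St_apply_one hc)
  have e2 : ∀ α, Cfsg.charDegree (R α : SL F → ℂ) = q + 1 := fun α =>
    charDegree_of_eq (by rw [R_apply_one hc]; push_cast; rfl)
  have e3 : ∀ φ : tor c →* ℂˣ, Cfsg.charDegree (Pi' φ) = q - 1 := fun φ =>
    charDegree_of_eq (by rw [Pi'_apply_one hc, Nat.cast_sub (by omega), Nat.cast_one])
  have e4 : Cfsg.charDegree x₁ = (q + 1) / 2 ∧ Cfsg.charDegree x₂ = (q + 1) / 2 :=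
    ⟨charDegree_of_eq (h.x₁_one.trans (natCast_half_add hodd).symm),
      charDegree_of_eq (h.x₂_one.trans (natCast_half_add hodd).symm)⟩
  have e5 : Cfsg.charDegree y₁ = (q - 1) / 2 ∧ Cfsg.charDegree y₂ = (q - 1) / 2 :=
    ⟨charDegree_of_eq (h.y₁_one.trans (natCast_half_sub hodd).symm),
      charDegree_of_eq (h.y₂_one.trans (natCast_half_sub hodd).symm)⟩
  simp only [e0, e1, e2, e3, e4.1, e4.2, e5.1, e5.2, Finset.sum_const, nsmul_eq_mul, hA, hB,
    ite_not, Nat.cast_ite, Nat.cast_zero, Nat.cast_one]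
  ring

/-- The unipotent upper triangular subgroup. -/
noncomputable def unip (F : Type*) [Field F] [Fintype F] : Subgroup (SL F) where
  carrier := Set.range fun b : F => bor 1 b
  one_mem' := ⟨0, bor_one_zero⟩
  mul_mem' := by
    rintro _ _ ⟨a, rfl⟩ ⟨b, rfl⟩
    exact ⟨b + a, by rw [bor_mul, one_mul, inv_one, Units.val_one, one_mul, mul_one]⟩
  inv_mem' := by
    rintro _ ⟨a, rfl⟩
    refine ⟨-a, (inv_eq_of_mul_eq_one_left ?_).symm⟩
    rw [bor_mul, one_mul, inv_one, Units.val_one, one_mul, mul_one, ← bor_one_zero]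
    congr 1
    ring

theorem card_unip : Nat.card (unip F) = Fintype.card F := by
  rw [← Nat.card_eq_fintype_card]
  refine (Nat.card_eq_of_bijective (fun b : F => (⟨bor 1 b, b, rfl⟩ : unip F))
    ⟨fun a b h => (bor_inj (congrArg Subtype.val h)).2, fun x => ?_⟩).symm
  obtain ⟨b, hb⟩ := x.2
  exact ⟨b, Subtype.ext hb⟩

theorem unip_comm {a b : SL F} (ha : a ∈ unip F) (hb : b ∈ unip F) : a * b = b * a := by
  obtain ⟨x, rfl⟩ := ha
  obtain ⟨y, rfl⟩ := hb
  rw [bor_mul, bor_mul]
  congr 1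
  simp [add_comm]

theorem normalizer_unip : Subgroup.normalizer (unip F : Set (SL F)) = B F := by
  have hB : ∀ g ∈ B F, ∀ x ∈ unip F, g * x * g⁻¹ ∈ unip F := by
    rintro g hg x ⟨b, rfl⟩
    obtain ⟨a, d, rfl⟩ := exists_bor_of_apply (mem_B.1 hg)
    refine ⟨(a : F) * a * b, ?_⟩
    show bor 1 ((a : F) * a * b) = _
    rw [eq_mul_inv_iff_mul_eq, bor_mul, bor_mul, one_mul, mul_one]
    congr 1
    simp
    field_simp
    ring
  refine le_antisymm (fun g hg => ?_) (fun g hg => ?_)
  · obtain ⟨b', hb'⟩ := (Subgroup.mem_normalizer_iff.1 hg _).1 (show bor 1 (1 : F) ∈ unip F from ⟨1, rfl⟩)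
    have hb0 : b' ≠ 0 := by
      intro e
      simp only [e, bor_one_zero] at hb'
      have h1 : bor (1 : Fˣ) (1 : F) = 1 := by
        calc bor (1 : Fˣ) (1 : F) = g⁻¹ * (g * bor 1 1 * g⁻¹) * g := by group
          _ = 1 := by rw [← hb']; group
      exact one_ne_zero (bor_inj (h1.trans bor_one_zero.symm)).2
    exact mem_B.2 (eq_of_conj_bor (one_mul 1) one_ne_zero (x := g) (b := 1) (b' := b')
      (by simp only at hb'; rw [hb', inv_mul_cancel_right]) hb0).1
  · rw [Subgroup.mem_normalizer_iff]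
    refine fun x => ⟨hB g hg x, fun hx => ?_⟩
    have h2 := hB g⁻¹ (inv_mem hg) _ hx
    simpa [mul_assoc] using h2

namespace TwoShape

variable {S T : Subgroup (SL F)} {y w : SL F}

theorem index_commutator (h : TwoShape S T y w) (hodd : Odd (Fintype.card F)) :
    (commutator S).index = 4 := by
  set Y : S := ⟨y, h.yS⟩ with hY
  set W : S := ⟨w, h.wS⟩ with hW
  have hmem : ∀ {a : S}, (a : SL F) ∈ T → a * a ∈ Subgroup.zpowers (Y ^ 2) := by
    intro a ha
    obtain ⟨i, hi⟩ := Subgroup.mem_zpowers_iff.1 (h.gen a a.2 ha)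
    refine Subgroup.mem_zpowers_iff.2 ⟨i, Subtype.ext ?_⟩
    simp only [hY, SubgroupClass.coe_zpow, SubgroupClass.coe_pow, Subgroup.coe_mul]
    rw [← zpow_natCast y 2, ← _root_.zpow_mul, mul_comm, _root_.zpow_mul, zpow_natCast, hi, pow_two]
  have hinv : ∀ {a b : S}, (a : SL F) ∈ T → (b : SL F) ∉ T → b * a * b⁻¹ = a⁻¹ := fun ha hb =>
    Subtype.ext (h.hinv (h.SN (Subtype.prop _)) hb _ ha)
  have hcomm : commutator S = Subgroup.zpowers (Y ^ 2) := by
    refine le_antisymm ?_ ?_
    · rw [commutator_def, Subgroup.commutator_le]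
      intro a _ b _
      rw [commutatorElement_def]
      by_cases ha : (a : SL F) ∈ T <;> by_cases hb : (b : SL F) ∈ T
      · have : a * b = b * a := Subtype.ext (h.torus.comm ha hb)
        rw [this, mul_assoc (b * a), ← _root_.mul_inv_rev, mul_inv_cancel]
        exact one_mem _
      · rw [show a * b * a⁻¹ * b⁻¹ = a * (b * a⁻¹ * b⁻¹) by group,
          hinv (by simpa using ha) hb, inv_inv]
        exact hmem ha
      · rw [hinv hb ha, ← _root_.mul_inv_rev]
        exact inv_mem (hmem hb)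
      · have ht : ((a⁻¹ * b : S) : SL F) ∈ T := by
          rw [Subgroup.coe_mul, Subgroup.coe_inv]
          exact Subgroup.mem_subgroupOf.1
            (mem_of_not_mem_mul (h.torus.index_eq_two hodd) (x := ⟨a, h.SN a.2⟩) (y := ⟨b, h.SN b.2⟩)
              (fun e => ha (Subgroup.mem_subgroupOf.1 e)) fun e => hb (Subgroup.mem_subgroupOf.1 e))
        set t := a⁻¹ * b with htdef
        rw [show a * b * a⁻¹ * b⁻¹ = a * (a * t * a⁻¹) * t⁻¹ * a⁻¹ by rw [htdef]; group,
          hinv ht ha, mul_assoc a, ← _root_.mul_inv_rev,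
          show a * (t * t)⁻¹ * a⁻¹ = (a * (t * t) * a⁻¹)⁻¹ by group,
          hinv (by simpa using mul_mem ht ht) ha, inv_inv]
        exact hmem ht
    · rw [Subgroup.zpowers_le, pow_two]
      have h1 : ⁅W, Y⁻¹⁆ = Y * Y := by
        rw [commutatorElement_def, hinv (a := Y⁻¹) (by simpa [hY] using h.yT) (by simpa [hW] using h.wT),
          inv_inv]
      rw [← h1, commutator_def]
      exact Subgroup.commutator_mem_commutator (Subgroup.mem_top _) (Subgroup.mem_top _)
  rw [hcomm]
  have h1 := (Subgroup.zpowers (Y ^ 2)).card_mul_index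
  have hg : Nat.gcd (orderOf y) 2 = 2 := Nat.gcd_eq_right ((dvd_mul_right 2 2).trans h.four)
  rw [Nat.card_zpowers, orderOf_pow, Subgroup.orderOf_mk, hg, h.card] at h1
  obtain ⟨k, hk⟩ := h.four
  rw [hk, show 4 * k / 2 = 2 * k by omega] at h1
  have hk0 : 0 < k := by
    have := orderOf_pos y
    omega
  exact Nat.eq_of_mul_eq_mul_left (show 0 < 2 * k by omega) (h1.trans (by ring))

theorem index_commutator_normalizer (h : TwoShape S T y w) (hp : IsPGroup 2 S)
    (hodd : Odd (Fintype.card F)) (h4 : orderOf y = 4) :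
    (commutator (Subgroup.normalizer (S : Set (SL F)))).index = 3 := by
  obtain ⟨ω, c1, c2, c3, c4, hωN, hcl⟩ := h.exists_omega hodd h4
  have hcard := h.card_normalizer_four hp hodd h4
  set N := Subgroup.normalizer (S : Set (SL F))
  have hSN : S ≤ N := Subgroup.le_normalizer
  have hidx : (S.subgroupOf N).index = 3 := by
    have h1 := (S.subgroupOf N).card_mul_index
    rw [Nat.card_congr (Subgroup.subgroupOfEquivOfLe hSN).toEquiv, hcard, mul_comm 3] at h1
    exact Nat.eq_of_mul_eq_mul_left Nat.card_pos h1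
  haveI : Fact (Nat.Prime 3) := ⟨Nat.prime_three⟩
  suffices hc : commutator N = S.subgroupOf N by rw [hc, hidx]
  haveI : (S.subgroupOf N).Normal := Subgroup.normal_in_normalizer
  refine le_antisymm ?_ ?_
  · rw [commutator_def, Subgroup.commutator_le]
    intro a _ b _
    rw [← QuotientGroup.eq_one_iff, commutatorElement_def, QuotientGroup.mk_mul,
      QuotientGroup.mk_mul, QuotientGroup.mk_mul, QuotientGroup.mk_inv, QuotientGroup.mk_inv]
    haveI : IsCyclic (N ⧸ S.subgroupOf N) :=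
      isCyclic_of_prime_card (p := 3) (by rw [← Subgroup.index_eq_card, hidx])
    rw [IsCyclic.commGroup.mul_comm (a : N ⧸ S.subgroupOf N) b]
    group
  · have hcomm : ∀ a ∈ N, ∀ b ∈ N, a * b * a⁻¹ * b⁻¹ ∈ (commutator N).map N.subtype := by
      intro a ha b hb
      exact ⟨⁅(⟨a, ha⟩ : N), ⟨b, hb⟩⁆,
        Subgroup.commutator_mem_commutator (Subgroup.mem_top _) (Subgroup.mem_top _),
        by simp [commutatorElement_def]⟩
    set K := (commutator N).map N.subtype
    have hK1 : y * w * y⁻¹ ∈ K := by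
      have h1 := hcomm ω hωN y (hSN h.yS)
      rwa [c3] at h1
    have hK2 : y * w⁻¹ ∈ K := by
      have h1 := hcomm ω hωN w (hSN h.wS)
      rwa [c1] at h1
    have hinvy := h.hinv h.wN h.wT y⁻¹ (inv_mem h.yT)
    rw [inv_inv, mul_inv_eq_iff_eq_mul] at hinvy
    have hyw : y * w * y⁻¹ = y * y * w := by rw [mul_assoc, hinvy, mul_assoc]
    have hy : y ∈ K := by
      have h1 := mul_mem (inv_mem hK2) hK1
      have h2 : (y * w⁻¹)⁻¹ * (y * w * y⁻¹) = w * y * w := by rw [hyw]; group
      rw [h2] at h1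
      have hwy := h.hinv h.wN h.wT y h.yT
      rw [mul_inv_eq_iff_eq_mul] at hwy
      rw [hwy, mul_assoc, h.sq_outer hodd h.wS h.wT] at h1
      have hyy : y * y = negOne F := by
        rcases center_cases (mem_center_of_mul_self hodd (g := y * y) (by
          rw [← pow_two, ← pow_two, ← pow_mul, show 2 * 2 = orderOf y by rw [h4],
            pow_orderOf_eq_one])) with e | e
        · exfalso
          have := orderOf_dvd_of_pow_eq_one (x := y) (n := 2) (by rw [pow_two, e])
          rw [h4] at this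
          norm_num at this
        · exact e
      rwa [← hyy, inv_mul_cancel_left] at h1
    have hw : w ∈ K := by simpa using mul_mem (inv_mem hK2) hy
    intro x hx
    have h1 : (x : SL F) ∈ K := by
      refine (Subgroup.closure_le _).2 ?_ (hcl _ (Subgroup.mem_subgroupOf.1 hx))
      intro z hz
      simp only [Set.mem_insert_iff, Set.mem_singleton_iff] at hz
      rcases hz with rfl | rfl <;> assumption
    obtain ⟨x', hx', he⟩ := h1
    rwa [← Subtype.ext he]

end TwoShape

end CfsgLib.SL2C
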