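import Cfsg.Agent.Char.Generalized

/-!
Generalised characters of norm two, degree bookkeeping and sums over two-to-one images.
-/

set_option autoImplicit false
set_option linter.unusedSectionVars false
set_option linter.style.haveILetI false

namespace CfsgLib.SL2C

open Finset
open scoped ComplexConjugate Classical
open CfsgLib.Char (irrFinset mem_irrFinset)

universe u

variable {G : Type u} [Group G] [Fintype G]

theorem exists_of_norm_two {φ : G → ℂ} (hφ : Cfsg.IsGeneralizedCharacter G φ)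
    (h2 : Cfsg.classInner φ φ = 2) :
    ∃ (x₁ x₂ : G → ℂ) (s₁ s₂ : ℤ), Cfsg.IsIrrCharacter G x₁ ∧ Cfsg.IsIrrCharacter G x₂ ∧
      x₁ ≠ x₂ ∧ (s₁ = 1 ∨ s₁ = -1) ∧ (s₂ = 1 ∨ s₂ = -1) ∧
      φ = (s₁ : ℂ) • x₁ + (s₂ : ℂ) • x₂ := by
  classical
  have hm : ∀ χ ∈ irrFinset G, ∃ n : ℤ, Cfsg.classInner φ χ = n := fun χ hχ =>
    CfsgLib.Char.IsGeneralized.exists_classInner_eq_int hφ
      (CfsgLib.Char.IsIrrCharacter.isGeneralized (mem_irrFinset.1 hχ))
  choose! n hn using hm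
  have hcf := CfsgLib.Char.IsGeneralized.isClassFunction hφ
  have hsum : ∑ χ ∈ irrFinset G, n χ * n χ = 2 := by
    have h1 := CfsgLib.Char.classInner_eq_sum_irr hcf φ
    rw [h2] at h1
    have h3 : (2 : ℂ) = ∑ χ ∈ irrFinset G, ((n χ * n χ : ℤ) : ℂ) := by
      rw [h1]
      exact Finset.sum_congr rfl fun χ hχ => by rw [hn χ hχ]; simp
    exact_mod_cast h3.symm
  set T := (irrFinset G).filter fun χ => n χ ≠ 0 with hT
  have hsumT : ∑ χ ∈ T, n χ * n χ = 2 := by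
    rw [← hsum, hT, Finset.sum_filter]
    exact Finset.sum_congr rfl fun χ _ => by by_cases h : n χ = 0 <;> simp [h]
  have h1T : ∀ χ ∈ T, 1 ≤ n χ * n χ := fun χ hχ => mul_self_pos.2 (Finset.mem_filter.1 hχ).2
  have hle : T.card ≤ 2 := by
    have := Finset.card_nsmul_le_sum T _ 1 h1T
    rw [hsumT, nsmul_one] at this
    exact_mod_cast this
  have hcard : T.card = 2 := by
    rcases Nat.lt_or_ge T.card 2 with h | h
    · exfalso
      rcases (show T.card = 0 ∨ T.card = 1 by omega) with h0 | h0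
      · rw [Finset.card_eq_zero.1 h0] at hsumT; simp at hsumT
      · obtain ⟨x, hx⟩ := Finset.card_eq_one.1 h0
        rw [hx, Finset.sum_singleton] at hsumT
        rcases (show n x ≤ -2 ∨ n x = -1 ∨ n x = 0 ∨ n x = 1 ∨ 2 ≤ n x by omega) with
          h | h | h | h | h <;> nlinarith
    · omega
  obtain ⟨x₁, x₂, hne, hTe⟩ := Finset.card_eq_two.1 hcard
  have hx₁ : x₁ ∈ T := by rw [hTe]; simp
  have hx₂ : x₂ ∈ T := by rw [hTe]; simp
  rw [hTe, Finset.sum_pair hne] at hsumT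
  have a1 := h1T x₁ hx₁
  have a2 := h1T x₂ hx₂
  refine ⟨x₁, x₂, n x₁, n x₂, mem_irrFinset.1 (Finset.mem_filter.1 hx₁).1,
    mem_irrFinset.1 (Finset.mem_filter.1 hx₂).1, hne, mul_self_eq_one_iff.1 (by omega),
    mul_self_eq_one_iff.1 (by omega), ?_⟩
  conv_lhs => rw [CfsgLib.Char.eq_sum_irr hcf]
  rw [← Finset.sum_subset (Finset.filter_subset (fun χ => n χ ≠ 0) _) (fun χ hχ hχ' => by
    have : n χ = 0 := by_contra fun h => hχ' (Finset.mem_filter.2 ⟨hχ, h⟩)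
    rw [hn χ hχ, this]; simp), ← hT, hTe, Finset.sum_pair hne,
    hn x₁ (Finset.mem_filter.1 hx₁).1, hn x₂ (Finset.mem_filter.1 hx₂).1]

/-- An irreducible character orthogonal to a sum or difference of two is neither of them. -/
theorem ne_of_classInner_eq_zero {φ x₁ x₂ χ : G → ℂ} {s₁ s₂ : ℤ}
    (h₁ : Cfsg.IsIrrCharacter G x₁) (h₂ : Cfsg.IsIrrCharacter G x₂)
    (hχ : Cfsg.IsIrrCharacter G χ) (hne : x₁ ≠ x₂) (hs₁ : s₁ ≠ 0) (hs₂ : s₂ ≠ 0)
    (hφ : φ = (s₁ : ℂ) • x₁ + (s₂ : ℂ) • x₂) (h0 : Cfsg.classInner φ χ = 0) :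
    χ ≠ x₁ ∧ χ ≠ x₂ := by
  rw [hφ, CfsgLib.Char.classInner_add_left, CfsgLib.Char.classInner_smul_left,
    CfsgLib.Char.classInner_smul_left] at h0
  constructor
  · rintro rfl
    rw [CfsgLib.Char.IsIrrCharacter.classInner_self h₁,
      CfsgLib.Char.IsIrrCharacter.classInner_of_ne h₂ hχ hne.symm] at h0
    simp at h0
    exact hs₁ h0
  · rintro rfl
    rw [CfsgLib.Char.IsIrrCharacter.classInner_self h₂,
      CfsgLib.Char.IsIrrCharacter.classInner_of_ne h₁ hχ hne] at h0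
    simp at h0
    exact hs₂ h0

theorem ne_of_inner_zero {χ ψ : G → ℂ} (hψ : Cfsg.IsIrrCharacter G ψ)
    (h0 : Cfsg.classInner χ ψ = 0) : χ ≠ ψ := by
  rintro rfl
  rw [CfsgLib.Char.IsIrrCharacter.classInner_self hψ] at h0
  exact one_ne_zero h0

/-- The degree as a real number. -/
noncomputable def dg1 (χ : G → ℂ) : ℝ := (χ 1).re

theorem dg1_cast {χ : G → ℂ} (h : Cfsg.IsIrrCharacter G χ) :
    ∃ n : ℕ, 0 < n ∧ χ 1 = n ∧ dg1 χ = n := by
  obtain ⟨n, hn⟩ := CfsgLib.Char.IsCharacter.exists_degree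
    (CfsgLib.Char.IsIrrCharacter.isCharacter h)
  refine ⟨n, Nat.pos_of_ne_zero fun h0 => CfsgLib.Char.IsIrrCharacter.apply_one_ne_zero h
    (by rw [hn, h0]; simp), hn, by simp [dg1, hn]⟩

theorem dg1_pos {χ : G → ℂ} (h : Cfsg.IsIrrCharacter G χ) : 0 < dg1 χ := by
  obtain ⟨n, h0, -, hn⟩ := dg1_cast h
  rw [hn]; exact_mod_cast h0

theorem sum_dg1_sq : ∑ χ ∈ irrFinset G, dg1 χ ^ 2 = (Nat.card G : ℝ) := by
  have h := congrArg Complex.re (CfsgLib.Char.sum_degree_sq (G := G))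
  rw [Complex.re_sum, Complex.natCast_re] at h
  rw [← h]
  refine Finset.sum_congr rfl fun χ hχ => ?_
  obtain ⟨n, -, hn, hn'⟩ := dg1_cast (mem_irrFinset.1 hχ)
  rw [hn', hn]
  norm_cast

theorem sum_dg1_sq_le {L : Finset (G → ℂ)} (hL : ∀ χ ∈ L, Cfsg.IsIrrCharacter G χ) :
    ∑ χ ∈ L, dg1 χ ^ 2 ≤ (Nat.card G : ℝ) := by
  rw [← sum_dg1_sq]
  exact Finset.sum_le_sum_of_subset_of_nonneg (fun χ hχ => mem_irrFinset.2 (hL χ hχ))
    fun _ _ _ => sq_nonneg _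

theorem irrFinset_eq_of_sum {L : Finset (G → ℂ)} (hL : ∀ χ ∈ L, Cfsg.IsIrrCharacter G χ)
    (hs : ∑ χ ∈ L, dg1 χ ^ 2 = (Nat.card G : ℝ)) : irrFinset G = L := by
  refine (Finset.eq_of_subset_of_card_le (fun χ hχ => mem_irrFinset.2 (hL χ hχ)) ?_).symm
  by_contra hlt
  obtain ⟨χ, hχ, hχL⟩ := Finset.exists_mem_notMem_of_card_lt_card (not_le.1 hlt)
  have h1 := sum_dg1_sq_le (L := insert χ L) fun ψ hψ => by
    rcases Finset.mem_insert.1 hψ with rfl | h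
    · exact mem_irrFinset.1 hχ
    · exact hL ψ h
  rw [Finset.sum_insert hχL, hs] at h1
  have h2 := dg1_pos (mem_irrFinset.1 hχ)
  nlinarith

/-- Sums over the image of a two-to-one map. -/
theorem sum_eq_two_nsmul_sum_image {ι β M : Type*} [DecidableEq β] [AddCommMonoid M]
    {s : Finset ι} {f : ι → β} (g : β → M)
    (h : ∀ x ∈ s, (s.filter fun y => f y = f x).card = 2) :
    ∑ x ∈ s, g (f x) = 2 • ∑ b ∈ s.image f, g b := by
  rw [Finset.sum_comp, Finset.smul_sum]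
  refine Finset.sum_congr rfl fun b hb => ?_
  obtain ⟨x, hx, rfl⟩ := Finset.mem_image.1 hb
  rw [h x hx]

theorem eq_of_re_eq_of_norm_le {w : ℂ} {d : ℝ} (h : ‖w‖ ≤ d) (hre : w.re = d) : w = (d : ℂ) := by
  have h1 : w.re * w.re + w.im * w.im = ‖w‖ * ‖w‖ := by
    rw [← Complex.normSq_eq_norm_sq w |>.trans (sq _), Complex.normSq_apply]
  have h2 : ‖w‖ * ‖w‖ ≤ d * d := by nlinarith [norm_nonneg w]
  rw [hre] at h1
  have h3 : w.im = 0 := mul_self_eq_zero.1 (by nlinarith [mul_self_nonneg w.im])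
  exact Complex.ext (by simp [hre]) (by simp [h3])

end CfsgLib.SL2C
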