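import Cfsg.Agent.SL2C.Table
import Cfsg.Agent.SL2C.Generic

/-!
The complete list of irreducible characters of SL₂ over a finite field.
-/

set_option autoImplicit false
set_option linter.unusedSectionVars false
set_option linter.style.haveILetI false

namespace CfsgLib.SL2C

open Matrix Finset
open scoped ComplexConjugate Classical
open CfsgLib.Char (irrFinset mem_irrFinset classInner_add_left classInner_add_right
  classInner_smul_left classInner_smul_right classInner_conj)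

variable {F : Type*} [Field F] [Fintype F] {c : SL F}

/-- The characters of `Fˣ` not squaring to one. -/
noncomputable def AR (F : Type*) [Field F] [Fintype F] : Finset (Fˣ →* ℂˣ) :=
  univ.filter fun α => α * α ≠ 1

/-- The characters of the torus not squaring to one. -/
noncomputable def AT (c : SL F) : Finset (tor c →* ℂˣ) := univ.filter fun θ => θ * θ ≠ 1

theorem mem_AR {α : Fˣ →* ℂˣ} : α ∈ AR F ↔ α * α ≠ 1 := by simp [AR]

theorem mem_AT {θ : tor c →* ℂˣ} : θ ∈ AT c ↔ θ * θ ≠ 1 := by simp [AT]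

theorem ne_one_of_mem_AR {α : Fˣ →* ℂˣ} (h : α ∈ AR F) : α ≠ 1 := fun e =>
  mem_AR.1 h (by rw [e]; ext; simp)

theorem ne_one_of_mem_AT {θ : tor c →* ℂˣ} (h : θ ∈ AT c) : θ ≠ 1 := fun e =>
  mem_AT.1 h (by rw [e]; ext; simp)

theorem R_dual_inv (hc : Ell c) (α : Fˣ →* ℂˣ) : R α⁻¹ = R α :=
  Vals.eq_of hc ((R_vals hc α⁻¹).congr (fun e he => by rw [ch_inv_sgn α he])
    (fun a _ => by rw [dual_inv_inv, add_comm]) (fun e he b _ => ch_inv_sgn α he)
    (fun _ _ => rfl)) (R_vals hc α)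

theorem Pi'_dual_inv (hc : Ell c) (θ : tor c →* ℂˣ) : Pi' θ⁻¹ = Pi' θ :=
  Vals.eq_of hc ((Pi'_vals hc θ⁻¹).congr (fun e he => by rw [tc_inv θ he]) (fun _ _ => rfl)
    (fun e he b _ => by rw [tc_inv θ he]) (fun y _ => by rw [dual_inv_inv, add_comm]))
    (Pi'_vals hc θ)

theorem R_eq_R_iff (hc : Ell c) {α β : Fˣ →* ℂˣ} : R β = R α ↔ β = α ∨ β = α⁻¹ := by
  constructor
  · intro h
    have h1 := inner_R_R hc β α
    rw [h, inner_R_R hc, dl_pos rfl] at h1
    by_contra hcon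
    push Not at hcon
    rw [dl_neg hcon.1, dl_neg hcon.2, dl] at h1
    split_ifs at h1 <;> norm_num at h1
  · rintro (rfl | rfl)
    · rfl
    · exact R_dual_inv hc α

theorem Pi'_eq_Pi'_iff (hc : Ell c) {θ η : tor c →* ℂˣ} : Pi' η = Pi' θ ↔ η = θ ∨ η = θ⁻¹ := by
  constructor
  · intro h
    have h1 := inner_Pi'_Pi' hc η θ
    rw [h, inner_Pi'_Pi' hc, dl_pos rfl] at h1
    by_contra hcon
    push Not at hcon
    rw [dl_neg hcon.1, dl_neg hcon.2, dl] at h1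
    split_ifs at h1 <;> norm_num at h1
  · rintro (rfl | rfl)
    · rfl
    · exact Pi'_dual_inv hc θ

theorem card_fiber_R (hc : Ell c) {α : Fˣ →* ℂˣ} (h : α ∈ AR F) :
    ((AR F).filter fun β => R β = R α).card = 2 := by
  rw [show ((AR F).filter fun β => R β = R α) = {α, α⁻¹} from ?_,
    Finset.card_pair fun e => mem_AR.1 h (eq_inv_iff_mul_self.1 e)]
  ext β
  simp only [Finset.mem_filter, Finset.mem_insert, Finset.mem_singleton, R_eq_R_iff hc]
  refine ⟨And.right, fun hb => ⟨?_, hb⟩⟩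
  rcases hb with rfl | rfl
  · exact h
  · rw [mem_AR, Ne, ← eq_inv_iff_mul_self, dual_inv_inv]
    exact fun e => mem_AR.1 h (eq_inv_iff_mul_self.1 e.symm)

theorem card_fiber_Pi' (hc : Ell c) {θ : tor c →* ℂˣ} (h : θ ∈ AT c) :
    ((AT c).filter fun η => Pi' η = Pi' θ).card = 2 := by
  rw [show ((AT c).filter fun η => Pi' η = Pi' θ) = {θ, θ⁻¹} from ?_,
    Finset.card_pair fun e => mem_AT.1 h (eq_inv_iff_mul_self.1 e)]
  ext η
  simp only [Finset.mem_filter, Finset.mem_insert, Finset.mem_singleton, Pi'_eq_Pi'_iff hc]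
  refine ⟨And.right, fun hb => ⟨?_, hb⟩⟩
  rcases hb with rfl | rfl
  · exact h
  · rw [mem_AT, Ne, ← eq_inv_iff_mul_self, dual_inv_inv]
    exact fun e => mem_AT.1 h (eq_inv_iff_mul_self.1 e.symm)

/-- The irreducible characters which do not come from halving. -/
noncomputable def L0 (c : SL F) : Finset (SL F → ℂ) :=
  ({fun _ => 1, St} : Finset (SL F → ℂ)) ∪ ((AR F).image R ∪ (AT c).image Pi')

theorem isIrr_of_mem_L0 (hc : Ell c) {χ : SL F → ℂ} (h : χ ∈ L0 c) :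
    Cfsg.IsIrrCharacter (SL F) χ := by
  simp only [L0, Finset.mem_union, Finset.mem_insert, Finset.mem_singleton, Finset.mem_image] at h
  rcases h with (rfl | rfl) | ⟨α, hα, rfl⟩ | ⟨θ, hθ, rfl⟩
  · exact CfsgLib.Char.isIrrCharacter_one
  · exact isIrr_St
  · exact (isIrr_R_iff α).2 (mem_AR.1 hα)
  · exact isIrr_Pi' hc (mem_AT.1 hθ)

theorem sum_L0 (hc : Ell c) {M : Type*} [AddCommMonoid M] (g : (SL F → ℂ) → M) :
    2 • ∑ χ ∈ L0 c, g χ =
      2 • g (fun _ => 1) + 2 • g St + ∑ α ∈ AR F, g (R α) + ∑ θ ∈ AT c, g (Pi' θ) := by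
  have h1S : (fun _ : SL F => (1 : ℂ)) ≠ St :=
    (ne_of_inner_zero CfsgLib.Char.isIrrCharacter_one (inner_St_one hc)).symm
  have d1 : Disjoint ({fun _ => 1, St} : Finset (SL F → ℂ))
      ((AR F).image R ∪ (AT c).image Pi') := by
    rw [Finset.disjoint_left]
    intro χ hχ hχ'
    simp only [Finset.mem_union, Finset.mem_image] at hχ'
    simp only [Finset.mem_insert, Finset.mem_singleton] at hχ
    rcases hχ' with ⟨α, hα, rfl⟩ | ⟨θ, hθ, rfl⟩ <;> rcases hχ with h | h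
    · exact ne_of_inner_zero CfsgLib.Char.isIrrCharacter_one
        ((inner_R_one hc α).trans (dl_neg (ne_one_of_mem_AR hα))) h
    · exact (ne_of_inner_zero ((isIrr_R_iff α).2 (mem_AR.1 hα))
        ((inner_St_R hc α).trans (dl_neg (ne_one_of_mem_AR hα)))) h.symm
    · exact ne_of_inner_zero CfsgLib.Char.isIrrCharacter_one
        ((inner_Pi'_one hc θ).trans (by rw [dl_neg (ne_one_of_mem_AT hθ), neg_zero])) h
    · exact (ne_of_inner_zero (isIrr_Pi' hc (mem_AT.1 hθ))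
        ((inner_St_Pi' hc θ).trans (dl_neg (ne_one_of_mem_AT hθ)))) h.symm
  have d2 : Disjoint ((AR F).image R) ((AT c).image Pi') := by
    rw [Finset.disjoint_left]
    intro χ hχ hχ'
    obtain ⟨α, hα, rfl⟩ := Finset.mem_image.1 hχ
    obtain ⟨θ, hθ, h⟩ := Finset.mem_image.1 hχ'
    exact ne_of_inner_zero (isIrr_Pi' hc (mem_AT.1 hθ)) (inner_R_Pi' hc α θ) h.symm
  rw [L0, Finset.sum_union d1, Finset.sum_union d2, Finset.sum_pair h1S,
    sum_eq_two_nsmul_sum_image (s := AR F) (f := R) g fun α hα => card_fiber_R hc hα,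
    sum_eq_two_nsmul_sum_image (s := AT c) (f := Pi') g fun θ hθ => card_fiber_Pi' hc hθ]
  simp only [nsmul_add]
  abel

/-- Whatever is orthogonal to the basic characters is orthogonal to `L0`. -/
theorem inner_L0_eq_zero {φ : SL F → ℂ}
    (h1 : Cfsg.classInner φ (fun _ => 1) = 0) (h2 : Cfsg.classInner φ St = 0)
    (h3 : ∀ α ∈ AR F, Cfsg.classInner φ (R α) = 0)
    (h4 : ∀ θ ∈ AT c, Cfsg.classInner φ (Pi' θ) = 0) {χ : SL F → ℂ} (h : χ ∈ L0 c) :
    Cfsg.classInner φ χ = 0 := by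
  simp only [L0, Finset.mem_union, Finset.mem_insert, Finset.mem_singleton, Finset.mem_image] at h
  rcases h with (rfl | rfl) | ⟨α, hα, rfl⟩ | ⟨θ, hθ, rfl⟩
  exacts [h1, h2, h3 α hα, h4 θ hθ]

theorem dg1_one : dg1 (fun _ : SL F => (1 : ℂ)) = 1 := by simp [dg1]

theorem dg1_St (hc : Ell c) : dg1 (St : SL F → ℂ) = (Fintype.card F : ℝ) := by
  simp [dg1, St_apply_one hc]

theorem dg1_R (hc : Ell c) (α : Fˣ →* ℂˣ) : dg1 (R α) = (Fintype.card F : ℝ) + 1 := by
  simp [dg1, R_apply_one hc]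

theorem dg1_Pi' (hc : Ell c) (θ : tor c →* ℂˣ) : dg1 (Pi' θ) = (Fintype.card F : ℝ) - 1 := by
  simp [dg1, Pi'_apply_one hc]

theorem sum_dg1_L0 (hc : Ell c) :
    2 * ∑ χ ∈ L0 c, dg1 χ ^ 2 = 2 + 2 * (Fintype.card F : ℝ) ^ 2 +
      (AR F).card * ((Fintype.card F : ℝ) + 1) ^ 2 + (AT c).card * ((Fintype.card F : ℝ) - 1) ^ 2 := by
  have h := sum_L0 hc fun χ => dg1 χ ^ 2
  simp only [dg1_one, dg1_St hc, dg1_R hc, dg1_Pi' hc, Finset.sum_const, nsmul_eq_mul] at h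
  push_cast at h
  linear_combination h

theorem natCard_SL_real :
    (Nat.card (SL F) : ℝ) = (Fintype.card F : ℝ) * ((Fintype.card F : ℝ) ^ 2 - 1) := by
  rw [card_SL2_mul, Nat.cast_mul, Nat.cast_sub (Nat.one_le_pow _ _ Fintype.card_pos), Nat.cast_pow,
    Nat.cast_one]

theorem card_dual_units : Fintype.card (Fˣ →* ℂˣ) + 1 = Fintype.card F := by
  rw [card_dual mul_comm, Fintype.card_units]
  exact Nat.sub_add_cancel Fintype.card_pos

theorem card_dual_tor (hc : Ell c) : Fintype.card (tor c →* ℂˣ) = Fintype.card F + 1 := by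
  rw [card_dual (comm_tor hc), card_tor_fintype hc]

/-! ### Even characteristic -/

theorem sq_eq_one_even (heven : Even (Fintype.card F)) {α : Fˣ →* ℂˣ} (h : α * α = 1) : α = 1 := by
  refine eq_one_of_sq_of_odd ?_ h
  obtain ⟨m, hm⟩ := heven
  have := two_le_card (F := F)
  exact ⟨m - 1, by rw [Fintype.card_units]; omega⟩

theorem sq_eq_one_even' (hc : Ell c) (heven : Even (Fintype.card F)) {θ : tor c →* ℂˣ}
    (h : θ * θ = 1) : θ = 1 := by
  haveI := isCyclic_tor hc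
  refine eq_one_of_sq_of_odd ?_ h
  obtain ⟨m, hm⟩ := heven
  exact ⟨m, by rw [card_tor_fintype hc]; omega⟩

theorem card_AR_even (heven : Even (Fintype.card F)) : (AR F).card + 2 = Fintype.card F := by
  have h : AR F = univ.erase 1 := by
    ext α
    simp only [mem_AR, Finset.mem_erase, Finset.mem_univ, and_true]
    exact ⟨fun h e => h (by rw [e]; ext; simp), fun h e => h (sq_eq_one_even heven e)⟩
  rw [h, Finset.card_erase_of_mem (Finset.mem_univ _), Finset.card_univ]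
  have h1 : Fintype.card (Fˣ →* ℂˣ) + 1 = Fintype.card F := card_dual_units
  have := Fintype.card_pos (α := Fˣ →* ℂˣ)
  omega

theorem card_AT_even (hc : Ell c) (heven : Even (Fintype.card F)) :
    (AT c).card = Fintype.card F := by
  have h : AT c = univ.erase 1 := by
    ext θ
    simp only [mem_AT, Finset.mem_erase, Finset.mem_univ, and_true]
    exact ⟨fun h e => h (by rw [e]; ext; simp), fun h e => h (sq_eq_one_even' hc heven e)⟩
  rw [h, Finset.card_erase_of_mem (Finset.mem_univ _), Finset.card_univ, card_dual_tor hc]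
  omega

theorem irrFinset_even (hc : Ell c) (heven : Even (Fintype.card F)) :
    irrFinset (SL F) = L0 c := by
  refine irrFinset_eq_of_sum (fun χ h => isIrr_of_mem_L0 hc h) ?_
  have h := sum_dg1_L0 hc
  have h1 : ((AR F).card : ℝ) + 2 = Fintype.card F := by exact_mod_cast card_AR_even heven
  have h2 : ((AT c).card : ℝ) = Fintype.card F := by exact_mod_cast card_AT_even hc heven
  rw [natCard_SL_real]
  linear_combination h / 2 + ((Fintype.card F : ℝ) + 1) ^ 2 / 2 * h1 +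
    ((Fintype.card F : ℝ) - 1) ^ 2 / 2 * h2

/-! ### Odd characteristic -/

/-- The two sign characters and the four halved characters. -/
structure IsHalves (c : SL F) (η : Fˣ →* ℂˣ) (θ : tor c →* ℂˣ) (x₁ x₂ y₁ y₂ : SL F → ℂ) :
    Prop where
  η_ne : η ≠ 1
  η_sq : η * η = 1
  η_all : ∀ α : Fˣ →* ℂˣ, α * α = 1 → α = 1 ∨ α = η
  η_iff : ∀ a : Fˣ, (η a = 1 ↔ a ^ ((Fintype.card F - 1) / 2) = 1) ∧
    (a ^ ((Fintype.card F - 1) / 2) ≠ 1 → η a = -1)
  θ_ne : θ ≠ 1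
  θ_sq : θ * θ = 1
  θ_all : ∀ φ : tor c →* ℂˣ, φ * φ = 1 → φ = 1 ∨ φ = θ
  θ_iff : ∀ y : tor c, (θ y = 1 ↔ y ^ ((Fintype.card F + 1) / 2) = 1) ∧
    (y ^ ((Fintype.card F + 1) / 2) ≠ 1 → θ y = -1)
  σ_eq : ch η (-1 : Fˣ) = (-1 : ℂ) ^ ((Fintype.card F - 1) / 2)
  opp : tc θ (-1 : Fˣ) = -ch η (-1 : Fˣ)
  x₁_irr : Cfsg.IsIrrCharacter (SL F) x₁
  x₂_irr : Cfsg.IsIrrCharacter (SL F) x₂
  y₁_irr : Cfsg.IsIrrCharacter (SL F) y₁
  y₂_irr : Cfsg.IsIrrCharacter (SL F) y₂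
  x_ne : x₁ ≠ x₂
  y_ne : y₁ ≠ y₂
  xy : x₁ ≠ y₁ ∧ x₁ ≠ y₂ ∧ x₂ ≠ y₁ ∧ x₂ ≠ y₂
  R_eq : R η = x₁ + x₂
  Pi'_eq : Pi' θ = y₁ + y₂
  x₁_one : x₁ 1 = ((Fintype.card F : ℂ) + 1) / 2
  x₂_one : x₂ 1 = ((Fintype.card F : ℂ) + 1) / 2
  y₁_one : y₁ 1 = ((Fintype.card F : ℂ) - 1) / 2
  y₂_one : y₂ 1 = ((Fintype.card F : ℂ) - 1) / 2
  L0_ne : ∀ χ ∈ L0 c, χ ≠ x₁ ∧ χ ≠ x₂ ∧ χ ≠ y₁ ∧ χ ≠ y₂
  irr_eq : irrFinset (SL F) = L0 c ∪ {x₁, x₂, y₁, y₂}

theorem three_le_card (hodd : Odd (Fintype.card F)) : 3 ≤ Fintype.card F := by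
  obtain ⟨m, hm⟩ := hodd
  have := two_le_card (F := F)
  omega

theorem card_sq_one {A : Type*} [Group A] [Fintype A] {η : A →* ℂˣ} (hne : η ≠ 1) (hsq : η * η = 1)
    (hall : ∀ ψ : A →* ℂˣ, ψ * ψ = 1 → ψ = 1 ∨ ψ = η) :
    (univ.filter fun ψ : A →* ℂˣ => ψ * ψ ≠ 1).card + 2 = Fintype.card (A →* ℂˣ) := by
  have h := Finset.card_filter_add_card_filter_not (s := (univ : Finset (A →* ℂˣ)))
    (fun ψ => ψ * ψ = 1)
  rw [Finset.card_univ] at h
  have h2 : (univ.filter fun ψ : A →* ℂˣ => ψ * ψ = 1) = {1, η} := by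
    ext ψ
    simp only [Finset.mem_filter, Finset.mem_univ, true_and, Finset.mem_insert,
      Finset.mem_singleton]
    refine ⟨hall ψ, ?_⟩
    rintro (rfl | rfl)
    · ext; simp
    · exact hsq
  rw [h2, Finset.card_pair hne.symm] at h
  rw [← h, add_comm]

theorem eq_degree_of_sum {x₁ x₂ : SL F → ℂ} (h₁ : Cfsg.IsCharacter (SL F) x₁)
    (h₂ : Cfsg.IsCharacter (SL F) x₂) {g : SL F} {s : ℂ} (hs : s = 1 ∨ s = -1)
    (h : x₁ g + x₂ g = s * (x₁ 1 + x₂ 1)) : x₁ g = s * x₁ 1 ∧ x₂ g = s * x₂ 1 := by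
  obtain ⟨a, ha⟩ := CfsgLib.Char.IsCharacter.exists_degree h₁
  obtain ⟨b, hb⟩ := CfsgLib.Char.IsCharacter.exists_degree h₂
  have n₁ := CfsgLib.Char.IsCharacter.norm_apply_le h₁ g
  have n₂ := CfsgLib.Char.IsCharacter.norm_apply_le h₂ g
  rw [ha, Complex.natCast_re] at n₁
  rw [hb, Complex.natCast_re] at n₂
  rw [ha, hb] at h ⊢
  have hss : s * s = 1 := by rcases hs with rfl | rfl <;> norm_num
  have hn : ‖s‖ = 1 := by rcases hs with rfl | rfl <;> simp
  have hsum : (s * x₁ g).re + (s * x₂ g).re = (a : ℝ) + b := by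
    rw [← Complex.add_re, ← mul_add, h, ← mul_assoc, hss, one_mul]
    simp
  have r₁ : (s * x₁ g).re ≤ a := (Complex.re_le_norm _).trans (by rw [norm_mul, hn, one_mul]; exact n₁)
  have r₂ : (s * x₂ g).re ≤ b := (Complex.re_le_norm _).trans (by rw [norm_mul, hn, one_mul]; exact n₂)
  have e₁ := eq_of_re_eq_of_norm_le (w := s * x₁ g) (d := a)
    (by rw [norm_mul, hn, one_mul]; exact n₁) (by linarith)
  have e₂ := eq_of_re_eq_of_norm_le (w := s * x₂ g) (d := b)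
    (by rw [norm_mul, hn, one_mul]; exact n₂) (by linarith)
  constructor
  · calc x₁ g = s * (s * x₁ g) := by rw [← mul_assoc, hss, one_mul]
      _ = _ := by rw [e₁]; simp
  · calc x₂ g = s * (s * x₂ g) := by rw [← mul_assoc, hss, one_mul]
      _ = _ := by rw [e₂]; simp

theorem exists_halves (hc : Ell c) (hodd : Odd (Fintype.card F)) :
    ∃ η θ x₁ x₂ y₁ y₂, IsHalves c η θ x₁ x₂ y₁ y₂ := by
  classical
  haveI := isCyclic_tor hc
  have hq3 := three_le_card hodd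
  obtain ⟨m, hm⟩ := hodd
  have hU : Fintype.card Fˣ = Fintype.card F - 1 := Fintype.card_units F
  have hevU : Even (Fintype.card Fˣ) := ⟨m, by omega⟩
  have hevT : Even (Fintype.card (tor c)) := ⟨m + 1, by rw [card_tor_fintype hc]; omega⟩
  obtain ⟨η, hη1, hηsq, hηall, hηiff⟩ := exists_sign_char hevU
  obtain ⟨θ, hθ1, hθsq, hθall, hθiff⟩ := exists_sign_char hevT
  rw [hU] at hηiff
  simp only [card_tor_fintype hc] at hθiff
  -- the values at -1
  have h2 : (2 : F) ≠ 0 := by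
    refine Ring.two_ne_zero fun h => ?_
    have := FiniteField.even_card_iff_char_two.1 h
    omega
  have hn1 : (-1 : Fˣ) ≠ 1 := fun e => h2 (by
    have h3 := congrArg Units.val e
    simp at h3
    linear_combination -h3)
  have hm1 : (Fintype.card F - 1) / 2 = m := by omega
  have hm2 : (Fintype.card F + 1) / 2 = m + 1 := by omega
  have hσ : ch η (-1 : Fˣ) = (-1 : ℂ) ^ m := by
    have h3 := hηiff (-1 : Fˣ)
    rw [hm1] at h3
    rcases Nat.even_or_odd m with he | ho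
    · rw [he.neg_one_pow, ch, h3.1.2 (he.neg_one_pow), Units.val_one]
    · rw [ho.neg_one_pow, ch, h3.2 (by rw [ho.neg_one_pow]; exact hn1)]
      simp
  have hτ : tc θ (-1 : Fˣ) = -(-1 : ℂ) ^ m := by
    have hmem : bor (-1 : Fˣ) 0 ∈ tor c := bor_mem_tor _ neg_one_mem_sgn
    have h3 := hθiff ⟨bor (-1 : Fˣ) 0, hmem⟩
    rw [hm2] at h3
    have hp : (⟨bor (-1 : Fˣ) 0, hmem⟩ : tor c) ^ (m + 1) = 1 ↔ (-1 : Fˣ) ^ (m + 1) = 1 := by
      rw [Subtype.ext_iff, SubgroupClass.coe_pow]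
      show dg (-1 : Fˣ) ^ (m + 1) = 1 ↔ _
      rw [← map_pow, ← map_one dg]
      exact ⟨fun e => (bor_inj e).1, fun e => by rw [e]⟩
    rw [tc, th, dif_pos hmem]
    rcases Nat.even_or_odd m with he | ho
    · rw [he.neg_one_pow, h3.2 (by rw [Ne, hp, he.add_one.neg_one_pow]; exact hn1)]
      simp
    · rw [ho.neg_one_pow, h3.1.2 (hp.2 ho.add_one.neg_one_pow)]
      simp
  set σ : ℂ := (-1 : ℂ) ^ m with hσdef
  have hσs : σ = 1 ∨ σ = -1 := neg_one_pow_eq_or ℂ m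
  -- decompositions
  have hnR : Cfsg.classInner (R η) (R η) = 2 := by
    rw [inner_R_R hc, dl_pos rfl, dl_pos (eq_inv_iff_mul_self.2 hηsq)]; norm_num
  have hnT : Cfsg.classInner (Pi' θ) (Pi' θ) = 2 := by
    rw [inner_Pi'_Pi' hc, dl_pos rfl, dl_pos (eq_inv_iff_mul_self.2 hθsq)]; norm_num
  obtain ⟨x₁, x₂, s₁, s₂, hx₁, hx₂, hxne, hs₁, hs₂, hR⟩ :=
    exists_of_norm_two (CfsgLib.Char.IsCharacter.isGeneralized (R_isCharacter η)) hnR
  obtain ⟨y₁, y₂, t₁, t₂, hy₁, hy₂, hyne, ht₁, ht₂, hT⟩ :=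
    exists_of_norm_two (Pi'_isGeneralized θ) hnT
  have hs : s₁ = 1 ∧ s₂ = 1 := by
    obtain ⟨k₁, hk₁⟩ := CfsgLib.Char.IsCharacter.exists_classInner_eq_natCast' (R_isCharacter η)
      (CfsgLib.Char.IsIrrCharacter.isCharacter hx₁)
    obtain ⟨k₂, hk₂⟩ := CfsgLib.Char.IsCharacter.exists_classInner_eq_natCast' (R_isCharacter η)
      (CfsgLib.Char.IsIrrCharacter.isCharacter hx₂)
    rw [hR, classInner_add_left, classInner_smul_left, classInner_smul_left,
      CfsgLib.Char.IsIrrCharacter.classInner_self hx₁,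
      CfsgLib.Char.IsIrrCharacter.classInner_of_ne hx₂ hx₁ hxne.symm, mul_one, mul_zero,
      add_zero] at hk₁
    rw [hR, classInner_add_left, classInner_smul_left, classInner_smul_left,
      CfsgLib.Char.IsIrrCharacter.classInner_self hx₂,
      CfsgLib.Char.IsIrrCharacter.classInner_of_ne hx₁ hx₂ hxne, mul_one, mul_zero,
      zero_add] at hk₂
    have e₁ : s₁ = (k₁ : ℤ) := by exact_mod_cast hk₁
    have e₂ : s₂ = (k₂ : ℤ) := by exact_mod_cast hk₂
    omega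
  obtain ⟨rfl, rfl⟩ := hs
  simp only [Int.cast_one, one_smul] at hR
  -- orthogonality to the list
  have hLR : ∀ χ ∈ L0 c, χ ≠ x₁ ∧ χ ≠ x₂ := fun χ hχ =>
    ne_of_classInner_eq_zero (s₁ := 1) (s₂ := 1) hx₁ hx₂ (isIrr_of_mem_L0 hc hχ) hxne one_ne_zero
      one_ne_zero (by simpa using hR)
      (inner_L0_eq_zero (φ := R η) (by rw [inner_R_one hc, dl_neg hη1])
        (by rw [← classInner_conj, inner_St_R hc, dl_neg hη1, map_zero])
        (fun α hα => by
          rw [inner_R_R hc, dl_neg, dl_neg, add_zero]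
          · exact fun e => mem_AR.1 hα (by rw [← dual_inv_inv α, ← e,
              ← eq_inv_iff_mul_self.2 hηsq]; exact hηsq)
          · exact fun e => mem_AR.1 hα (e ▸ hηsq))
        (fun φ _ => inner_R_Pi' hc η φ) hχ)
  have hLT : ∀ χ ∈ L0 c, χ ≠ y₁ ∧ χ ≠ y₂ := fun χ hχ =>
    ne_of_classInner_eq_zero hy₁ hy₂ (isIrr_of_mem_L0 hc hχ) hyne (by omega) (by omega) hT
      (inner_L0_eq_zero (φ := Pi' θ) (by rw [inner_Pi'_one hc, dl_neg hθ1, neg_zero])
        (by rw [← classInner_conj, inner_St_Pi' hc, dl_neg hθ1, map_zero])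
        (fun α _ => by rw [← classInner_conj, inner_R_Pi' hc, map_zero])
        (fun φ hφ => by
          rw [inner_Pi'_Pi' hc, dl_neg, dl_neg, add_zero]
          · exact fun e => mem_AT.1 hφ (by rw [← dual_inv_inv φ, ← e,
              ← eq_inv_iff_mul_self.2 hθsq]; exact hθsq)
          · exact fun e => mem_AT.1 hφ (e ▸ hθsq))
        hχ)
  -- values at -1
  have hRz := R_apply_cen η (neg_one_mem_sgn (F := F))
  have hTz := (Pi'_vals hc θ).cen _ (neg_one_mem_sgn (F := F))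
  rw [hσ] at hRz
  rw [show ((Fintype.card F : ℂ) - 1) * tc θ (-1 : Fˣ) = -(σ * ((Fintype.card F : ℂ) - 1)) by
    rw [hτ]; ring] at hTz
  have hR1 : x₁ 1 + x₂ 1 = (Fintype.card F : ℂ) + 1 := by
    rw [← Pi.add_apply, ← hR, R_apply_one hc]
  have hcen := eq_degree_of_sum (g := bor (-1 : Fˣ) 0) (CfsgLib.Char.IsIrrCharacter.isCharacter hx₁)
    (CfsgLib.Char.IsIrrCharacter.isCharacter hx₂) hσs
    (by rw [hR1, ← Pi.add_apply, ← hR, hRz, mul_comm])
  have hT1 : (t₁ : ℂ) * y₁ 1 + (t₂ : ℂ) * y₂ 1 = (Fintype.card F : ℂ) - 1 := by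
    rw [← Pi'_apply_one hc θ, hT]; simp
  have hTz' : (t₁ : ℂ) * y₁ (bor (-1) 0) + (t₂ : ℂ) * y₂ (bor (-1) 0) =
      -(σ * ((Fintype.card F : ℂ) - 1)) := by
    rw [← hTz, hT]; simp
  have hxy0 : (t₁ : ℂ) * (dl (x₁ = y₁) + dl (x₂ = y₁)) +
      (t₂ : ℂ) * (dl (x₁ = y₂) + dl (x₂ = y₂)) = 0 := by
    have h := inner_R_Pi' hc η θ
    rw [hR, hT, classInner_add_left, classInner_add_right, classInner_add_right,
      classInner_smul_right, classInner_smul_right, classInner_smul_right, classInner_smul_right,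
      map_intCast, map_intCast, CfsgLib.Char.IsIrrCharacter.classInner_eq hx₁ hy₁,
      CfsgLib.Char.IsIrrCharacter.classInner_eq hx₁ hy₂,
      CfsgLib.Char.IsIrrCharacter.classInner_eq hx₂ hy₁,
      CfsgLib.Char.IsIrrCharacter.classInner_eq hx₂ hy₂] at h
    have hd : ∀ (p : Prop) (i : Decidable p), (@ite ℂ p i 1 0) = dl p := fun p i => by
      by_cases h : p <;> simp [dl, h]
    simp only [hd] at h
    linear_combination h
  have hq2 : (Fintype.card F : ℂ) - 1 ≠ 0 := q_sub_one_ne_zero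
  have hσ0 : σ ≠ 0 := by rcases hσs with h | h <;> simp [h]
  have hxy : x₁ ≠ y₁ ∧ x₁ ≠ y₂ ∧ x₂ ≠ y₁ ∧ x₂ ≠ y₂ := by
    have ht₁0 : (t₁ : ℂ) ≠ 0 := by rcases ht₁ with rfl | rfl <;> norm_num
    have ht₂0 : (t₂ : ℂ) ≠ 0 := by rcases ht₂ with rfl | rfl <;> norm_num
    have key : ∀ a b : SL F → ℂ, a (bor (-1) 0) = σ * a 1 → b (bor (-1) 0) = σ * b 1 →
        a = y₁ → b = y₂ → False := by
      intro a b ha hb e₁ e₂
      subst e₁ e₂
      rw [ha, hb] at hTz'
      have : 2 * (σ * ((Fintype.card F : ℂ) - 1)) = 0 := by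
        linear_combination hTz' - σ * hT1
      simp [hσ0, hq2] at this
    refine ⟨fun e => ?_, fun e => ?_, fun e => ?_, fun e => ?_⟩
    · rw [dl_pos e, dl_neg (show ¬ x₂ = y₁ from fun e' => hxne (e.trans e'.symm)),
        dl_neg (show ¬ x₁ = y₂ from fun e' => hyne (e.symm.trans e'))] at hxy0
      by_cases h4 : x₂ = y₂
      · exact key x₁ x₂ hcen.1 hcen.2 e h4
      · rw [dl_neg h4] at hxy0; simp [ht₁0] at hxy0
    · rw [dl_pos e, dl_neg (show ¬ x₂ = y₂ from fun e' => hxne (e.trans e'.symm)),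
        dl_neg (show ¬ x₁ = y₁ from fun e' => hyne (e'.symm.trans e))] at hxy0
      by_cases h4 : x₂ = y₁
      · exact key x₂ x₁ hcen.2 hcen.1 h4 e
      · rw [dl_neg h4] at hxy0; simp [ht₂0] at hxy0
    · rw [dl_pos e, dl_neg (show ¬ x₁ = y₁ from fun e' => hxne (e'.trans e.symm)),
        dl_neg (show ¬ x₂ = y₂ from fun e' => hyne (e.symm.trans e'))] at hxy0
      by_cases h4 : x₁ = y₂
      · exact key x₂ x₁ hcen.2 hcen.1 e h4
      · rw [dl_neg h4] at hxy0; simp [ht₁0] at hxy0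
    · rw [dl_pos e, dl_neg (show ¬ x₁ = y₂ from fun e' => hxne (e'.trans e.symm)),
        dl_neg (show ¬ x₂ = y₁ from fun e' => hyne (e'.symm.trans e))] at hxy0
      by_cases h4 : x₁ = y₁
      · exact key x₁ x₂ hcen.1 hcen.2 h4 e
      · rw [dl_neg h4] at hxy0; simp [ht₂0] at hxy0
  -- degrees
  set L : Finset (SL F → ℂ) := L0 c ∪ {x₁, x₂, y₁, y₂} with hL
  have hLirr : ∀ χ ∈ L, Cfsg.IsIrrCharacter (SL F) χ := by
    intro χ hχ
    simp only [hL, Finset.mem_union, Finset.mem_insert, Finset.mem_singleton] at hχ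
    rcases hχ with h | rfl | rfl | rfl | rfl
    exacts [isIrr_of_mem_L0 hc h, hx₁, hx₂, hy₁, hy₂]
  have hdisj : Disjoint (L0 c) {x₁, x₂, y₁, y₂} := by
    rw [Finset.disjoint_left]
    intro χ hχ hχ'
    simp only [Finset.mem_insert, Finset.mem_singleton] at hχ'
    rcases hχ' with e | e | e | e
    exacts [(hLR χ hχ).1 e, (hLR χ hχ).2 e, (hLT χ hχ).1 e, (hLT χ hχ).2 e]
  have hsum : 2 * ∑ χ ∈ L, dg1 χ ^ 2 =
      2 * ((Fintype.card F : ℝ) * ((Fintype.card F : ℝ) ^ 2 - 1) -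
        ((Fintype.card F : ℝ) ^ 2 + 1)) +
      2 * (dg1 x₁ ^ 2 + dg1 x₂ ^ 2 + dg1 y₁ ^ 2 + dg1 y₂ ^ 2) := by
    have hA : ((AR F).card : ℝ) = (Fintype.card F : ℝ) - 3 := by
      have h1 := card_sq_one hη1 hηsq hηall
      have h2 : Fintype.card (Fˣ →* ℂˣ) + 1 = Fintype.card F := card_dual_units
      have h3 : (AR F).card + 3 = Fintype.card F := by rw [AR]; omega
      have h4 : ((AR F).card : ℝ) + 3 = Fintype.card F := by exact_mod_cast h3
      linarith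
    have hB : ((AT c).card : ℝ) = (Fintype.card F : ℝ) - 1 := by
      have h1 := card_sq_one hθ1 hθsq hθall
      have h2 := card_dual_tor hc
      have h3 : (AT c).card + 1 = Fintype.card F := by rw [AT]; omega
      have h4 : ((AT c).card : ℝ) + 1 = Fintype.card F := by exact_mod_cast h3
      linarith
    have h := sum_dg1_L0 hc
    rw [hA, hB] at h
    rw [hL, Finset.sum_union hdisj, Finset.sum_insert (by simp [hxne, hxy.1, hxy.2.1]),
      Finset.sum_insert (by simp [hxy.2.2.1, hxy.2.2.2]), Finset.sum_pair hyne]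
    linear_combination h
  have hle := sum_dg1_sq_le hLirr
  rw [natCard_SL_real] at hle
  obtain ⟨a, ha0, ha, ha'⟩ := dg1_cast hx₁
  obtain ⟨b, hb0, hb, hb'⟩ := dg1_cast hx₂
  obtain ⟨d, hd0, hd, hd'⟩ := dg1_cast hy₁
  obtain ⟨e, he0, he, he'⟩ := dg1_cast hy₂
  have hab : (a : ℝ) + b = (Fintype.card F : ℝ) + 1 := by
    have h := congrArg Complex.re hR1
    simpa [ha, hb] using h
  have hde : (t₁ : ℝ) * d + (t₂ : ℝ) * e = (Fintype.card F : ℝ) - 1 := by
    have h := congrArg Complex.re hT1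
    simpa [hd, he] using h
  rw [ha', hb', hd', he'] at hsum
  set Q : ℝ := (Fintype.card F : ℝ) with hQ
  have hQ3 : (3 : ℝ) ≤ Q := by rw [hQ]; exact_mod_cast hq3
  have hd1 : (1 : ℝ) ≤ d := by exact_mod_cast hd0
  have he1 : (1 : ℝ) ≤ e := by exact_mod_cast he0
  have hbound : (a : ℝ) ^ 2 + (b : ℝ) ^ 2 + (d : ℝ) ^ 2 + (e : ℝ) ^ 2 ≤ Q ^ 2 + 1 := by linarith
  obtain ⟨rfl, rfl⟩ : t₁ = 1 ∧ t₂ = 1 := by
    rcases ht₁ with rfl | rfl <;> rcases ht₂ with rfl | rfl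
    · exact ⟨rfl, rfl⟩
    all_goals exfalso; push_cast at hde
    · have : Q ≤ d := by linarith
      nlinarith [sq_nonneg ((a : ℝ) - b)]
    · have : Q ≤ e := by linarith
      nlinarith [sq_nonneg ((a : ℝ) - b)]
    · linarith
  push_cast at hde
  have hab2 : (a : ℝ) = b := by nlinarith [sq_nonneg ((a : ℝ) - b), sq_nonneg ((d : ℝ) - e)]
  have hde2 : (d : ℝ) = e := by nlinarith [sq_nonneg ((a : ℝ) - b), sq_nonneg ((d : ℝ) - e)]
  have hirr : irrFinset (SL F) = L := by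
    refine irrFinset_eq_of_sum hLirr ?_
    rw [natCard_SL_real, ← hQ]
    nlinarith
  have hab3 : (a : ℂ) = b := by exact_mod_cast hab2
  have hde3 : (d : ℂ) = e := by exact_mod_cast hde2
  rw [ha, hb] at hR1
  rw [hd, he, Int.cast_one, one_mul, one_mul] at hT1
  simp only [Int.cast_one, one_smul] at hT
  exact ⟨η, θ, x₁, x₂, y₁, y₂,
    { η_ne := hη1, η_sq := hηsq, η_all := hηall, η_iff := hηiff
      θ_ne := hθ1, θ_sq := hθsq, θ_all := hθall, θ_iff := hθiff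
      σ_eq := by rw [hσ, hm1], opp := by rw [hτ, hσ]
      x₁_irr := hx₁, x₂_irr := hx₂, y₁_irr := hy₁, y₂_irr := hy₂
      x_ne := hxne, y_ne := hyne, xy := hxy, R_eq := hR, Pi'_eq := hT
      x₁_one := by rw [ha]; linear_combination hR1 / 2 + hab3 / 2
      x₂_one := by rw [hb]; linear_combination hR1 / 2 - hab3 / 2
      y₁_one := by rw [hd]; linear_combination hT1 / 2 + hde3 / 2
      y₂_one := by rw [he]; linear_combination hT1 / 2 - hde3 / 2
      L0_ne := fun χ hχ => ⟨(hLR χ hχ).1, (hLR χ hχ).2, (hLT χ hχ).1, (hLT χ hχ).2⟩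
      irr_eq := hirr }⟩

end CfsgLib.SL2C
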