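import Cfsg.Agent.SL2C.Vals
import Cfsg.Agent.Char.Induction
import Cfsg.Prelude.Def_ParabolicCharacters
import Mathlib.NumberTheory.MulChar.Basic

/-!
Functions on SL₂ induced from the Borel subgroup and from a nonsplit torus.
-/

set_option autoImplicit false
set_option linter.unusedSectionVars false
set_option linter.style.haveILetI false

namespace CfsgLib.SL2C

open Matrix Finset
open scoped ComplexConjugate Classical

variable {F : Type*} [Field F]

/-- The upper triangular subgroup of SL₂. -/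
abbrev B (F : Type*) [Field F] : Subgroup (SL F) :=
  (Cfsg.upperTriangularGL 2 F).comap Matrix.SpecialLinearGroup.toGL

theorem mem_B {g : SL F} : g ∈ B F ↔ mt g 1 0 = 0 := by
  constructor
  · intro h
    exact h (show (0 : Fin 2) < 1 by decide)
  · intro h i j hij
    fin_cases i <;> fin_cases j <;> first | exact h | (exact absurd hij (by decide))

theorem apply00_ne_zero {g : SL F} (h : mt g 1 0 = 0) : mt g 0 0 ≠ 0 := by
  intro e
  have h1 := det_mt g
  rw [Matrix.det_fin_two, h, e] at h1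
  simp at h1

/-- The top left entry, as a homomorphism on the Borel subgroup. -/
noncomputable def bHom : B F →* Fˣ where
  toFun b := Units.mk0 (mt b.1 0 0) (apply00_ne_zero (mem_B.1 b.2))
  map_one' := Units.ext (by simp [mt_one])
  map_mul' a b := Units.ext (by
    simp [mt_mul, Matrix.mul_apply, Fin.sum_univ_two, mem_B.1 b.2])

theorem bHom_bor (a : Fˣ) (b : F) (h : bor a b ∈ B F) : bHom ⟨bor a b, h⟩ = a :=
  Units.ext (by simp [bHom, bor])

theorem bor_mem_B (a : Fˣ) (b : F) : bor a b ∈ B F := mem_B.2 (by simp [bor])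

variable [Fintype F]

/-- The function induced from the Borel subgroup by a character of `Fˣ`. -/
noncomputable def R (α : Fˣ →* ℂˣ) : SL F → ℂ :=
  Cfsg.indFun (B F) fun b => ch α (bHom b)

theorem R_eq [DecidableEq F] (α : MulChar F ℂ) :
    Cfsg.indFun (B F) (fun b => α ((b.1 : Matrix (Fin 2) (Fin 2) F) 0 0)) =
      R α.toUnitHom := by
  rw [R, show (fun b : B F => ch α.toUnitHom (bHom b)) = fun b => α (mt b.1 0 0) from
    funext fun b => MulChar.coe_toUnitHom α (bHom b)]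
  convert rfl

theorem R_isCharacter (α : Fˣ →* ℂˣ) : Cfsg.IsCharacter (SL F) (R α) :=
  CfsgLib.Char.IsCharacter.indFun (CfsgLib.Char.isCharacter_ofHom (α.comp bHom))

theorem card_B : Nat.card (B F) = (Fintype.card F - 1) * Fintype.card F := by
  rw [← Nat.card_eq_of_bijective (fun p : Fˣ × F => (⟨bor p.1 p.2, bor_mem_B _ _⟩ : B F))
    ⟨fun p q h => Prod.ext (bor_inj (congrArg Subtype.val h)).1 (bor_inj (congrArg Subtype.val h)).2,
      fun g => ?_⟩, Nat.card_prod, Nat.card_eq_fintype_card, Nat.card_eq_fintype_card,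
    Fintype.card_units]
  obtain ⟨a, b, h⟩ := exists_bor_of_apply (mem_B.1 g.2)
  exact ⟨⟨a, b⟩, Subtype.ext h.symm⟩

theorem cast_card_B :
    (Nat.card (B F) : ℂ) = ((Fintype.card F : ℂ) - 1) * (Fintype.card F : ℂ) := by
  rw [card_B, Nat.cast_mul, Nat.cast_sub Fintype.card_pos, Nat.cast_one]

theorem q_sub_one_ne_zero : (Fintype.card F : ℂ) - 1 ≠ 0 := by
  rw [sub_ne_zero]; exact_mod_cast (Fintype.one_lt_card (α := F)).ne'

theorem q_add_one_ne_zero : (Fintype.card F : ℂ) + 1 ≠ 0 := Nat.cast_add_one_ne_zero _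

theorem q_ne_zero : (Fintype.card F : ℂ) ≠ 0 := Nat.cast_ne_zero.2 Fintype.card_ne_zero

theorem extend_B (α : Fˣ →* ℂˣ) {g : SL F} {a : Fˣ} (h : mt g 1 0 = 0) (ha : (a : F) = mt g 0 0) :
    Cfsg.extendByZero (B F) (fun b => ch α (bHom b)) g = ch α a := by
  rw [CfsgLib.Char.extendByZero_of_mem _ (mem_B.2 h)]
  congr 1
  exact Units.ext (by simp [bHom, ha])

theorem card_filter_10 :
    (univ.filter fun x : SL F => mt x 1 0 = 0).card = Nat.card (B F) := by
  rw [Nat.card_eq_fintype_card, Fintype.card_subtype]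
  congr 1
  ext x
  simpa using mem_B.symm

theorem card_filter_00 :
    (univ.filter fun x : SL F => mt x 0 0 = 0).card = Nat.card (B F) := by
  rw [← card_filter_10]
  let w : SL F := ⟨!![0, 1; -1, 0], by simp [Matrix.det_fin_two_of]⟩
  refine Finset.card_equiv (Equiv.mulLeft w) fun x => ?_
  simp only [Finset.mem_filter, Finset.mem_univ, true_and, Equiv.coe_mulLeft]
  rw [mt_mul]
  simp [w, Matrix.mul_apply, Fin.sum_univ_two]

theorem conj_dg_apply (a : Fˣ) (x : SL F) :
    mt (x⁻¹ * dg a * x) 1 0 = mt x 0 0 * mt x 1 0 * (((a⁻¹ : Fˣ) : F) - (a : F)) ∧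
    mt (x⁻¹ * dg a * x) 0 0 =
      (a : F) * mt x 1 1 * mt x 0 0 - ((a⁻¹ : Fˣ) : F) * mt x 0 1 * mt x 1 0 := by
  rw [mt_mul, mt_mul, mt_inv, mt_dg]
  constructor <;> simp [Matrix.mul_apply, Fin.sum_univ_two, Matrix.trace_fin_two] <;> ring

theorem R_apply_cen (α : Fˣ →* ℂˣ) {e : Fˣ} (he : e ∈ sgn F) :
    R α (bor e 0) = ((Fintype.card F : ℂ) + 1) * ch α e := by
  have hconj : ∀ x : SL F, x⁻¹ * bor e 0 * x = bor e 0 := fun x => by
    rw [mul_assoc, ← Subgroup.mem_center_iff.1 (bor_mem_center_iff.2 ⟨mem_sgn.1 he, rfl⟩) x,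
      inv_mul_cancel_left]
  rw [R, CfsgLib.Char.indFun_def]
  simp only [hconj, extend_B α (show mt (bor e 0) 1 0 = 0 by simp [bor])
    (show (e : F) = mt (bor e 0) 0 0 by simp [bor]), Finset.sum_const, Finset.card_univ,
    nsmul_eq_mul, cast_card_B, cast_card_SL2]
  field_simp [q_sub_one_ne_zero, q_ne_zero]
  ring

theorem R_apply_dg (α : Fˣ →* ℂˣ) {a : Fˣ} (ha : a ∈ reg F) :
    R α (dg a) = ch α a + ch α a⁻¹ := by
  have hne : ((a⁻¹ : Fˣ) : F) - (a : F) ≠ 0 := fun e =>
    mem_reg.1 ha (inv_eq_iff_mul_eq_one.1 (Units.ext (sub_eq_zero.1 e)))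
  have hterm : ∀ x : SL F,
      Cfsg.extendByZero (B F) (fun b => ch α (bHom b)) (x⁻¹ * dg a * x) =
        (if mt x 1 0 = 0 then ch α a else 0) + (if mt x 0 0 = 0 then ch α a⁻¹ else 0) := by
    intro x
    obtain ⟨h10, h00⟩ := conj_dg_apply a x
    have hd := det_mt x
    rw [Matrix.det_fin_two] at hd
    by_cases h1 : mt x 1 0 = 0
    · have h0 : mt x 0 0 ≠ 0 := apply00_ne_zero h1
      rw [h1] at hd
      rw [if_pos h1, if_neg h0, add_zero, extend_B α (a := a) (by rw [h10, h1]; ring)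
        (by rw [h00, h1]; linear_combination -(a : F) * hd)]
    · by_cases h0 : mt x 0 0 = 0
      · rw [h0] at hd
        rw [if_neg h1, if_pos h0, zero_add, extend_B α (a := a⁻¹) (by rw [h10, h0]; ring)
          (by rw [h00, h0]; linear_combination -((a⁻¹ : Fˣ) : F) * hd)]
      · rw [if_neg h1, if_neg h0, add_zero, CfsgLib.Char.extendByZero_of_not_mem]
        rw [mem_B, h10]
        exact mul_ne_zero (mul_ne_zero h0 h1) hne
  rw [R, CfsgLib.Char.indFun_def, Finset.sum_congr rfl fun x _ => hterm x, Finset.sum_add_distrib,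
    ← Finset.sum_filter, ← Finset.sum_filter, Finset.sum_const, Finset.sum_const, card_filter_10,
    card_filter_00, nsmul_eq_mul, nsmul_eq_mul]
  have hB : (Nat.card (B F) : ℂ) ≠ 0 := Nat.cast_ne_zero.2 Nat.card_pos.ne'
  field_simp

theorem R_apply_par (α : Fˣ →* ℂˣ) {e : Fˣ} (he : e ∈ sgn F) {b : F} (hb : b ≠ 0) :
    R α (bor e b) = ch α e := by
  have heinv : ((e⁻¹ : Fˣ) : F) = e := by rw [inv_eq_of_mul_eq_one_left (mem_sgn.1 he)]
  have hterm : ∀ x : SL F,
      Cfsg.extendByZero (B F) (fun b => ch α (bHom b)) (x⁻¹ * bor e b * x) =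
        if mt x 1 0 = 0 then ch α e else 0 := by
    intro x
    have hd := det_mt x
    rw [Matrix.det_fin_two] at hd
    have h10 : mt (x⁻¹ * bor e b * x) 1 0 = -(b * (mt x 1 0 * mt x 1 0)) := by
      rw [mt_mul, mt_mul, mt_inv, mt_bor, heinv]
      simp [Matrix.mul_apply, Fin.sum_univ_two, Matrix.trace_fin_two]
      ring
    split_ifs with h1
    · refine extend_B α (by rw [h10, h1]; ring) ?_
      have h00 : mt (x⁻¹ * bor e b * x) 0 0 = (e : F) * (mt x 0 0 * mt x 1 1 - mt x 0 1 * mt x 1 0)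
          + b * mt x 1 1 * mt x 1 0 := by
        rw [mt_mul, mt_mul, mt_inv, mt_bor, heinv]
        simp [Matrix.mul_apply, Fin.sum_univ_two, Matrix.trace_fin_two]
        ring
      rw [h00, hd, h1]; ring
    · rw [CfsgLib.Char.extendByZero_of_not_mem]
      rw [mem_B, h10]
      exact neg_ne_zero.2 (mul_ne_zero hb (mul_ne_zero h1 h1))
  rw [R, CfsgLib.Char.indFun_def, Finset.sum_congr rfl fun x _ => hterm x, ← Finset.sum_filter,
    Finset.sum_const, card_filter_10, nsmul_eq_mul,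
    inv_mul_cancel_left₀ (Nat.cast_ne_zero.2 Nat.card_pos.ne')]

theorem R_apply_ell (α : Fˣ →* ℂˣ) {g : SL F} (hg : Ell g) : R α g = 0 := by
  refine CfsgLib.Char.indFun_eq_zero _ fun x hx => ?_
  obtain ⟨a, b, hab⟩ := exists_bor_of_apply (mem_B.1 hx)
  refine not_ell_bor a b (hg.of_isConj (isConj_iff.2 ⟨x⁻¹, ?_⟩))
  rw [← hab, inv_inv]

theorem R_vals {c : SL F} (hc : Ell c) (α : Fˣ →* ℂˣ) :
    Vals c (R α) (fun e => ((Fintype.card F : ℂ) + 1) * ch α e)
      (fun a => ch α a + ch α⁻¹ a) (fun e _ => ch α e) 0 :=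
  ⟨CfsgLib.Char.isClassFunction_indFun _ _, fun _ he => R_apply_cen α he,
    fun a ha => by rw [R_apply_dg α ha, ch, ch, ch, MonoidHom.inv_apply, ← map_inv],
    fun _ he _ hb => R_apply_par α he hb,
    fun _ hy => R_apply_ell α (ell_of_mem_torReg hc hy)⟩

/-! ### Induction from the torus -/

/-- The function induced from a character of a nonsplit torus. -/
noncomputable def T {c : SL F} (θ : tor c →* ℂˣ) : SL F → ℂ :=
  Cfsg.indFun (tor c) fun y => (θ y : ℂ)

theorem T_isCharacter {c : SL F} (θ : tor c →* ℂˣ) : Cfsg.IsCharacter (SL F) (T θ) :=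
  CfsgLib.Char.IsCharacter.indFun (CfsgLib.Char.isCharacter_ofHom θ)

theorem extend_tor {c : SL F} (θ : tor c →* ℂˣ) (g : SL F) :
    Cfsg.extendByZero (tor c) (fun y => (θ y : ℂ)) g = th θ g := by
  unfold th
  split_ifs with h
  · rw [CfsgLib.Char.extendByZero_of_mem _ h]
  · rw [CfsgLib.Char.extendByZero_of_not_mem _ h]

theorem T_apply_cen {c : SL F} (hc : Ell c) (θ : tor c →* ℂˣ) {e : Fˣ} (he : e ∈ sgn F) :
    T θ (bor e 0) = (Fintype.card F : ℂ) * ((Fintype.card F : ℂ) - 1) * tc θ e := by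
  have hconj : ∀ x : SL F, x⁻¹ * bor e 0 * x = bor e 0 := fun x => by
    rw [mul_assoc, ← Subgroup.mem_center_iff.1 (bor_mem_center_iff.2 ⟨mem_sgn.1 he, rfl⟩) x,
      inv_mul_cancel_left]
  rw [T, CfsgLib.Char.indFun_def]
  simp only [hconj, extend_tor, Finset.sum_const, Finset.card_univ, nsmul_eq_mul, card_tor hc,
    cast_card_SL2]
  push_cast
  field_simp [q_add_one_ne_zero]
  ring

theorem T_apply_of_not_ell {c : SL F} (hc : Ell c) (θ : tor c →* ℂˣ) {g : SL F} (hg : ¬ Ell g)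
    (hgc : g ∉ Subgroup.center (SL F)) : T θ g = 0 := by
  refine CfsgLib.Char.indFun_eq_zero _ fun x hx => hg ?_
  have hc1 : IsConj (x⁻¹ * g * x) g := isConj_iff.2 ⟨x, by group⟩
  exact (ell_of_mem_torReg hc (mem_torReg.2 ⟨hx, fun h => hgc (mem_center_of_isConj h hc1)⟩)).of_isConj
    hc1

theorem T_apply_tor {c : SL F} (hc : Ell c) (θ : tor c →* ℂˣ) {y : SL F} (hy : y ∈ torReg c) :
    T θ y = th θ y + th θ⁻¹ y := by
  have hye := ell_of_mem_torReg hc hy
  have hyt := tor_eq_of_mem hc hy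
  obtain ⟨w, hw⟩ := exists_inverting hye
  have hterm : ∀ x : SL F, th θ (x⁻¹ * y * x) =
      (if x⁻¹ * y * x = y then th θ y else 0) + (if x⁻¹ * y * x = y⁻¹ then th θ y⁻¹ else 0) := by
    intro x
    by_cases h : x⁻¹ * y * x ∈ tor c
    · rw [← hyt, Subgroup.mem_centralizer_singleton_iff] at h
      rcases eq_or_eq_inv_of_commute hye h.symm
        (trace_eq_of_isConj (isConj_iff.2 ⟨x, by group⟩)) with h1 | h1
      · rw [h1, if_pos rfl, if_neg fun e => hye.inv_ne_self e.symm, add_zero]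
      · rw [h1, if_pos rfl, if_neg hye.inv_ne_self, zero_add]
    · have h1 : x⁻¹ * y * x ≠ y := fun e => h (by rw [e]; exact (mem_torReg.1 hy).1)
      have h2 : x⁻¹ * y * x ≠ y⁻¹ := fun e => h (by rw [e]; exact inv_mem (mem_torReg.1 hy).1)
      rw [if_neg h1, if_neg h2, add_zero, th, dif_neg h]
  have hc1 : (univ.filter fun x : SL F => x⁻¹ * y * x = y).card = Fintype.card F + 1 := by
    rw [← card_tor hc, ← hyt, Nat.card_eq_fintype_card, Fintype.card_subtype]
    congr 1
    ext x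
    simp only [Finset.mem_filter, Finset.mem_univ, true_and, Subgroup.mem_centralizer_singleton_iff]
    rw [mul_assoc, inv_mul_eq_iff_eq_mul]
    exact eq_comm
  have hc2 : (univ.filter fun x : SL F => x⁻¹ * y * x = y⁻¹).card = Fintype.card F + 1 := by
    rw [← hc1]
    refine (Finset.card_equiv (Equiv.mulRight w) fun x => ?_).symm
    simp only [Finset.mem_filter, Finset.mem_univ, true_and, Equiv.coe_mulRight, ← hw]
    rw [show (x * w)⁻¹ * y * (x * w) = w⁻¹ * (x⁻¹ * y * x) * w by group]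
    simp
  rw [T, CfsgLib.Char.indFun_def]
  simp only [extend_tor]
  rw [Finset.sum_congr rfl fun x _ => hterm x, Finset.sum_add_distrib,
    ← Finset.sum_filter, ← Finset.sum_filter, Finset.sum_const, Finset.sum_const, hc1, hc2,
    card_tor hc, nsmul_eq_mul, nsmul_eq_mul, th_apply_inv]
  push_cast
  field_simp [q_add_one_ne_zero]

theorem T_vals {c : SL F} (hc : Ell c) (θ : tor c →* ℂˣ) :
    Vals c (T θ) (fun e => (Fintype.card F : ℂ) * ((Fintype.card F : ℂ) - 1) * tc θ e)
      0 0 (fun y => th θ y + th θ⁻¹ y) :=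
  ⟨CfsgLib.Char.isClassFunction_indFun _ _, fun _ he => T_apply_cen hc θ he,
    fun a ha => T_apply_of_not_ell hc θ (not_ell_bor a 0) fun h =>
      mem_reg.1 ha (bor_mem_center_iff.1 (show bor a 0 ∈ _ from h)).1,
    fun e _ b hb => T_apply_of_not_ell hc θ (not_ell_bor e b) fun h =>
      hb (bor_mem_center_iff.1 h).2,
    fun _ hy => T_apply_tor hc θ hy⟩

end CfsgLib.SL2C
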