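import Cfsg.Agent.SL2C.Weyl
import Cfsg.Agent.SL2C.AbChar
import Cfsg.Agent.Char.Inner

/-!
Class functions on SL₂ given by their values on the four types of elements.
-/

set_option autoImplicit false
set_option linter.unusedSectionVars false
set_option linter.style.haveILetI false

namespace CfsgLib.SL2C

open Matrix Finset
open scoped ComplexConjugate Classical

variable {F : Type*} [Field F] [Fintype F]

/-- `f` takes the values `cv`, `sv`, `pv`, `tv` on central, split, parabolic and toral elements. -/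
structure Vals (c : SL F) (f : SL F → ℂ) (cv sv : Fˣ → ℂ) (pv : Fˣ → F → ℂ) (tv : SL F → ℂ) :
    Prop where
  cls : Cfsg.IsClassFunction (SL F) f
  cen : ∀ e ∈ sgn F, f (bor e 0) = cv e
  spl : ∀ a ∈ reg F, f (dg a) = sv a
  par : ∀ e ∈ sgn F, ∀ b : F, b ≠ 0 → f (bor e b) = pv e b
  tor : ∀ y ∈ torReg c, f y = tv y

variable {c : SL F} {f g : SL F → ℂ} {cv cv' sv sv' : Fˣ → ℂ} {pv pv' : Fˣ → F → ℂ}
  {tv tv' : SL F → ℂ}

theorem Vals.congr (h : Vals c f cv sv pv tv) (h1 : ∀ e ∈ sgn F, cv e = cv' e)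
    (h2 : ∀ a ∈ reg F, sv a = sv' a) (h3 : ∀ e ∈ sgn F, ∀ b : F, b ≠ 0 → pv e b = pv' e b)
    (h4 : ∀ y ∈ torReg c, tv y = tv' y) : Vals c f cv' sv' pv' tv' :=
  ⟨h.cls, fun e he => (h.cen e he).trans (h1 e he), fun a ha => (h.spl a ha).trans (h2 a ha),
    fun e he b hb => (h.par e he b hb).trans (h3 e he b hb),
    fun y hy => (h.tor y hy).trans (h4 y hy)⟩

theorem vals_one : Vals c (fun _ => (1 : ℂ)) (fun _ => 1) (fun _ => 1) (fun _ _ => 1) (fun _ => 1) :=
  ⟨fun _ _ => rfl, fun _ _ => rfl, fun _ _ => rfl, fun _ _ _ _ => rfl, fun _ _ => rfl⟩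

theorem Vals.add (h : Vals c f cv sv pv tv) (h' : Vals c g cv' sv' pv' tv') :
    Vals c (f + g) (cv + cv') (sv + sv') (pv + pv') (tv + tv') := by
  refine ⟨fun x y => ?_, fun e he => ?_, fun a ha => ?_, fun e he b hb => ?_, fun y hy => ?_⟩
  · simp [h.cls x y, h'.cls x y]
  · simp [h.cen e he, h'.cen e he]
  · simp [h.spl a ha, h'.spl a ha]
  · simp [h.par e he b hb, h'.par e he b hb]
  · simp [h.tor y hy, h'.tor y hy]

theorem Vals.sub (h : Vals c f cv sv pv tv) (h' : Vals c g cv' sv' pv' tv') :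
    Vals c (f - g) (cv - cv') (sv - sv') (pv - pv') (tv - tv') := by
  refine ⟨fun x y => ?_, fun e he => ?_, fun a ha => ?_, fun e he b hb => ?_, fun y hy => ?_⟩
  · simp [h.cls x y, h'.cls x y]
  · simp [h.cen e he, h'.cen e he]
  · simp [h.spl a ha, h'.spl a ha]
  · simp [h.par e he b hb, h'.par e he b hb]
  · simp [h.tor y hy, h'.tor y hy]

theorem Vals.mul (h : Vals c f cv sv pv tv) (h' : Vals c g cv' sv' pv' tv') :
    Vals c (f * g) (cv * cv') (sv * sv') (pv * pv') (tv * tv') := by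
  refine ⟨fun x y => ?_, fun e he => ?_, fun a ha => ?_, fun e he b hb => ?_, fun y hy => ?_⟩
  · simp [h.cls x y, h'.cls x y]
  · simp [h.cen e he, h'.cen e he]
  · simp [h.spl a ha, h'.spl a ha]
  · simp [h.par e he b hb, h'.par e he b hb]
  · simp [h.tor y hy, h'.tor y hy]

theorem Vals.smul (h : Vals c f cv sv pv tv) (k : ℂ) :
    Vals c (k • f) (k • cv) (k • sv) (k • pv) (k • tv) := by
  refine ⟨fun x y => ?_, fun e he => ?_, fun a ha => ?_, fun e he b hb => ?_, fun y hy => ?_⟩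
  · simp [h.cls x y]
  · simp [h.cen e he]
  · simp [h.spl a ha]
  · simp [h.par e he b hb]
  · simp [h.tor y hy]

theorem bor_one_zero : bor (1 : Fˣ) (0 : F) = 1 := map_one (dg : Fˣ →* SL F)

theorem Vals.apply_one (h : Vals c f cv sv pv tv) : f 1 = cv 1 := by
  rw [← h.cen 1 (mem_sgn.2 (one_mul 1)), bor_one_zero]

theorem Vals.eq_of (hc : Ell c) (h : Vals c f cv sv pv tv) (h' : Vals c g cv sv pv tv) : f = g := by
  funext x
  rcases cases4' hc x with ⟨e, he, rfl⟩ | ⟨a, ha, hx⟩ | ⟨e, b, he, hb, hx⟩ | ⟨s, hs, hx⟩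
  · rw [h.cen e (mem_sgn.2 he), h'.cen e (mem_sgn.2 he)]
  · rw [← CfsgLib.Char.IsClassFunction.apply_eq_of_isConj h.cls hx,
      ← CfsgLib.Char.IsClassFunction.apply_eq_of_isConj h'.cls hx,
      h.spl a (mem_reg.2 ha), h'.spl a (mem_reg.2 ha)]
  · rw [← CfsgLib.Char.IsClassFunction.apply_eq_of_isConj h.cls hx,
      ← CfsgLib.Char.IsClassFunction.apply_eq_of_isConj h'.cls hx,
      h.par e (mem_sgn.2 he) b hb, h'.par e (mem_sgn.2 he) b hb]
  · rw [← CfsgLib.Char.IsClassFunction.apply_eq_of_isConj h.cls hx,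
      ← CfsgLib.Char.IsClassFunction.apply_eq_of_isConj h'.cls hx, h.tor s hs, h'.tor s hs]

/-- The inner product from the values. -/
theorem Vals.card_mul_inner (hc : Ell c) (h : Vals c f cv sv pv tv)
    (h' : Vals c g cv' sv' pv' tv') :
    (Fintype.card (SL F) : ℂ) * Cfsg.classInner f g =
      ∑ e ∈ sgn F, cv e * conj (cv' e) +
      (Fintype.card F : ℂ) * ((Fintype.card F : ℂ) + 1) / 2 *
        ∑ a ∈ reg F, sv a * conj (sv' a) +
      ((Fintype.card F : ℂ) + 1) *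
        (∑ e ∈ sgn F, ∑ b ∈ univ.filter (fun b : F => b ≠ 0), pv e b * conj (pv' e b)) +
      (Fintype.card F : ℂ) * ((Fintype.card F : ℂ) - 1) / 2 *
        ∑ y ∈ torReg c, tv y * conj (tv' y) := by
  rw [← Nat.card_eq_fintype_card, ← CfsgLib.Char.sum_eq_card_mul_classInner,
    sum_eq hc (f := fun x => f x * conj (g x)) fun x y => by rw [h.cls x y, h'.cls x y]]
  simp only [Finset.sum_congr rfl fun e he => show f (bor e 0) * conj (g (bor e 0)) =
      cv e * conj (cv' e) by rw [h.cen e he, h'.cen e he],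
    Finset.sum_congr rfl fun a ha => show f (dg a) * conj (g (dg a)) = sv a * conj (sv' a) by
      rw [h.spl a ha, h'.spl a ha],
    Finset.sum_congr rfl fun e he =>
      Finset.sum_congr (s₁ := univ.filter (fun b : F => b ≠ 0)) rfl fun b hb =>
      show f (bor e b) * conj (g (bor e b)) = pv e b * conj (pv' e b) by
        rw [h.par e he b (Finset.mem_filter.1 hb).2, h'.par e he b (Finset.mem_filter.1 hb).2],
    Finset.sum_congr rfl fun y hy => show f y * conj (g y) = tv y * conj (tv' y) by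
      rw [h.tor y hy, h'.tor y hy]]

theorem card_SL_ne_zero : (Fintype.card (SL F) : ℂ) ≠ 0 :=
  Nat.cast_ne_zero.2 Fintype.card_ne_zero

theorem card_filter_ne_zero :
    ((univ.filter fun b : F => b ≠ 0).card : ℂ) = (Fintype.card F : ℂ) - 1 := by
  rw [Finset.filter_ne', Finset.card_erase_of_mem (Finset.mem_univ _), Finset.card_univ,
    Nat.cast_sub Fintype.card_pos, Nat.cast_one]

/-! ### Sums of the linear characters over the four types -/

/-- A character of `Fˣ` as a complex function. -/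
noncomputable abbrev ch (α : Fˣ →* ℂˣ) (a : Fˣ) : ℂ := (α a : ℂ)

theorem ch_mul (α β : Fˣ →* ℂˣ) (a : Fˣ) : ch (α * β) a = ch α a * ch β a := Units.val_mul _ _

theorem ch_inv (α : Fˣ →* ℂˣ) (a : Fˣ) : ch α⁻¹ a = (ch α a)⁻¹ := Units.val_inv_eq_inv_val _

theorem conj_ch (α : Fˣ →* ℂˣ) (a : Fˣ) : conj (ch α a) = ch α⁻¹ a := conj_char α a

theorem ch_inv_sgn (α : Fˣ →* ℂˣ) {e : Fˣ} (he : e ∈ sgn F) : ch α⁻¹ e = ch α e := by
  rw [ch, MonoidHom.inv_apply, ← map_inv, inv_eq_of_mul_eq_one_left (mem_sgn.1 he)]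

theorem sum_reg (f : Fˣ → ℂ) : ∑ a ∈ reg F, f a = ∑ a, f a - ∑ e ∈ sgn F, f e := by
  rw [eq_sub_iff_add_eq', sgn, reg]
  exact Finset.sum_filter_add_sum_filter_not _ _ _

theorem sum_reg_ch (α : Fˣ →* ℂˣ) :
    ∑ a ∈ reg F, ch α a =
      (if α = 1 then (Fintype.card F : ℂ) - 1 else 0) - ∑ e ∈ sgn F, ch α e := by
  rw [sum_reg, sum_char, Fintype.card_units, Nat.cast_sub Fintype.card_pos, Nat.cast_one]

/-- A character of the torus, extended by zero. -/
noncomputable def th (θ : tor c →* ℂˣ) (y : SL F) : ℂ :=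
  if h : y ∈ tor c then (θ ⟨y, h⟩ : ℂ) else 0

theorem th_coe (θ : tor c →* ℂˣ) (y : tor c) : th θ (y : SL F) = (θ y : ℂ) := by
  simp [th]

theorem th_mul (θ η : tor c →* ℂˣ) (y : SL F) : th (θ * η) y = th θ y * th η y := by
  unfold th; split_ifs <;> simp

theorem th_inv (θ : tor c →* ℂˣ) (y : SL F) : th θ⁻¹ y = (th θ y)⁻¹ := by
  unfold th; split_ifs <;> simp

theorem conj_th (θ : tor c →* ℂˣ) (y : SL F) : conj (th θ y) = th θ⁻¹ y := by
  unfold th; split_ifs
  · exact conj_char θ _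
  · simp

theorem th_apply_inv (θ : tor c →* ℂˣ) (y : SL F) : th θ y⁻¹ = th θ⁻¹ y := by
  unfold th
  by_cases h : y ∈ tor c
  · rw [dif_pos h, dif_pos (inv_mem h), MonoidHom.inv_apply, ← map_inv]
    rfl
  · rw [dif_neg h, dif_neg fun h' => h (inv_mem_iff.1 h')]

theorem bor_mem_tor (e : Fˣ) (he : e ∈ sgn F) : bor e 0 ∈ tor c :=
  Subgroup.center_le_centralizer _ (bor_mem_center_iff.2 ⟨mem_sgn.1 he, rfl⟩)

/-- The value of a torus character at the central element attached to `e`. -/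
noncomputable abbrev tc (θ : tor c →* ℂˣ) (e : Fˣ) : ℂ := th θ (bor e 0)

theorem tc_inv (θ : tor c →* ℂˣ) {e : Fˣ} (he : e ∈ sgn F) : tc θ⁻¹ e = tc θ e := by
  rw [tc, ← th_apply_inv]
  congr 1
  rw [show bor e 0 = dg e from rfl, ← map_inv, inv_eq_of_mul_eq_one_left (mem_sgn.1 he)]

theorem tc_mul_self (θ : tor c →* ℂˣ) {e : Fˣ} (he : e ∈ sgn F) : tc θ e * tc θ e = 1 := by
  rw [tc, th, dif_pos (bor_mem_tor e he), ← Units.val_mul, ← map_mul,
    show (⟨bor e 0, bor_mem_tor e he⟩ * ⟨bor e 0, bor_mem_tor e he⟩ : tor c) = 1 from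
      Subtype.ext (show dg e * dg e = 1 by rw [← map_mul, mem_sgn.1 he, map_one]),
    map_one, Units.val_one]

theorem ch_mul_self (α : Fˣ →* ℂˣ) {e : Fˣ} (he : e ∈ sgn F) : ch α e * ch α e = 1 := by
  rw [ch, ← Units.val_mul, ← map_mul, mem_sgn.1 he, map_one, Units.val_one]

theorem card_tor_fintype (hc : Ell c) : Fintype.card (tor c) = Fintype.card F + 1 := by
  rw [← Nat.card_eq_fintype_card, card_tor hc]

theorem sum_torReg (φ : SL F → ℂ) :
    ∑ y ∈ torReg c, φ y = ∑ y : tor c, φ y - ∑ e ∈ sgn F, φ (bor e 0) := by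
  rw [eq_sub_iff_add_eq]
  have hz : (sgn F).image (fun e => bor e 0) =
      (univ.filter fun y => y ∈ tor c).filter fun y => ¬ y ∉ Subgroup.center (SL F) := by
    ext y
    simp only [Finset.mem_image, Finset.mem_filter, Finset.mem_univ, true_and, not_not, mem_sgn]
    constructor
    · rintro ⟨e, he, rfl⟩
      exact ⟨bor_mem_tor e (mem_sgn.2 he), bor_mem_center_iff.2 ⟨he, rfl⟩⟩
    · rintro ⟨-, hy⟩
      obtain ⟨a, ha, rfl⟩ := exists_eq_bor_of_mem_center hy
      exact ⟨a, ha, rfl⟩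
  have ht : torReg c = (univ.filter fun y => y ∈ tor c).filter
      fun y => y ∉ Subgroup.center (SL F) := by
    ext y; simp [mem_torReg]
  rw [← Finset.sum_image (f := φ) (g := fun e => bor e 0) (s := sgn F)
    fun a _ b _ h => (bor_inj h).1, ht, hz, Finset.sum_filter_add_sum_filter_not]
  exact Finset.sum_subtype _ (fun y => by simp) _

theorem sum_torReg_th (hc : Ell c) (θ : tor c →* ℂˣ) :
    ∑ y ∈ torReg c, th θ y =
      (if θ = 1 then (Fintype.card F : ℂ) + 1 else 0) - ∑ e ∈ sgn F, tc θ e := by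
  rw [sum_torReg]
  simp only [th_coe, sum_char, card_tor_fintype hc, Nat.cast_add, Nat.cast_one]

theorem comm_tor (hc : Ell c) (a b : tor c) : a * b = b * a := by
  haveI := isCyclic_tor hc
  exact IsCyclic.commGroup.mul_comm a b

end CfsgLib.SL2C
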